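import Cfsg.Agent.Lib.Lie.SubMax.Frame
import Cfsg.Agent.Lib.Classical.SL2PlaneField

/-!
An irrational long coordinate forces the fields with two and four elements.
-/

set_option autoImplicit false

namespace Cfsg.Agent.Lie.SubMax

open Cfsg.Lie Matrix
open scoped MatrixGroups


/-- The elements that lift to a subgroup along a normal subgroup. -/
theorem exists_lift {A Γ : Type*} [Group A] [Group Γ] (φ : A →* Γ) (V S : Subgroup Γ)
    (hN : ∀ a, φ a ∈ Subgroup.normalizer (V : Set Γ)) :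
    ∃ G : Subgroup A, ∀ a, a ∈ G ↔ ∃ v ∈ V, φ a * v ∈ S := by
  refine ⟨{ carrier := {a | ∃ v ∈ V, φ a * v ∈ S}
            one_mem' := ⟨1, one_mem _, by simp⟩
            mul_mem' := ?_
            inv_mem' := ?_ }, fun a => Iff.rfl⟩
  · rintro a b ⟨v, hv, ha⟩ ⟨w, hw, hb⟩
    refine ⟨(φ b)⁻¹ * v * φ b * w, mul_mem ((Subgroup.mem_normalizer_iff''.1 (hN b) v).1 hv) hw, ?_⟩
    have := mul_mem ha hb
    convert this using 1
    rw [map_mul]; group
  · rintro a ⟨v, hv, ha⟩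
    refine ⟨φ a * v⁻¹ * (φ a)⁻¹, (Subgroup.mem_normalizer_iff.1 (hN a) _).1 (inv_mem hv), ?_⟩
    have := inv_mem ha
    convert this using 1
    rw [map_inv]; group

variable {D : ChevalleyDatum} {F : Type*} [Field F] (hF : Facts D)

include hF in
/-- Conjugation of a root element with a single commutator term, which commutes with both. -/
theorem conj_one {r s k : ℕ} {N : ℤ} (hr : r < D.nroots) (hs : s < D.nroots) (h1 : s ≠ r) (h2 : s ≠ D.neg r)
    (h : D.commTerms r s = [(k, N, 1, 1)]) (hrk : ∀ a b : F, Commute (hF.xg r a) (hF.xg k b))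
    (hsk : ∀ a b : F, Commute (hF.xg s a) (hF.xg k b)) (t u : F) :
    hF.xg r t * hF.xg s u * (hF.xg r t)⁻¹ = hF.xg s u * hF.xg k ((N : F) * t * u) := by
  have e := swap_one hF hr hs h1 h2 h t u
  rw [mul_inv_eq_iff_eq_mul, mul_assoc (hF.xg s u), ← (hrk t _).eq, ← mul_assoc, e,
    mul_assoc, ← hF.xg_add, neg_add_cancel, hF.xg_zero, mul_one]

include hF in
theorem hg_conj {r s : ℕ} (hr : r < D.nroots) (hs : s < D.nroots) {k : F} (hk : k ≠ 0) (t : F) :
    hF.hg r k * hF.xg s t * (hF.hg r k)⁻¹ = hF.xg s (k ^ D.pairing r s * t) := by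
  rw [show k = ((Units.mk0 k hk : Fˣ) : F) from rfl, hF.hg_eq_torus hr, hF.torus_conj _ hs,
    Facts.torChar_hCoord, Units.val_zpow_eq_zpow_val]

variable (hR : okRad D = true) {K₀ : Subfield F} {H : Subgroup (GL D.Idx F)}
variable {t : ℕ → F} {z c : F}

include hF hR in
theorem top_seen (hle : rat hF K₀ ≤ H) {k : F} (hk : k ∈ K₀) :
    hF.xg (top D) k ∈ seen (qE hF t * hF.xg (top D) z) H := by
  rw [mem_seen, frame_top hF hR]
  exact hle (xg_mem_rat hF K₀ _ hk)

include hF in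
theorem bot_seen (h : low hF t z c ∈ H) :
    hF.xg (D.neg (top D)) c ∈ seen (qE hF t * hF.xg (top D) z) H := h

include hF hR in
theorem root_seen_iff {b : ℕ} (hb : b ∈ q1 D) (P : Part D b) {N : ℤ}
    (hN : D.commTerms b (opp D b) = [(top D, N, 1, 1)]) (s w : F) :
    hF.xg b s * hF.xg (top D) w ∈ seen (qE hF t * hF.xg (top D) z) H ↔
      hF.xg b s * hF.xg (top D) (w - (N : F) * s * t (opp D b)) ∈ H := by
  rw [mem_seen, ← conj_mul, frame_conj hF hR hb P hN, frame_top hF hR, mul_assoc, ← hF.xg_add]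
  rw [show -((N : F) * s * t (opp D b)) + w = w - (N : F) * s * t (opp D b) by ring]

include hF hR in
/-- The main lemma on long coordinates. -/
theorem Thin.long_irrational [Fintype F] (T : Thin hF K₀ H) (hlt : lg D (top D) = true)
    {b : ℕ} (hb : b ∈ q1 D) (hbl : lg D b = true) (O : OppData D b)
    (hc : c ≠ 0) (hlow : low hF t z c ∈ H) (ha : t (opp D b) ∉ K₀) :
    (∀ k ∈ K₀, k = 0 ∨ k = 1) ∧ ∃ K₁ : Subfield F, K₀ ≤ K₁ ∧ t (opp D b) ∈ K₁ ∧ c ∈ K₁ ∧
      ∀ μ ∈ K₁, ∃ x ∈ K₀, μ - x * t (opp D b) ∈ K₀ := by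
  obtain ⟨hbn, hgn, hbg, hbt, hbt', hgt, hgt'⟩ := opp_side hF hR hb O
  have htop := top_pos hF hR
  have hnt := hF.neg_lt htop.2
  obtain ⟨N, hN1, hN⟩ := O.toTop
  obtain ⟨Nu, hNu1, hup⟩ := O.up
  obtain ⟨Nd, -, hdn⟩ := O.down'
  set g := D.neg (opp D b) with hgdef
  set u := qE hF t * hF.xg (top D) z with hudef
  set S := seen u H with hSdef
  set a := t (opp D b) with hadef
  have hNN := natAbs_one_cast hN1 F
  have cbg : ∀ x y : F, Commute (hF.xg b x) (hF.xg g y) :=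
    xg_commute hF hbn hgn (fun e => by
      have := congrArg D.neg e
      rw [hgdef, hF.neg_neg (q1_pos O.mem).2, hF.neg_neg hbn] at this
      exact O.ne this) O.abel
  have ctb : ∀ x y : F, Commute (hF.xg (top D) x) (hF.xg b y) := fun x y =>
    (top_central hF hR (List.mem_cons_of_mem _ hb) y x).symm
  have hne_gt : g ≠ D.neg (top D) := hgt'
  have hne1 : g ≠ D.neg (D.neg (top D)) := by rw [hF.neg_neg htop.2]; exact hgt
  have ctg : ∀ x y : F, Commute (hF.xg (D.neg (top D)) x) (hF.xg g y) :=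
    xg_commute hF hnt hgn hne1 O.negs
  -- conjugation on the plane
  have cu : ∀ μ w : F, hF.xg (top D) μ * hF.xg g w * (hF.xg (top D) μ)⁻¹ =
      hF.xg g w * hF.xg b ((Nu : F) * μ * w) :=
    conj_one hF htop.2 hgn hgt hgt' hup (fun x y => ctb x y) fun x y => (cbg y x).symm
  have cd : ∀ μ w : F, hF.xg (D.neg (top D)) μ * hF.xg b w * (hF.xg (D.neg (top D)) μ)⁻¹ =
      hF.xg b w * hF.xg g ((Nd : F) * μ * w) :=
    conj_one hF hnt hbn hbt' (by rw [hF.neg_neg htop.2]; exact hbt) hdn (fun x y => ctg x y) cbg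
  let V : Subgroup (GL D.Idx F) :=
    { carrier := {v | ∃ w1 w2, v = hF.xg b w1 * hF.xg g w2}
      one_mem' := ⟨0, 0, by simp [hF.xg_zero]⟩
      mul_mem' := by
        rintro _ _ ⟨a1, a2, rfl⟩ ⟨b1, b2, rfl⟩
        refine ⟨a1 + b1, a2 + b2, ?_⟩
        rw [hF.xg_add, hF.xg_add, mul_assoc, ← mul_assoc (hF.xg g a2), ← (cbg b1 a2).eq]
        simp only [mul_assoc]
      inv_mem' := by
        rintro _ ⟨a1, a2, rfl⟩
        refine ⟨-a1, -a2, ?_⟩
        rw [hF.xg_neg, hF.xg_neg, _root_.mul_inv_rev, ((cbg a1 a2).inv_inv).eq] }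
  have hVb : ∀ w, hF.xg b w ∈ V := fun w => ⟨w, 0, by rw [hF.xg_zero, mul_one]⟩
  have hVg : ∀ w, hF.xg g w ∈ V := fun w => ⟨0, w, by rw [hF.xg_zero, one_mul]⟩
  obtain ⟨φ, hφr, hφ⟩ := hF.exists_sl2Hom (F := F) (top D) htop.2
  have hnorm : ∀ A, φ A ∈ Subgroup.normalizer (V : Set (GL D.Idx F)) := by
    have hle : φ.range ≤ Subgroup.normalizer (V : Set (GL D.Idx F)) := by
      rw [hφr, Subgroup.closure_le]
      have key : ∀ x : GL D.Idx F, (∀ v ∈ V, x * v * x⁻¹ ∈ V) → (∀ v ∈ V, x⁻¹ * v * x⁻¹⁻¹ ∈ V) →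
          x ∈ Subgroup.normalizer (V : Set (GL D.Idx F)) := fun x h1 h2 =>
        Subgroup.mem_normalizer_iff.2 fun v => ⟨h1 v, fun hv => by
          have := h2 _ hv; simpa [mul_assoc] using this⟩
      have ku : ∀ μ, ∀ v ∈ V, hF.xg (top D) μ * v * (hF.xg (top D) μ)⁻¹ ∈ V := by
        rintro μ _ ⟨w1, w2, rfl⟩
        rw [← conj_mul, (ctb μ w1).eq, mul_inv_cancel_right, cu]
        exact mul_mem (hVb _) (mul_mem (hVg _) (hVb _))
      have kd : ∀ μ, ∀ v ∈ V, hF.xg (D.neg (top D)) μ * v * (hF.xg (D.neg (top D)) μ)⁻¹ ∈ V := by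
        rintro μ _ ⟨w1, w2, rfl⟩
        rw [← conj_mul, (ctg μ w2).eq, mul_inv_cancel_right, cd]
        exact mul_mem (mul_mem (hVb _) (hVg _)) (hVg _)
      rintro x (⟨μ, rfl⟩ | ⟨μ, rfl⟩)
      · exact key _ (ku μ) (by rw [← hF.xg_neg]; exact ku (-μ))
      · exact key _ (kd μ) (by rw [← hF.xg_neg]; exact kd (-μ))
    exact fun A => hle ⟨A, rfl⟩
  obtain ⟨G, hG⟩ := exists_lift φ V S hnorm
  have hru : ∀ x ∈ K₀, hF.xg b ((N : F) * x) * hF.xg (top D) (x * a) ∈ S := fun x hx => by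
    rw [hSdef, hudef, root_seen_iff hF hR hb O.part hN, ← hadef,
      show x * a - (N : F) * ((N : F) * x) * a = 0 by linear_combination (-(x * a)) * hNN,
      hF.xg_zero, mul_one]
    exact T.le (xg_mem_rat hF K₀ _ (mul_mem (natAbs_one_mem K₀) hx))
  have huG : ∀ x ∈ K₀, ∀ y ∈ K₀, upS (x * a + y * 1) ∈ G := fun x hx y hy => by
    refine (hG _).2 ⟨hF.xg b ((N : F) * x), hVb _, ?_⟩
    rw [(hφ _).1, (ctb _ _).eq, hF.xg_add, ← mul_assoc, mul_one]
    exact mul_mem (hru x hx) (top_seen hF hR T.le hy)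
  have hlG : loS c ∈ G := (hG _).2 ⟨1, one_mem _, by rw [(hφ _).2, mul_one]; exact bot_seen hF hlow⟩
  have hind : ∀ x ∈ K₀, ∀ y ∈ K₀, x * a + y * 1 = 0 → x = 0 ∧ y = 0 := fun x hx y hy e => by
    by_cases h0 : x = 0
    · subst h0; exact ⟨rfl, by simpa using e⟩
    · exact absurd (by
        rw [show a = -(y * x⁻¹) by field_simp; linear_combination e]
        exact neg_mem (mul_mem hy (inv_mem hx))) ha
  have eU : ∀ μ : F, Cfsg.Agent.Small.PSL2.uS μ = upS μ := fun μ => by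
    apply Subtype.ext; ext i j; fin_cases i <;> fin_cases j <;> simp [upS]
  have eL : ∀ μ : F, Cfsg.Agent.Small.PSL2.vS μ = loS μ := fun μ => by
    apply Subtype.ext; ext i j; fin_cases i <;> fin_cases j <;> simp [loS]
  obtain ⟨K₁, hK₁, haK, hcK, hK⟩ := Cfsg.Agent.Classical.SL2Plane.shifts_field hc
    (by rw [eL]; exact hlG) (fun x hx y hy => by rw [eU]; simpa using huG x hx y hy) ha
  have hall : ∀ μ ∈ K₁, upS μ ∈ G := fun μ hμ => eU μ ▸ (hK μ hμ).1
  have hnnG : ∀ μ ∈ K₁, RankOneRel.nn (upS (F := F)) loS μ ∈ G := fun μ hμ =>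
    mul_mem (mul_mem (hall μ hμ) (eL _ ▸ (hK _ (neg_mem (inv_mem hμ))).2)) (hall μ hμ)
  have hpure : ∀ w, hF.xg b w ∈ S → w = 0 := fun w hw => by
    by_contra h0
    have h1 : hF.xg b w * hF.xg (top D) 0 ∈ S := by rwa [hF.xg_zero, mul_one]
    rw [hSdef, hudef, root_seen_iff hF hR hb O.part hN, ← hadef] at h1
    obtain ⟨hw0, hw1⟩ := T.pair hF hR hlt hb O h1
    refine ha ?_
    have := mul_mem (mul_mem (natAbs_one_mem K₀ (N := N)) (inv_mem hw0)) (neg_mem (hw1 hbl))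
    convert this using 1
    rw [show (N : F) * w⁻¹ * -(0 - (N : F) * w * a) = (N : F) * N * a * (w⁻¹ * w) by ring, inv_mul_cancel₀ h0,
      hNN, one_mul, mul_one]

  constructor
  · intro k hk
    by_contra hk01
    rw [not_or] at hk01
    obtain ⟨hk0, hk1⟩ := hk01
    set A := RankOneRel.hh (upS (F := F)) loS k with hA
    have hφA : φ A = hF.hg (top D) k := by
      rw [hA, hF.hg_eq, hF.ng_eq, hF.ng_eq]
      simp [RankOneRel.hh, RankOneRel.nn, hφ, inv_neg]
    obtain ⟨v, ⟨v1, v2, rfl⟩, hv⟩ := (hG A).1 (mul_mem (hnnG k (hK₁ hk)) (hnnG (-1) (neg_mem (one_mem _))))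
    rw [hφA] at hv
    have hconj : ∀ μ w : F, hF.xg (top D) μ * hF.xg b w ∈ S →
        hF.xg (top D) (k ^ 2 * μ) * hF.xg b (k * (w - (Nu : F) * μ * v2)) ∈ S := by
      intro μ w hw
      have h1 := mul_mem (mul_mem hv hw) (inv_mem hv)
      convert h1 using 1
      have e1 : hF.xg b v1 * hF.xg g v2 * (hF.xg (top D) μ * hF.xg b w) * (hF.xg b v1 * hF.xg g v2)⁻¹ =
          hF.xg (top D) μ * hF.xg b (w - (Nu : F) * μ * v2) := by
        have h3 := cu (-μ) v2
        have h4 : hF.xg g v2 * hF.xg (top D) μ =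
            hF.xg (top D) μ * hF.xg g v2 * hF.xg b (-((Nu : F) * μ * v2)) := by
          rw [← hF.xg_neg] at h3
          rw [show -((Nu : F) * μ * v2) = (Nu : F) * -μ * v2 by ring, mul_assoc, ← h3, neg_neg,
            ← mul_assoc, ← mul_assoc, ← hF.xg_add, add_neg_cancel, hF.xg_zero, one_mul]
        rw [mul_assoc (hF.xg b v1), ← mul_assoc (hF.xg g v2), h4, mul_assoc (hF.xg (top D) μ * hF.xg g v2),
          ← hF.xg_add, mul_assoc (hF.xg (top D) μ), ← (cbg _ v2).eq, ← mul_assoc, ← mul_assoc,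
          ← (ctb μ v1).eq, _root_.mul_inv_rev, ← mul_assoc, mul_inv_cancel_right, mul_assoc (hF.xg (top D) μ),
          (xg_self_commute hF b v1 _).eq, ← mul_assoc, mul_inv_cancel_right, neg_add_eq_sub]
      have e2 : ∀ x y : GL D.Idx F, hF.hg (top D) k * (x * y) * (hF.hg (top D) k)⁻¹ =
          hF.hg (top D) k * x * (hF.hg (top D) k)⁻¹ * (hF.hg (top D) k * y * (hF.hg (top D) k)⁻¹) :=
        fun x y => by group
      have p2 : D.pairing (top D) (top D) = 2 := lev_top hR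
      have p1 : D.pairing (top D) b = 1 := (mem_q1.1 hb).2
      calc hF.xg (top D) (k ^ 2 * μ) * hF.xg b (k * (w - (Nu : F) * μ * v2))
          = hF.hg (top D) k * (hF.xg (top D) μ * hF.xg b (w - (Nu : F) * μ * v2)) * (hF.hg (top D) k)⁻¹ := by
            rw [e2, hg_conj hF htop.2 htop.2 hk0, hg_conj hF htop.2 hbn hk0, p2, p1, zpow_one]
            norm_cast
        _ = _ := by rw [← e1]; group
    have h1 := hconj 1 0 (by rw [hF.xg_zero, mul_one]; exact top_seen hF hR T.le (one_mem _))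
    rw [mul_one] at h1
    have h1' := hpure _ ((Subgroup.mul_mem_cancel_left _ (top_seen hF hR T.le (pow_mem hk 2))).1 h1)
    have hv2 : v2 = 0 := by
      rcases Int.natAbs_eq Nu with e | e <;> rw [e, hNu1] at h1' <;> simpa [hk0] using h1'
    have h2 := hconj a (N : F) (by
      have := hru 1 (one_mem _)
      rwa [mul_one, one_mul, ← (ctb a _).eq] at this)
    rw [hv2, mul_zero, sub_zero] at h2
    have h3 := hru (k ^ 2) (pow_mem hk 2)
    rw [← (ctb (k ^ 2 * a) _).eq] at h3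
    have h4 := mul_mem (inv_mem h3) h2
    rw [_root_.mul_inv_rev, mul_assoc, inv_mul_cancel_left, ← hF.xg_neg, ← hF.xg_add] at h4
    have h5 := hpure _ h4
    have h6 : (N : F) * k * (1 - k) = 0 := by linear_combination h5
    rcases mul_eq_zero.1 h6 with h7 | h7
    · rcases mul_eq_zero.1 h7 with h8 | h8
      · exact zero_ne_one (by rw [← hNN, h8, zero_mul])
      · exact hk0 h8
    · exact hk1 (sub_eq_zero.1 h7).symm
  · refine ⟨K₁, hK₁, haK, hcK, fun μ hμK => ?_⟩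
    obtain ⟨v, ⟨s, s', rfl⟩, hv⟩ := (hG _).1 (hall μ hμK)
    rw [(hφ _).1] at hv
    have h1 := mul_mem (mul_mem (top_seen hF hR (z := z) (t := t) T.le (one_mem K₀)) hv)
      (inv_mem (top_seen hF hR (z := z) (t := t) T.le (one_mem K₀)))
    have e1 : hF.xg (top D) (1 : F) * (hF.xg (top D) μ * (hF.xg b s * hF.xg g s')) * (hF.xg (top D) 1)⁻¹ =
        hF.xg (top D) μ * (hF.xg b s * hF.xg g s') * hF.xg b ((Nu : F) * 1 * s') := by
      calc _ = hF.xg (top D) μ * (hF.xg (top D) 1 * hF.xg b s * (hF.xg (top D) 1)⁻¹ *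
            (hF.xg (top D) 1 * hF.xg g s' * (hF.xg (top D) 1)⁻¹)) := by
            rw [← mul_assoc (hF.xg (top D) (1 : F)), (xg_self_commute hF (top D) (1 : F) μ).eq]; group
        _ = _ := by rw [(ctb 1 s).eq, mul_inv_cancel_right, cu, ← mul_assoc (hF.xg b s), ← mul_assoc]
    rw [e1] at h1
    have h2 := hpure _ ((Subgroup.mul_mem_cancel_left _ hv).1 h1)
    have hs' : s' = 0 := by
      rcases Int.natAbs_eq Nu with e | e <;> rw [e, hNu1] at h2 <;> simpa using h2
    rw [hs', hF.xg_zero, mul_one, (ctb μ s).eq] at hv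
    rw [hSdef, hudef, root_seen_iff hF hR hb O.part hN, ← hadef] at hv
    obtain ⟨hs, hμ⟩ := T.pair hF hR hlt hb O hv
    exact ⟨(N : F) * s, mul_mem (natAbs_one_mem K₀) hs, hμ hbl⟩

include hF hR in
/-- An irrational long coordinate is a primitive cube root of unity, and the scalar is in the field with four
elements. -/
theorem Thin.long_four [Fintype F] (T : Thin hF K₀ H) (hlt : lg D (top D) = true)
    {b : ℕ} (hb : b ∈ q1 D) (hbl : lg D b = true) (O : OppData D b)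
    (hc : c ≠ 0) (hlow : low hF t z c ∈ H) (ha : t (opp D b) ∉ K₀) :
    (2 : F) = 0 ∧ (∀ k ∈ K₀, k = 0 ∨ k = 1) ∧ t (opp D b) * t (opp D b) = t (opp D b) + 1 ∧
      c ^ 4 = c := by
  obtain ⟨h01, K₁, -, haK, hcK, hdec⟩ := T.long_irrational hF hR hlt hb hbl O hc hlow ha
  set a := t (opp D b)
  have ha0 : a ≠ 0 := fun e => ha (e ▸ zero_mem _)
  have ha1 : a ≠ 1 := fun e => ha (e ▸ one_mem _)
  have h2 : (2 : F) = 0 := by
    rcases h01 ((1 : F) + 1) (add_mem (one_mem _) (one_mem _)) with e | e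
    · rw [← one_add_one_eq_two]; exact e
    · exact absurd (by linear_combination e) (one_ne_zero (α := F))
  have hcases : ∀ μ ∈ K₁, μ = 0 ∨ μ = 1 ∨ μ = a ∨ μ = a + 1 := fun μ hμ => by
    obtain ⟨x, hx, hy⟩ := hdec μ hμ
    rcases h01 x hx with rfl | rfl <;> rcases h01 _ hy with e | e
    · exact Or.inl (by simpa using e)
    · exact Or.inr (Or.inl (by simpa using e))
    · exact Or.inr (Or.inr (Or.inl (by linear_combination e)))
    · exact Or.inr (Or.inr (Or.inr (by linear_combination e)))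
  have hsq : a * a = a + 1 := by
    rcases hcases (a * a) (mul_mem haK haK) with e | e | e | e
    · exact absurd (mul_self_eq_zero.1 e) ha0
    · exfalso
      exact ha1 (sub_eq_zero.1 (mul_self_eq_zero.1 (by linear_combination e + (1 - a) * h2)))
    · exfalso
      exact ha1 (mul_left_cancel₀ ha0 (by rw [mul_one]; exact e))
    · exact e
  refine ⟨h2, h01, hsq, ?_⟩
  rcases hcases c hcK with e | e | e | e <;> rw [e]
  · ring
  · ring
  · linear_combination (a ^ 2 + a + 2) * hsq + (a + 1) * h2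
  · linear_combination (a ^ 2 + 5 * a + 12) * hsq + (10 * a + 6) * h2

end Cfsg.Agent.Lie.SubMax
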