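import Cfsg.Agent.Lib.Lie.SubMax.BTwoOdd
import Cfsg.Agent.Lib.Lie.SubMax.Plane

/-!
Type B2 in odd characteristic: the plane of the highest root.
-/

set_option autoImplicit false

namespace Cfsg.Agent.Lie.SubMax

open Cfsg.Lie Matrix
open scoped MatrixGroups

namespace BTwo

variable {F : Type*} [Field F] (hF : Facts chevB2)
variable {K₀ : Subfield F} {H : Subgroup (GL chevB2.Idx F)} {t : ℕ → F} {z c : F}

include hF in
/-- An irrational first coordinate is quadratic over the ground field in odd characteristic. -/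
theorem five_quad [Fintype F] (hR : okRad chevB2 = true) (T : Thin hF K₀ H) (h2 : (2 : F) ≠ 0)
    (hc : c ≠ 0) (hlow : low hF t z c ∈ H) : ∃ y ∈ K₀, (t 5 + y) ^ 2 ∈ K₀ := by
  by_cases ha : t 5 ∈ K₀
  · exact ⟨-t 5, neg_mem ha, by simp⟩
  set a := t 5 with hadef
  set u := qE hF t * hF.xg (top chevB2) z
  set S := seen u H with hS
  have c24 := cm hF (F := F) (r := 2) (s := 4) (by decide) (by decide) (by decide +kernel)
  have c64 := cm hF (F := F) (r := 6) (s := 4) (by decide) (by decide) (by decide +kernel)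
  have c76 := cm hF (F := F) (r := 7) (s := 6) (by decide) (by decide) (by decide +kernel)
  have c74 := cm hF (F := F) (r := 7) (s := 4) (by decide) (by decide) (by decide +kernel)
  have c04 := cm hF (F := F) (r := 0) (s := 4) (by decide) (by decide) (by decide +kernel)
  have c02 := cm hF (F := F) (r := 0) (s := 2) (by decide) (by decide) (by decide +kernel)
  have w72 : ∀ t u : F, hF.wg (chevB2.commWord F 7 2 t u) = hF.xg 6 (t * u) * hF.xg 4 (t * u ^ 2) := fun t u => by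
    simp [ChevalleyDatum.commWord, show chevB2.commTerms 7 2 = [(6, -1, 1, 1), (4, -1, 1, 2)] by decide +kernel,
      hF.wg_cons, hF.wg_nil]
  have w06 : ∀ t u : F, hF.wg (chevB2.commWord F 0 6 t u) = hF.xg 2 (t * u) * hF.xg 4 (-(t * u ^ 2)) := fun t u => by
    simp [ChevalleyDatum.commWord, show chevB2.commTerms 0 6 = [(2, -1, 1, 1), (4, 1, 1, 2)] by decide +kernel,
      hF.wg_cons, hF.wg_nil]
  have c26 : ∀ x y : F, hF.xg 2 y * hF.xg 6 x = hF.xg 6 x * hF.xg 2 y * hF.xg 4 (-(2 * x * y)) := fun x y => by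
    rw [swap_one hF (r := 6) (s := 2) (k := 4) (N := 2) (by decide) (by decide) (by decide) (by decide +kernel)
      (by decide +kernel) x y]
    push_cast; rfl
  let V : Subgroup (GL chevB2.Idx F) :=
    { carrier := {v | ∃ v1 v2 w, v = hF.xg 6 v1 * hF.xg 2 v2 * hF.xg 4 w}
      one_mem' := ⟨0, 0, 0, by simp [hF.xg_zero]⟩
      mul_mem' := by
        rintro _ _ ⟨a1, a2, a3, rfl⟩ ⟨b1, b2, b3, rfl⟩
        refine ⟨a1 + b1, a2 + b2, -(2 * b1 * a2) + (a3 + b3), ?_⟩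
        calc hF.xg 6 a1 * hF.xg 2 a2 * hF.xg 4 a3 * (hF.xg 6 b1 * hF.xg 2 b2 * hF.xg 4 b3)
            = hF.xg 6 a1 * (hF.xg 2 a2 * (hF.xg 4 a3 * hF.xg 6 b1)) * hF.xg 2 b2 * hF.xg 4 b3 := by group
          _ = hF.xg 6 a1 * (hF.xg 2 a2 * hF.xg 6 b1) * (hF.xg 4 a3 * hF.xg 2 b2) * hF.xg 4 b3 := by
              rw [← (c64 b1 a3).eq]; group
          _ = hF.xg 6 a1 * hF.xg 6 b1 * hF.xg 2 a2 * (hF.xg 4 (-(2 * b1 * a2)) * hF.xg 2 b2) * hF.xg 4 a3 *
                hF.xg 4 b3 := by rw [c26, ← (c24 b2 a3).eq]; group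
          _ = _ := by rw [← (c24 b2 _).eq]; simp only [hF.xg_add]; group
      inv_mem' := by
        rintro _ ⟨a1, a2, a3, rfl⟩
        refine ⟨-a1, -a2, -a3 + -(2 * -a1 * -a2), ?_⟩
        calc (hF.xg 6 a1 * hF.xg 2 a2 * hF.xg 4 a3)⁻¹
            = hF.xg 4 (-a3) * (hF.xg 2 (-a2) * hF.xg 6 (-a1)) := by
              simp only [hF.xg_neg]; group
          _ = (hF.xg 4 (-a3) * hF.xg 6 (-a1)) * hF.xg 2 (-a2) * hF.xg 4 (-(2 * -a1 * -a2)) := by rw [c26]; group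
          _ = hF.xg 6 (-a1) * (hF.xg 4 (-a3) * hF.xg 2 (-a2)) * hF.xg 4 (-(2 * -a1 * -a2)) := by
              rw [← (c64 (-a1) (-a3)).eq]; group
          _ = _ := by rw [← (c24 (-a2) (-a3)).eq, hF.xg_add]; group }
  have hV6 : ∀ x, hF.xg 6 x ∈ V := fun x => ⟨x, 0, 0, by simp [hF.xg_zero]⟩
  have hV2 : ∀ x, hF.xg 2 x ∈ V := fun x => ⟨0, x, 0, by simp [hF.xg_zero]⟩
  have hV4 : ∀ x, hF.xg 4 x ∈ V := fun x => ⟨0, 0, x, by simp [hF.xg_zero]⟩
  obtain ⟨φ, hφr, hφ⟩ := hF.exists_sl2Hom (F := F) (top chevB2) (top_lt hR)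
  simp only [top_eq, neg_top_eq] at hφ hφr
  have hnorm : ∀ A, φ A ∈ Subgroup.normalizer (V : Set (GL chevB2.Idx F)) := by
    have hle : φ.range ≤ Subgroup.normalizer (V : Set (GL chevB2.Idx F)) := by
      rw [hφr, Subgroup.closure_le]
      have key : ∀ x : GL chevB2.Idx F, (∀ v ∈ V, x * v * x⁻¹ ∈ V) → (∀ v ∈ V, x⁻¹ * v * x⁻¹⁻¹ ∈ V) →
          x ∈ Subgroup.normalizer (V : Set (GL chevB2.Idx F)) := fun x h1 h2 =>
        Subgroup.mem_normalizer_iff.2 fun v => ⟨h1 v, fun hv => by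
          have := h2 _ hv; simpa [mul_assoc] using this⟩
      have ku : ∀ μ, ∀ v ∈ V, hF.xg 7 μ * v * (hF.xg 7 μ)⁻¹ ∈ V := by
        rintro μ _ ⟨v1, v2, w, rfl⟩
        rw [← conj_mul, ← conj_mul, (c76 μ v1).eq, (c74 μ w).eq, mul_inv_cancel_right, mul_inv_cancel_right,
          conj_word hF (by decide) (by decide) (by decide) (by decide +kernel), w72]
        exact mul_mem (mul_mem (hV6 _) (mul_mem (hV2 _) (mul_mem (hV6 _) (hV4 _)))) (hV4 _)
      have kd : ∀ μ, ∀ v ∈ V, hF.xg 0 μ * v * (hF.xg 0 μ)⁻¹ ∈ V := by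
        rintro μ _ ⟨v1, v2, w, rfl⟩
        rw [← conj_mul, ← conj_mul, (c02 μ v2).eq, (c04 μ w).eq, mul_inv_cancel_right, mul_inv_cancel_right,
          conj_word hF (by decide) (by decide) (by decide) (by decide +kernel), w06]
        exact mul_mem (mul_mem (mul_mem (hV6 _) (mul_mem (hV2 _) (hV4 _))) (hV2 _)) (hV4 _)
      rintro x (⟨μ, rfl⟩ | ⟨μ, rfl⟩)
      · exact key _ (ku μ) (by rw [← hF.xg_neg]; exact ku (-μ))
      · exact key _ (kd μ) (by rw [← hF.xg_neg]; exact kd (-μ))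
    exact fun A => hle ⟨A, rfl⟩
  obtain ⟨G, hG⟩ := exists_lift φ V S hnorm
  have hN : chevB2.commTerms 6 (opp chevB2 6) = [(top chevB2, -2, 1, 1)] := by decide +kernel
  have h6 : (6 : ℕ) ∈ q1 chevB2 := by simp [q1_eq]
  have hru : ∀ x ∈ K₀, hF.xg 6 x * hF.xg 7 (-2 * x * a) ∈ S := fun x hx => by
    have := (root_seen_iff hF hR (H := H) (t := t) (z := z) h6 (partData okPartB2 h6) hN x (-2 * x * a)).2 (by
      rw [opp_six, ← hadef, show -2 * x * a - ((-2 : ℤ) : F) * x * a = 0 by push_cast; ring, hF.xg_zero, mul_one]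
      exact T.le (xg_mem_rat hF K₀ _ hx))
    exact this
  have htopS : ∀ y ∈ K₀, hF.xg 7 y ∈ S := fun y hy => top_seen hF hR T.le hy
  have hP : hF.xg 0 c ∈ S := by
    have := bot_seen hF hlow
    rwa [top_eq, neg_top_eq] at this
  have h2K : (2 : F) ∈ K₀ := by rw [← one_add_one_eq_two]; exact add_mem (one_mem _) (one_mem _)
  have huG : ∀ x ∈ K₀, ∀ y ∈ K₀, upS (x * a + y * 1) ∈ G := fun x hx y hy => by
    have hx' : -x / 2 ∈ K₀ := div_mem (neg_mem hx) h2K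
    refine (hG _).2 ⟨hF.xg 6 (-x / 2), hV6 _, ?_⟩
    rw [(hφ _).1, (c76 _ _).eq, hF.xg_add, ← mul_assoc, mul_one]
    have := mul_mem (hru _ hx') (htopS y hy)
    rwa [show -2 * (-x / 2) * a = x * a by field_simp] at this
  have hlG : loS c ∈ G := (hG _).2 ⟨1, one_mem _, by rw [(hφ _).2, mul_one]; exact hP⟩
  have hind : ∀ x ∈ K₀, ∀ y ∈ K₀, x * a + y * 1 = 0 → x = 0 ∧ y = 0 := fun x hx y hy e => by
    by_cases h0 : x = 0
    · subst h0; exact ⟨rfl, by simpa using e⟩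
    · exact absurd (by
        rw [show a = -(y * x⁻¹) by field_simp; linear_combination e]
        exact neg_mem (mul_mem hy (inv_mem hx))) ha
  have eU : ∀ μ : F, Cfsg.Agent.Small.PSL2.uS μ = upS μ := fun μ => by
    apply Subtype.ext; ext i j; fin_cases i <;> fin_cases j <;> simp [upS]
  have eL : ∀ μ : F, Cfsg.Agent.Small.PSL2.vS μ = loS μ := fun μ => by
    apply Subtype.ext; ext i j; fin_cases i <;> fin_cases j <;> simp [loS]
  obtain ⟨K₁, -, -, -, hK⟩ := Cfsg.Agent.Classical.SL2Plane.shifts_field hc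
    (by rw [eL]; exact hlG) (fun x hx y hy => by rw [eU]; simpa using huG x hx y hy) ha
  have hnnG : ∀ μ ∈ K₁, RankOneRel.nn (upS (F := F)) loS μ ∈ G := fun μ hμ =>
    mul_mem (mul_mem (eU _ ▸ (hK μ hμ).1) (eL _ ▸ (hK _ (neg_mem (inv_mem hμ))).2)) (eU _ ▸ (hK μ hμ).1)
  set A := RankOneRel.hh (upS (F := F)) loS (-1)
  have hφA : φ A = hF.hg 7 (-1) := by
    rw [hF.hg_eq, hF.ng_eq, neg_top_eq]
    simp [A, RankOneRel.hh, RankOneRel.nn, hφ, inv_neg]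
  obtain ⟨v, ⟨v1, v2, w, rfl⟩, hv⟩ := (hG A).1 (mul_mem (hnnG (-1) (neg_mem (one_mem _))) (hnnG (-1) (neg_mem (one_mem _))))
  rw [hφA] at hv
  set h := hF.hg (F := F) 7 (-1)
  have hh : ∀ s, s < 8 → ∀ x : F, h * hF.xg s x * h⁻¹ = hF.xg s ((-1) ^ chevB2.pairing 7 s * x) :=
    fun s hs x => hg_conj hF (by decide) hs (neg_ne_zero.2 one_ne_zero) x
  set v := hF.xg 6 v1 * hF.xg 2 v2 * hF.xg 4 w with hvdef
  -- conjugating x_top(1)
  have e1 : v * hF.xg 7 1 * v⁻¹ = hF.xg 7 1 * (hF.xg 6 v2 * hF.xg 4 (-v2 ^ 2)) := by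
    have ew : hF.xg 2 v2 * hF.xg 7 1 * (hF.xg 2 v2)⁻¹ =
        hF.xg 7 1 * (hF.xg 6 v2 * hF.xg 4 (-v2 ^ 2)) := by
      rw [conj_word' hF (by decide) (by decide) (by decide) (by decide +kernel), w72, ← mul_assoc (hF.xg 2 v2),
        one_mul, one_mul, c26, mul_assoc (_ * _) (hF.xg 4 _) (hF.xg 4 _), ← hF.xg_add, mul_assoc (hF.xg 6 v2),
        (c24 v2 _).eq]
      simp only [← mul_assoc]
      rw [mul_inv_cancel_right]
      congr 2
      ring
    have cw : Commute (hF.xg 4 w) (hF.xg 7 (1 : F)) := (c74 1 w).symm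
    have cv1 : Commute (hF.xg 6 v1) (hF.xg 7 (1 : F) * (hF.xg 6 v2 * hF.xg 4 (-v2 ^ 2))) :=
      (c76 1 v1).symm.mul_right ((xg_self_commute hF 6 _ _).mul_right (c64 _ _))
    calc v * hF.xg 7 1 * v⁻¹ = hF.xg 6 v1 * (hF.xg 2 v2 * (hF.xg 4 w * hF.xg 7 1 * (hF.xg 4 w)⁻¹) *
          (hF.xg 2 v2)⁻¹) * (hF.xg 6 v1)⁻¹ := by rw [hvdef]; group
      _ = _ := by rw [cw.eq, mul_inv_cancel_right, ew, cv1.eq, mul_inv_cancel_right]
  have p7 : chevB2.pairing 7 7 = 2 := by decide +kernel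
  have p6 : chevB2.pairing 7 6 = 1 := by decide +kernel
  have p4 : chevB2.pairing 7 4 = 0 := by decide +kernel
  have hE : hF.xg 6 (-v2) * hF.xg 4 (-v2 ^ 2) ∈ S := by
    have h1 := mul_mem (mul_mem hv (htopS 1 (one_mem _))) (inv_mem hv)
    rw [show h * v * hF.xg 7 1 * (h * v)⁻¹ = h * (v * hF.xg 7 1 * v⁻¹) * h⁻¹ by group, e1, ← conj_mul, ← conj_mul,
      hh 7 (by decide), hh 6 (by decide), hh 4 (by decide), p7, p6, p4, zpow_one, zpow_zero, one_mul, neg_one_mul,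
      show ((-1 : F) ^ (2 : ℤ)) = 1 by norm_num, one_mul] at h1
    exact (Subgroup.mul_mem_cancel_left _ (htopS 1 (one_mem _))).1 h1
  -- into H
  have c56 : ∀ x y : F, hF.xg 5 y * hF.xg 6 x * (hF.xg 5 y)⁻¹ = hF.xg 6 x * hF.xg 7 (2 * y * x) := fun x y => by
    have := conj_one hF (r := 5) (s := 6) (k := 7) (N := 2) (by decide) (by decide) (by decide) (by decide +kernel)
      (by decide +kernel) (cm hF (by decide) (by decide) (by decide +kernel))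
      (cm hF (by decide) (by decide) (by decide +kernel)) y x
    rw [this]; push_cast; rfl
  have c57 := cm hF (F := F) (r := 5) (s := 7) (by decide) (by decide) (by decide +kernel)
  have c54 : ∀ ω y : F, ∃ e, hF.xg 5 y * hF.xg 4 ω * (hF.xg 5 y)⁻¹ =
      hF.xg 4 ω * hF.xg 6 (-ω * y) * hF.xg 7 e := fun ω y => by
    refine ⟨2 * y * (-ω * y) + ω * y ^ 2, ?_⟩
    rw [conj_word' hF (by decide) (by decide) (by decide) (by decide +kernel)]
    have hw : hF.wg (chevB2.commWord F 4 5 ω y) = hF.xg 6 (-ω * y) * hF.xg 7 (ω * y ^ 2) := by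
      simp [ChevalleyDatum.commWord, show chevB2.commTerms 4 5 = [(6, 1, 1, 1), (7, -1, 1, 2)] by decide +kernel,
        hF.wg_cons, hF.wg_nil]
    rw [hw, ← conj_mul, c56, (c57 y _).eq, mul_inv_cancel_right, mul_assoc (hF.xg 6 _), ← hF.xg_add, ← mul_assoc]
  set ω := -v2 ^ 2
  obtain ⟨e, hH1⟩ : ∃ e, hF.xg 4 ω * hF.xg 6 (-v2 - ω * a) * hF.xg 7 e ∈ H := by
    rw [hS, mem_seen] at hE
    obtain ⟨e0, he0⟩ := c54 ω a
    refine ⟨2 * a * -v2 + e0, ?_⟩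
    convert hE using 1
    simp only [u, qE_eq, top_eq]
    have c7 : Commute (hF.xg 7 z) (hF.xg 6 (-v2) * hF.xg 4 ω) := (c76 z _).mul_right (c74 z _)
    have c6 : Commute (hF.xg 6 (t 6)) (hF.xg 6 (-v2) * hF.xg 4 ω) :=
      (xg_self_commute hF 6 _ _).mul_right (c64 _ _)
    rw [← hadef, show hF.xg 5 a * hF.xg 6 (t 6) * hF.xg 7 z * (hF.xg 6 (-v2) * hF.xg 4 ω) *
      (hF.xg 5 a * hF.xg 6 (t 6) * hF.xg 7 z)⁻¹ = hF.xg 5 a * (hF.xg 6 (t 6) * (hF.xg 7 z *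
        (hF.xg 6 (-v2) * hF.xg 4 ω) * (hF.xg 7 z)⁻¹) * (hF.xg 6 (t 6))⁻¹) * (hF.xg 5 a)⁻¹ by group,
      c7.eq, mul_inv_cancel_right, c6.eq, mul_inv_cancel_right, ← conj_mul, c56, he0,
      show -v2 - ω * a = -ω * a + -v2 by ring, hF.xg_add, hF.xg_add]
    generalize -ω * a = B
    generalize 2 * a * -v2 = C
    simp only [mul_assoc]
    have k1 : hF.xg 6 (-v2) * (hF.xg 4 ω * (hF.xg 7 C * (hF.xg 6 B * hF.xg 7 e0))) =
        hF.xg 4 ω * (hF.xg 6 B * (hF.xg 6 (-v2) * (hF.xg 7 C * hF.xg 7 e0))) := by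
      rw [← mul_assoc (hF.xg 7 C) (hF.xg 6 B), (c76 C B).eq, mul_assoc (hF.xg 6 B), ← mul_assoc (hF.xg 6 (-v2)) (hF.xg 4 ω),
        (c64 (-v2) ω).eq, mul_assoc (hF.xg 4 ω), ← mul_assoc (hF.xg 6 (-v2)) (hF.xg 6 B),
        (xg_self_commute hF 6 (-v2) B).eq, mul_assoc (hF.xg 6 B)]
    rw [← mul_assoc (hF.xg 7 C) (hF.xg 4 ω), (c74 C ω).eq, mul_assoc (hF.xg 4 ω)]
    simp only [← mul_assoc] at k1 ⊢
    exact k1.symm
  have hg5 : hF.xg 5 (1 : F) ∈ H := T.le (xg_mem_rat hF K₀ _ (one_mem _))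
  set q := -v2 - ω * a
  have h1 := mul_mem (inv_mem hH1) (mul_mem (mul_mem hg5 hH1) (inv_mem hg5))
  obtain ⟨e', he'⟩ := c54 ω 1
  have e2 : hF.xg 5 1 * (hF.xg 4 ω * hF.xg 6 q * hF.xg 7 e) * (hF.xg 5 1)⁻¹ =
      hF.xg 4 ω * hF.xg 6 q * hF.xg 7 e * (hF.xg 6 (-ω) * hF.xg 7 (e' + 2 * 1 * q)) := by
    rw [← conj_mul, ← conj_mul, he', c56, (c57 1 e).eq, mul_inv_cancel_right, mul_one]
    simp only [mul_assoc]
    congr 1
    rw [← mul_assoc (hF.xg 7 e'), (c76 e' q).eq, mul_assoc, ← mul_assoc (hF.xg 6 (-ω)),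
      (xg_self_commute hF 6 (-ω) q).eq, mul_assoc, ← mul_assoc (hF.xg 7 e), (c76 e (-ω)).eq, mul_assoc,
      ← hF.xg_add, ← hF.xg_add, ← hF.xg_add]
    congr 3
    ring
  rw [e2, inv_mul_cancel_left] at h1
  have h3 := mul_mem (inv_mem h1) (mul_mem (mul_mem hg5 h1) (inv_mem hg5))
  rw [← conj_mul, c56, (c57 1 _).eq, mul_inv_cancel_right, mul_assoc (hF.xg 6 (-ω)),
    (xg_self_commute hF 7 (2 * 1 * -ω) _).eq, ← mul_assoc (hF.xg 6 (-ω)), inv_mul_cancel_left] at h3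
  have hω : ω ∈ K₀ := by
    have := T.long 7 (by decide +kernel) _ h3
    have h' := mul_mem (inv_mem h2K) (neg_mem this)
    rwa [show -(2 * 1 * -ω) = 2 * ω by ring, ← mul_assoc, inv_mul_cancel₀ h2, one_mul] at h'
  have h4 : hF.xg 6 q * hF.xg 7 e ∈ H := by
    have := mul_mem (inv_mem (T.le (xg_mem_rat hF K₀ 4 hω))) hH1
    rwa [mul_assoc, inv_mul_cancel_left] at this
  have h5 := mul_mem (inv_mem h4) (mul_mem (mul_mem hg5 h4) (inv_mem hg5))
  rw [← conj_mul, c56, (c57 1 _).eq, mul_inv_cancel_right, mul_assoc (hF.xg 6 q),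
    (xg_self_commute hF 7 (2 * 1 * q) e).eq, ← mul_assoc (hF.xg 6 q), inv_mul_cancel_left] at h5
  have hq : q ∈ K₀ := by
    have := T.long 7 (by decide +kernel) _ h5
    have h' := mul_mem (inv_mem h2K) this
    rwa [show (2 : F) * 1 * q = 2 * q by ring, ← mul_assoc, inv_mul_cancel₀ h2, one_mul] at h'
  by_cases hv20 : v2 = 0
  swap
  · have hω0 : ω ≠ 0 := neg_ne_zero.2 (pow_ne_zero 2 hv20)
    refine ⟨q * ω⁻¹, mul_mem hq (inv_mem hω), ?_⟩
    rw [show a + q * ω⁻¹ = -v2 * ω⁻¹ by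
        field_simp
        simp only [q]
        ring,
      show (-v2 * ω⁻¹) ^ 2 = -ω * ω⁻¹ ^ 2 by simp only [ω]; ring]
    exact mul_mem (neg_mem hω) (pow_mem (inv_mem hω) 2)
  -- a pure torus element
  have hv' : v = hF.xg 6 v1 * hF.xg 4 w := by rw [hvdef, hv20, hF.xg_zero, mul_one]
  have hX := hru 1 (one_mem _)
  have hX' := mul_mem (mul_mem hv hX) (inv_mem hv)
  have cv : Commute v (hF.xg 6 (1 : F) * hF.xg 7 (-2 * 1 * a)) := by
    rw [hv']
    exact ((xg_self_commute hF 6 _ _).mul_right (c76 _ _).symm).mul_left ((c64 _ _).symm.mul_right (c74 _ _).symm)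
  rw [show h * v * (hF.xg 6 1 * hF.xg 7 (-2 * 1 * a)) * (h * v)⁻¹ =
    h * (v * (hF.xg 6 1 * hF.xg 7 (-2 * 1 * a)) * v⁻¹) * h⁻¹ by group, cv.eq, mul_inv_cancel_right, ← conj_mul,
    hh 6 (by decide), hh 7 (by decide), p6, p7, zpow_one, neg_one_mul, show ((-1 : F) ^ (2 : ℤ)) = 1 by norm_num,
    one_mul] at hX'
  have h7 := mul_mem hX hX'
  rw [mul_assoc, ← mul_assoc (hF.xg 7 _), (c76 _ _).eq, mul_assoc, ← mul_assoc, ← hF.xg_add, add_neg_cancel,
    hF.xg_zero, one_mul, ← hF.xg_add, hS, mem_seen] at h7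
  have e7 := frame_top hF hR t z (-2 * 1 * a + -2 * 1 * a)
  simp only [top_eq] at e7 h7
  simp only [u, top_eq] at h7
  rw [e7] at h7
  have h8 := T.long 7 (by decide +kernel) _ h7
  refine absurd ?_ ha
  have := mul_mem (inv_mem (neg_mem (mul_mem h2K h2K))) h8
  rwa [show -2 * 1 * a + -2 * 1 * a = -(2 * 2) * a by ring, ← mul_assoc,
    inv_mul_cancel₀ (neg_ne_zero.2 (mul_ne_zero h2 h2)), one_mul] at this

end BTwo

end Cfsg.Agent.Lie.SubMax
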