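import Cfsg.Agent.Lib.Lie.SubMax.BTwoEven
import Cfsg.Agent.Lib.Lie.SubMax.BTwoPlane

/-!
Normal forms for type B2 over a ground field with more than two elements.
-/

set_option autoImplicit false

namespace Cfsg.Agent.Lie.SubMax

open Cfsg.Lie Matrix
open scoped MatrixGroups

namespace BTwo

variable {F : Type*} [Field F] (hF : Facts chevB2)
variable {K₀ : Subfield F} {H : Subgroup (GL chevB2.Idx F)} {t : ℕ → F} {z c : F}

include hF in
/-- The scalar is rational in odd characteristic when the first coordinate is. -/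
theorem c_mem_odd' (hR : okRad chevB2 = true) (T : Thin hF K₀ H) (h2 : (2 : F) ≠ 0)
    (hlow : low hF t z c ∈ H) (h5 : t 5 ∈ K₀) : c ∈ K₀ := by
  obtain ⟨z', hz'⟩ := low_shift hF hR T.le hlow (k := fun s => if s = 5 then -(t 5) else 0) (by
    intro s _
    split_ifs
    exacts [neg_mem h5, zero_mem _])
  set t' : ℕ → F := fun r => (if r = 5 then -(t 5) else 0) + t r
  have e5 : t' 5 = 0 := by simp [t']
  have P6 := partData okPartB2 (show (6 : ℕ) ∈ q1 chevB2 by simp [q1_eq])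
  set S := seen (qE hF t' * hF.xg (top chevB2) z') H
  have hP : hF.xg 0 c ∈ S := by
    have := bot_seen hF hz'
    rwa [top_eq, neg_top_eq] at this
  have hW : ∀ k ∈ K₀, hF.xg 2 (c * k) * hF.xg 4 (-(c * k ^ 2)) ∈ S := fun k hk => by
    have h6 := T.pure_mem hF hR (z := z') (t := t') (show (6 : ℕ) ∈ q1 chevB2 by simp [q1_eq]) P6
      (by rw [opp_six, e5]; exact zero_mem _) hk
    have h1 := mul_mem (inv_mem (mul_mem hP h6)) (mul_mem h6 hP)
    rw [xg_swap hF (r := 0) (s := 6) (by decide) (by decide) (by decide) (by decide +kernel) c k,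
      inv_mul_cancel_left] at h1
    simpa [ChevalleyDatum.commWord, show chevB2.commTerms 0 6 = [(2, -1, 1, 1), (4, 1, 1, 2)] by decide +kernel,
      hF.wg_cons, hF.wg_nil] using h1
  have h1 := mul_mem (hW 1 (one_mem _)) (hW (-1) (neg_mem (one_mem _)))
  have c24 := cm hF (F := F) (r := 2) (s := 4) (by decide) (by decide) (by decide +kernel)
  rw [mul_assoc, ← mul_assoc (hF.xg 4 _), ← (c24 _ _).eq, ← mul_assoc, ← mul_assoc, ← hF.xg_add, mul_assoc,
    ← hF.xg_add, show c * 1 + c * -1 = 0 by ring, hF.xg_zero, one_mul,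
    show -(c * 1 ^ 2) + -(c * (-1) ^ 2) = -(2 * c) by ring, mem_seen, qE_eq, e5, hF.xg_zero, one_mul, top_eq] at h1
  have c74 := cm hF (F := F) (r := 7) (s := 4) (by decide) (by decide) (by decide +kernel)
  have c64 := cm hF (F := F) (r := 6) (s := 4) (by decide) (by decide) (by decide +kernel)
  rw [((c64 _ _).mul_left (c74 _ _)).eq, mul_inv_cancel_right] at h1
  have h3 := neg_mem_iff.1 (T.long 4 (by decide +kernel) _ h1)
  have h4 := mul_mem (inv_mem (show (2 : F) ∈ K₀ by rw [← one_add_one_eq_two]; exact add_mem (one_mem _) (one_mem _))) h3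
  rwa [← mul_assoc, inv_mul_cancel₀ h2, one_mul] at h4

include hF in
/-- A conjugate of the second word by the highest root. -/
theorem conj_seven' (j q q' : F) :
    hF.xg 7 j * (hF.xg 1 q * hF.xg 3 q') * (hF.xg 7 j)⁻¹ =
      hF.xg 1 q * hF.xg 3 q' * (hF.xg 5 (j * q) * hF.xg 3 (j * q ^ 2)) := by
  have c73 := cm hF (F := F) (r := 7) (s := 3) (by decide) (by decide) (by decide +kernel)
  have c53 := cm hF (F := F) (r := 5) (s := 3) (by decide) (by decide) (by decide +kernel)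
  rw [← conj_mul, (c73 j q').eq, mul_inv_cancel_right, conj_word hF (by decide) (by decide) (by decide) (by decide +kernel)]
  have hw : hF.wg (chevB2.commWord F 7 1 (-j) q) = hF.xg 5 (j * q) * hF.xg 3 (j * q ^ 2) := by
    simp [ChevalleyDatum.commWord, show chevB2.commTerms 7 1 = [(5, 1, 1, 1), (3, 1, 1, 2)] by decide +kernel,
      hF.wg_cons, hF.wg_nil]
  rw [hw, mul_assoc (hF.xg 1 q), ((c53 (j * q) q').mul_left (xg_self_commute hF 3 (j * q ^ 2) q')).eq, ← mul_assoc]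

include hF in
/-- The central coordinate is rational when all others are. -/
theorem z_mem [Fintype F] (hR : okRad chevB2 = true) (hbig : ∃ k ∈ K₀, k ≠ 0 ∧ k ≠ 1)
    (T : Thin hF K₀ H) (ht : ∀ s ∈ q1 chevB2, t s ∈ K₀) (hcK : c ∈ K₀) (hc : c ≠ 0)
    (hlow : low hF t z c ∈ H) : z ∈ K₀ := by
  have hq := T.le (qE_mem_rat hF ht)
  have hP : hF.xg 7 z * hF.xg 0 c * (hF.xg 7 z)⁻¹ ∈ H := by
    have := mul_mem (mul_mem (inv_mem hq) hlow) hq
    rw [low, top_eq, neg_top_eq] at this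
    convert this using 1
    group
  have c53 := cm hF (F := F) (r := 5) (s := 3) (by decide) (by decide) (by decide +kernel)
  have c75 := cm hF (F := F) (r := 7) (s := 5) (by decide) (by decide) (by decide +kernel)
  -- the two-term words
  have hR' : ∀ q ∈ K₀, hF.xg 5 (z * q) * hF.xg 3 (z * q ^ 2) ∈ H := fun q hq => by
    set k := -(c⁻¹ * q) with hk
    have hkK : k ∈ K₀ := neg_mem (mul_mem (inv_mem hcK) hq)
    have g5 : hF.xg 5 k ∈ H := T.le (xg_mem_rat hF K₀ _ hkK)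
    have h5 : hF.xg 7 z * hF.xg 5 k * (hF.xg 7 z)⁻¹ ∈ H := by
      rw [(c75 z k).eq, mul_inv_cancel_right]; exact g5
    have h1 := mul_mem (inv_mem (mul_mem hP h5)) (mul_mem h5 hP)
    rw [show (hF.xg 7 z * hF.xg 0 c * (hF.xg 7 z)⁻¹ * (hF.xg 7 z * hF.xg 5 k * (hF.xg 7 z)⁻¹))⁻¹ *
      (hF.xg 7 z * hF.xg 5 k * (hF.xg 7 z)⁻¹ * (hF.xg 7 z * hF.xg 0 c * (hF.xg 7 z)⁻¹)) =
      hF.xg 7 z * ((hF.xg 0 c * hF.xg 5 k)⁻¹ * (hF.xg 5 k * hF.xg 0 c)) * (hF.xg 7 z)⁻¹ by group,
      xg_swap hF (r := 0) (s := 5) (by decide) (by decide) (by decide) (by decide +kernel) c k,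
      inv_mul_cancel_left] at h1
    have hw : hF.wg (chevB2.commWord F 0 5 c k) = hF.xg 1 q * hF.xg 3 (q * -k) := by
      simp only [ChevalleyDatum.commWord, show chevB2.commTerms 0 5 = [(1, 1, 1, 1), (3, -1, 1, 2)] by decide +kernel]
      simp [hF.wg_cons, hF.wg_nil, hk, ← mul_assoc, mul_inv_cancel₀ hc]
      congr 1
      field_simp
    rw [hw, conj_seven' hF] at h1
    refine (Subgroup.mul_mem_cancel_left _ (mul_mem (T.le (xg_mem_rat hF K₀ _ hq))
      (T.le (xg_mem_rat hF K₀ _ (mul_mem hq (neg_mem hkK)))))).1 h1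
  by_cases h2 : (2 : F) = 0
  · refine mem_of_family hbig fun j hj => ?_
    classical
    haveI := Fintype.ofFinite K₀
    obtain ⟨⟨q, hq⟩, e⟩ := Finite.surjective_of_injective (f := fun x : K₀ => x ^ 2) (fun x y h => by
      apply Subtype.ext
      have h' : (x : F) ^ 2 = (y : F) ^ 2 := congrArg Subtype.val h
      have : ((x : F) - y) ^ 2 = 0 := by linear_combination h' + ((y : F) ^ 2 - x * y) * h2
      exact sub_eq_zero.1 (pow_eq_zero_iff (n := 2) (by norm_num) |>.1 this)) ⟨j, hj⟩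
    have e' : q ^ 2 = j := congrArg Subtype.val e
    have h1 := tie hF T h2 (raise_six hF h2 (T.le (xg_mem_rat hF K₀ 6 (one_mem K₀))) (hR' q hq))
    rw [← e']
    convert h1 using 1
    ring
  · have h1 := mul_mem (hR' 1 (one_mem _)) (hR' (-1) (neg_mem (one_mem _)))
    rw [mul_assoc, ← mul_assoc (hF.xg 3 _), ← (c53 _ _).eq, ← mul_assoc, ← mul_assoc, ← hF.xg_add, mul_assoc,
      ← hF.xg_add, show z * 1 + z * -1 = 0 by ring, hF.xg_zero, one_mul,
      show z * 1 ^ 2 + z * (-1) ^ 2 = 2 * z by ring] at h1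
    have h3 := T.long 3 (by decide +kernel) _ h1
    have h4 := mul_mem (inv_mem (show (2 : F) ∈ K₀ by rw [← one_add_one_eq_two]; exact add_mem (one_mem _) (one_mem _))) h3
    rwa [← mul_assoc, inv_mul_cancel₀ h2, one_mul] at h4

include hF in
/-- Moving the coordinates by the short root of level zero. -/
theorem translate' (hle : rat hF K₀ ≤ H) (hlow : low hF t z c ∈ H) {k : F} (hk : k ∈ K₀) :
    ∃ t' z', t' 5 = t 5 + k * t 6 ∧ t' 6 = t 6 ∧ low hF t' z' c ∈ H := by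
  refine ⟨fun r => if r = 5 then t 5 + k * t 6 else t r, z + -(k * t 6 ^ 2), by simp, by simp, ?_⟩
  have h1 := mul_mem (mul_mem (hle (xg_mem_rat hF K₀ 3 hk)) hlow) (inv_mem (hle (xg_mem_rat hF K₀ 3 hk)))
  convert h1 using 1
  have c35 := cm hF (F := F) (r := 3) (s := 5) (by decide) (by decide) (by decide +kernel)
  have c37 := cm hF (F := F) (r := 3) (s := 7) (by decide) (by decide) (by decide +kernel)
  have c30 := cm hF (F := F) (r := 3) (s := 0) (by decide) (by decide) (by decide +kernel)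
  have c57 := cm hF (F := F) (r := 5) (s := 7) (by decide) (by decide) (by decide +kernel)
  have e : hF.xg 3 k * (qE hF t * hF.xg (top chevB2) z) * (hF.xg 3 k)⁻¹ =
      qE hF (fun r => if r = 5 then t 5 + k * t 6 else t r) * hF.xg (top chevB2) (z + -(k * t 6 ^ 2)) := by
    have hw : hF.wg (chevB2.commWord F 3 6 (-k) (t 6)) = hF.xg 5 (k * t 6) * hF.xg 7 (k * t 6 ^ 2) := by
      simp [ChevalleyDatum.commWord, show chevB2.commTerms 3 6 = [(5, 1, 1, 1), (7, 1, 1, 2)] by decide +kernel,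
        hF.wg_cons, hF.wg_nil]
    have hsw := swap_one hF (r := 5) (s := 6) (k := 7) (N := 2) (by decide) (by decide) (by decide)
      (by decide +kernel) (by decide +kernel) (k * t 6) (t 6)
    push_cast at hsw
    simp only [top_eq, qE_eq, if_pos, if_neg (show (6 : ℕ) ≠ 5 by decide)]
    rw [← conj_mul, ← conj_mul, (c35 k _).eq, (c37 k _).eq, mul_inv_cancel_right, mul_inv_cancel_right,
      conj_word hF (by decide) (by decide) (by decide) (by decide +kernel), hw]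
    rw [← mul_assoc (hF.xg 6 (t 6)), hsw, mul_assoc _ (hF.xg 7 _) (hF.xg 7 _), ← hF.xg_add,
      hF.xg_add 5 (t 5), show z + -(k * t 6 ^ 2) = -(2 * (k * t 6) * t 6) + k * t 6 ^ 2 + z by ring,
      hF.xg_add 7 _ z]
    simp only [mul_assoc]
  simp only [low]
  rw [← e, top_eq, neg_top_eq]
  calc hF.xg 3 k * (qE hF t * hF.xg 7 z) * (hF.xg 3 k)⁻¹ * hF.xg 0 c *
        (hF.xg 3 k * (qE hF t * hF.xg 7 z) * (hF.xg 3 k)⁻¹)⁻¹
      = hF.xg 3 k * (qE hF t * hF.xg 7 z) * ((hF.xg 3 k)⁻¹ * (hF.xg 0 c * hF.xg 3 k)) *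
          (qE hF t * hF.xg 7 z)⁻¹ * (hF.xg 3 k)⁻¹ := by group
    _ = _ := by rw [← (c30 k c).eq]; group

/-- Two quadratic elements over a subfield of odd characteristic whose combinations are quadratic lie in one plane. -/
theorem plane_of_quad {K₀ : Subfield F} (h2 : (2 : F) ≠ 0) {a b : F} (ha : a ∉ K₀)
    (h0 : ∃ y ∈ K₀, (a + y) ^ 2 ∈ K₀) (h1 : ∃ y ∈ K₀, (a + b + y) ^ 2 ∈ K₀)
    (h3 : ∃ y ∈ K₀, (a - b + y) ^ 2 ∈ K₀) : ∃ x ∈ K₀, b - x * a ∈ K₀ := by
  obtain ⟨y₀, hy₀, hA⟩ := h0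
  obtain ⟨u, hu, hB⟩ := h1
  obtain ⟨w, hw, hC⟩ := h3
  set A := a + y₀ with hAdef
  have hAK : A ∉ K₀ := fun h => ha (by have := sub_mem h hy₀; rwa [hAdef, add_sub_cancel_right] at this)
  have h2K : (2 : F) ∈ K₀ := by rw [← one_add_one_eq_two]; exact add_mem (one_mem _) (one_mem _)
  set B := a + b + u with hBdef
  set s := u + w - 2 * y₀ with hsdef
  have hs : s ∈ K₀ := sub_mem (add_mem hu hw) (mul_mem h2K hy₀)
  have hC' : a - b + w = 2 * A + s - B := by simp only [hAdef, hBdef, hsdef]; ring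
  rw [hC'] at hC
  set e := B * (4 * A + 2 * s) - 4 * s * A with hedef
  have he : e ∈ K₀ := by
    have := sub_mem (add_mem (add_mem (mul_mem (mul_mem h2K h2K) hA) (pow_mem hs 2)) hB) hC
    convert this using 1
    simp only [hedef]; ring
  have hD : (4 * A + 2 * s) * (4 * A - 2 * s) ∈ K₀ := by
    rw [show (4 * A + 2 * s) * (4 * A - 2 * s) = 2 * 2 * (2 * 2) * A ^ 2 - 2 * 2 * s ^ 2 by ring]
    exact sub_mem (mul_mem (mul_mem (mul_mem h2K h2K) (mul_mem h2K h2K)) hA)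
      (mul_mem (mul_mem h2K h2K) (pow_mem hs 2))
  have h4 : (4 : F) ≠ 0 := by rw [show (4 : F) = 2 * 2 by norm_num]; exact mul_ne_zero h2 h2
  have hlin : ∀ v ∈ K₀, 4 * A + v ≠ 0 := fun v hv h => hAK (by
    rw [show A = -v * (2 * 2 : F)⁻¹ by
      rw [show (2 * 2 : F) = 4 by norm_num]
      field_simp
      linear_combination h]
    exact mul_mem (neg_mem hv) (inv_mem (mul_mem h2K h2K)))
  set D := (4 * A + 2 * s) * (4 * A - 2 * s) with hDdef
  have hD0 : D ≠ 0 := mul_ne_zero (hlin _ (mul_mem h2K hs))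
    (by rw [sub_eq_add_neg]; exact hlin _ (neg_mem (mul_mem h2K hs)))
  set P := 4 * e - 8 * s ^ 2 with hP
  set Q := 16 * s * A ^ 2 - 2 * s * e with hQ
  have hcast : ∀ n : ℕ, (n : F) ∈ K₀ := natCast_mem K₀
  have hPK : P ∈ K₀ := sub_mem (mul_mem (by exact_mod_cast hcast 4) he)
    (mul_mem (by exact_mod_cast hcast 8) (pow_mem hs 2))
  have hQK : Q ∈ K₀ := sub_mem (mul_mem (mul_mem (by exact_mod_cast hcast 16) hs) hA)
    (mul_mem (mul_mem h2K hs) he)
  have hBD : B * D = P * A + Q := by simp only [hDdef, hP, hQ, hedef]; ring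
  have hBe : B = P * D⁻¹ * A + Q * D⁻¹ := by
    field_simp
    linear_combination hBD
  refine ⟨P * D⁻¹ - 1, sub_mem (mul_mem hPK (inv_mem hD)) (one_mem _), ?_⟩
  rw [show b - (P * D⁻¹ - 1) * a = P * D⁻¹ * y₀ + Q * D⁻¹ - u by
    simp only [hAdef, hBdef] at hBe ⊢
    linear_combination hBe]
  exact sub_mem (add_mem (mul_mem (mul_mem hPK (inv_mem hD)) hy₀) (mul_mem hQK (inv_mem hD))) hu

include hF in
/-- The scalar is rational in odd characteristic. -/
theorem c_mem_of_odd [Fintype F] (hR : okRad chevB2 = true) (T : Thin hF K₀ H) (h2 : (2 : F) ≠ 0) (hc : c ≠ 0)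
    (hlow : low hF t z c ∈ H) : c ∈ K₀ := by
  by_cases ha : t 5 ∈ K₀
  · exact c_mem_odd' hF hR T h2 hlow ha
  obtain ⟨t₁, z₁, e5, -, hl₁⟩ := translate' hF T.le hlow (one_mem K₀)
  obtain ⟨t₂, z₂, f5, -, hl₂⟩ := translate' hF T.le hlow (neg_mem (one_mem K₀))
  have h1 := five_quad hF hR T h2 hc hl₁
  have h3 := five_quad hF hR T h2 hc hl₂
  rw [e5, one_mul] at h1
  rw [f5, neg_one_mul, ← sub_eq_add_neg] at h3
  obtain ⟨x, hx, hy⟩ := plane_of_quad h2 ha (five_quad hF hR T h2 hc hlow) h1 h3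
  obtain ⟨t', z', -, e6, hl⟩ := translate hF hR T.le hlow (neg_mem hx)
  refine c_mem_odd hF hR T h2 hl ?_
  rw [e6, show t 6 + -x * t 5 = t 6 - x * t 5 by ring]
  exact hy

end BTwo

theorem lowRational_bTwo_big {F : Type*} [Field F] [Fintype F] (hF : Facts chevB2) (hR : okRad chevB2 = true)
    {K₀ : Subfield F} (hbig : ∃ k ∈ K₀, k ≠ 0 ∧ k ≠ 1) : LowRational hF K₀ := by
  intro H T t z c hc hlow
  have key : c ∈ K₀ ∧ t 5 ∈ K₀ ∧ t 6 ∈ K₀ := by
    by_cases h2 : (2 : F) = 0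
    · have h6 := BTwo.six_mem_even hF hR hbig T h2 hc hlow
      obtain ⟨t', z', e5, e6, hl⟩ := BTwo.translate hF hR T.le hlow (one_mem K₀)
      have h6' := BTwo.six_mem_even hF hR hbig T h2 hc hl
      rw [e6, one_mul] at h6'
      exact ⟨BTwo.c_mem_even hF hR hbig T h2 hlow, (by simpa using sub_mem h6' h6), h6⟩
    · have hcK := BTwo.c_mem_of_odd hF hR T h2 hc hlow
      exact ⟨hcK, BTwo.coord_mem_odd hF hR T h2 hc hcK hlow⟩
  obtain ⟨hcK, h5, h6⟩ := key
  have hall : ∀ s ∈ q1 chevB2, t s ∈ K₀ := by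
    intro s hs
    rw [BTwo.q1_eq] at hs
    simp only [List.mem_cons, List.not_mem_nil, or_false] at hs
    rcases hs with rfl | rfl <;> assumption
  exact ⟨hall, BTwo.z_mem hF hR hbig T hall hcK hc hlow, hcK⟩

end Cfsg.Agent.Lie.SubMax
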