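import Cfsg.Agent.Lib.Lie.SubMax.GTwoFour
import Cfsg.Agent.Lib.Lie.SubMax.SmallB2
import Cfsg.Agent.Lib.Lie.SubMax.BTwo

/-!
Type B2 over the field with two elements: the coordinates lie in the field with four elements.
-/

set_option autoImplicit false
set_option maxRecDepth 100000

namespace Cfsg.Agent.Lie.SubMax.BTwoF

open Cfsg.Lie Matrix Fval GTwoF
open scoped MatrixGroups

variable {F : Type*} [Field F]

/-- The five-dimensional matrices. -/
def gm5 {R : Type*} [CommRing R] (r : ℕ) (t : R) : Matrix (Fin 5) (Fin 5) R :=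
  1 + evL (Equiv.refl (Fin 5)) t t ((b2Rep.ent r).map fun m => ⟨m.row, m.col, m.a, 0, m.c⟩)

theorem gm5_map {R S : Type*} [CommRing R] [CommRing S] (f : R →+* S) (r : ℕ) (t : R) :
    (gm5 r t).map f = gm5 r (f t) := by
  rw [gm5, gm5, Matrix.map_add f (map_add f), Matrix.map_one f (map_zero f) (map_one f), evL_map]

/-- The generators over the prime field. -/
def gen0 (r : ℕ) : Matrix (Fin 5) (Fin 5) (ZMod 2) := gm5 r 1

theorem w43 : weights gen0 3 2 [[], [3], [0], [0, 5]] = dirac 4 3 := by decide +kernel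
theorem w34 : weights gen0 3 2 [[2, 5]] = dirac 3 4 := by decide +kernel
theorem w14 : weights gen0 3 2 [[], [4], [0], [2, 5], [0, 7], [0, 4], [0, 1], [1, 4], [1, 2], [4, 1], [2, 5, 0]] =
    dirac 1 4 := by decide +kernel

theorem act0 (t : F) (v : Fin 5 → F) (h2 : (2 : F) = 0) :
    gm5 0 t *ᵥ v = ![v 0, v 1, v 2, v 3 + t * v 2, v 4 + t * v 1] := by
  ext i
  fin_cases i <;> simp [Matrix.mulVec, dotProduct, Fin.sum_univ_succ, gm5, b2Rep, b2Tab, opp5, evL, Tm.ev,
    matUnit_apply, Matrix.one_apply, neg_two h2, h2, add_comm]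

theorem act5 (t : F) (v : Fin 5 → F) (h2 : (2 : F) = 0) :
    gm5 5 t *ᵥ v = ![v 0 + t * v 4, v 1, v 2 + t ^ 2 * v 4, v 3, v 4] := by
  ext i
  fin_cases i <;> simp [Matrix.mulVec, dotProduct, Fin.sum_univ_succ, gm5, b2Rep, b2Tab, opp5, evL, Tm.ev,
    matUnit_apply, Matrix.one_apply, neg_two h2, h2, add_comm]

theorem act6 (t : F) (v : Fin 5 → F) (h2 : (2 : F) = 0) :
    gm5 6 t *ᵥ v = ![v 0 + t * v 3, v 1 + t ^ 2 * v 3, v 2, v 3, v 4] := by
  ext i
  fin_cases i <;> simp [Matrix.mulVec, dotProduct, Fin.sum_univ_succ, gm5, b2Rep, b2Tab, opp5, evL, Tm.ev,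
    matUnit_apply, Matrix.one_apply, neg_two h2, h2, add_comm]

theorem act7 (t : F) (v : Fin 5 → F) (h2 : (2 : F) = 0) :
    gm5 7 t *ᵥ v = ![v 0, v 1 + t * v 4, v 2 + t * v 3, v 3, v 4] := by
  ext i
  fin_cases i <;> simp [Matrix.mulVec, dotProduct, Fin.sum_univ_succ, gm5, b2Rep, b2Tab, opp5, evL, Tm.ev,
    matUnit_apply, Matrix.one_apply, neg_two h2, h2, add_comm]

theorem coeff (h2 : (2 : F) = 0) {φ : chevB2.SteinbergGroup F →* GL (Fin 5) F}
    (hφ : ∀ r t, (φ (chevB2.stGen F r t) : Matrix (Fin 5) (Fin 5) F) = gm5 r t) : Coeff φ 3 2 1 := by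
  have hpos : ∀ r ∈ Facts.posL chevB2, r = 4 ∨ r = 5 ∨ r = 6 ∨ r = 7 := by
    intro r hr
    have := Facts.mem_posL.1 hr
    rw [show chevB2.nroots = 8 from rfl] at this
    omega
  refine ⟨by decide, fun r hr t k => ?_, fun r hr t k => ?_, fun r hr t k hk => ?_, fun β hβ d => ?_⟩
  all_goals simp only [hφ]
  · rcases hpos r hr with rfl | rfl | rfl | rfl <;> fin_cases k <;>
      simp [gm5, b2Rep, b2Tab, opp5, evL, Tm.ev, matUnit_apply, Matrix.one_apply, neg_two h2, h2]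
  · rcases hpos r hr with rfl | rfl | rfl | rfl <;> fin_cases k <;>
      simp [gm5, b2Rep, b2Tab, opp5, evL, Tm.ev, matUnit_apply, Matrix.one_apply, neg_two h2, h2]
  · rcases hpos r hr with rfl | rfl | rfl | rfl <;> fin_cases k <;>
      first
        | exact absurd rfl hk
        | simp [gm5, b2Rep, b2Tab, opp5, evL, Tm.ev, matUnit_apply, Matrix.one_apply, neg_two h2, h2]
  · have hl : ∀ β < 8, lg chevB2 β = true → β = 0 ∨ β = 3 ∨ β = 4 ∨ β = 7 := by decide +kernel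
    have hn : chevB2.neg (top chevB2) = 0 := by decide +kernel
    have hlt : β < 8 := by
      simp only [lg, Bool.and_eq_true, decide_eq_true_eq] at hβ; exact hβ.1
    rcases hl β hlt hβ with rfl | rfl | rfl | rfl <;>
      simp [gm5, b2Rep, b2Tab, opp5, evL, Tm.ev, matUnit_apply, Matrix.one_apply, hn, neg_two h2]

/-- Fourth powers and squares. -/
theorem four_of_sq (h2 : (2 : F) = 0) {x : F} (h : (x ^ 2) ^ 4 = x ^ 2) : x ^ 4 = x := by
  have e : (x ^ 4 - x) * (x ^ 4 - x) = 0 := by linear_combination h + (x ^ 2 - x ^ 5) * h2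
  exact sub_eq_zero.1 (mul_self_eq_zero.1 e)

/-- A two by two system with determinant two. -/
theorem torus_det {G : Type*} [CommGroup G] (hsq : ∀ u : G, u ^ (2 : ℤ) = 1 → u = 1) {x y : G} {A B C D' : ℤ}
    (e0 : x ^ A * y ^ B = 1) (e1 : x ^ C * y ^ D' = 1) (hdet : A * D' - B * C = 2) : x = 1 ∧ y = 1 := by
  constructor
  · refine hsq x ?_
    calc x ^ (2 : ℤ) = (x ^ A * y ^ B) ^ D' * ((x ^ C * y ^ D') ^ B)⁻¹ := by
          rw [← hdet, _root_.mul_zpow, _root_.mul_zpow, ← _root_.zpow_mul, ← _root_.zpow_mul, ← _root_.zpow_mul,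
            ← _root_.zpow_mul, _root_.mul_inv_rev, mul_comm D' B, mul_assoc (x ^ _), mul_inv_cancel_left,
            _root_.zpow_sub, mul_comm C B]
      _ = 1 := by rw [e0, e1]; simp
  · refine hsq y ?_
    calc y ^ (2 : ℤ) = (x ^ C * y ^ D') ^ A * ((x ^ A * y ^ B) ^ C)⁻¹ := by
          rw [← hdet, _root_.mul_zpow, _root_.mul_zpow, ← _root_.zpow_mul, ← _root_.zpow_mul, ← _root_.zpow_mul,
            ← _root_.zpow_mul, _root_.mul_inv_rev, mul_comm D' A, mul_comm C A, mul_comm B C,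
            mul_comm (y ^ (C * B))⁻¹, mul_comm (x ^ (A * C)) (y ^ (A * D')), mul_assoc, mul_inv_cancel_left,
            _root_.zpow_sub]
      _ = 1 := by rw [e0, e1]; simp

variable [Fintype F]

theorem proj_injective (hF : Facts chevB2) (h2 : (2 : F) = 0) : Function.Injective (hF.proj F) := by
  rw [injective_iff_map_eq_one]
  intro g hg
  have hH : StHyp chevB2 := stHyp_of_mem (by simp)
  refine hF.H0_torus hH (hF.H_le_H0 hH (hF.ker_le_H hH (MonoidHom.mem_ker.2 hg))) ?_ hg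
  rw [injective_iff_map_eq_one]
  intro c hc
  rw [coe_torus_eq_one, hF.torChar_eq_one_iff] at hc
  obtain ⟨A, B, C, D', hA, hB, hC, hD, hdet⟩ : ∃ A B C D' : ℤ,
      chevB2.cartan 0 (chevB2.simple 0) = A ∧ chevB2.cartan 1 (chevB2.simple 0) = B ∧
      chevB2.cartan 0 (chevB2.simple 1) = C ∧ chevB2.cartan 1 (chevB2.simple 1) = D' ∧ A * D' - B * C = 2 :=
    ⟨_, _, _, _, rfl, rfl, rfl, rfl, by decide +kernel⟩
  have e0 := hc (⟨0, by decide⟩ : Fin chevB2.rank)
  have e1 := hc (⟨1, by decide⟩ : Fin chevB2.rank)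
  simp only [torChar] at e0 e1
  erw [Fin.prod_univ_two] at e0 e1
  change c ⟨0, by decide⟩ ^ chevB2.cartan 0 (chevB2.simple 0) * c ⟨1, by decide⟩ ^ chevB2.cartan 1 (chevB2.simple 0) = 1 at e0
  change c ⟨0, by decide⟩ ^ chevB2.cartan 0 (chevB2.simple 1) * c ⟨1, by decide⟩ ^ chevB2.cartan 1 (chevB2.simple 1) = 1 at e1
  rw [hA, hB] at e0
  rw [hC, hD] at e1
  generalize hx : c (⟨0, by decide⟩ : Fin chevB2.rank) = x at e0 e1
  generalize hy : c (⟨1, by decide⟩ : Fin chevB2.rank) = y at e0 e1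
  have hsq : ∀ u : Fˣ, u ^ (2 : ℤ) = 1 → u = 1 := fun u hu => by
    have h : (u : F) ^ 2 = 1 := by simpa [zpow_ofNat, Units.val_pow_eq_pow_val] using congrArg Units.val hu
    refine Units.ext (sub_eq_zero.1 (mul_self_eq_zero.1 ?_))
    rw [Units.val_one]
    linear_combination h + (1 - (u : F)) * h2
  obtain ⟨hx1, hy1⟩ := torus_det hsq e0 e1 hdet
  funext i
  obtain ⟨i, hi⟩ := i
  have hi' : i < 2 := hi
  interval_cases i
  · exact hx.trans hx1
  · exact hy.trans hy1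

theorem coords_four (hF : Facts chevB2) {K₀ : Subfield F} (h01 : ∀ k ∈ K₀, k = 0 ∨ k = 1)
    (H : Subgroup (GL chevB2.Idx F)) (T : Thin hF K₀ H) (t : ℕ → F) (z c : F) (hc : c ≠ 0)
    (hlow : low hF t z c ∈ H) : (∀ r ∈ q1 chevB2, t r ^ 4 = t r) ∧ z ^ 4 = z ∧ c ^ 4 = c := by
  have h2 := Small.two_eq_zero_of_small h01
  have hR := okB2.2
  have hC := okB2.1
  haveI : CharP F 2 := CharTwo.of_one_ne_zero_of_two_eq_zero one_ne_zero h2
  have hlt : lg chevB2 (top chevB2) = true := by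
    have := hC; simp only [okClimb, Bool.and_eq_true] at this; exact this.1
  have hq : q1 chevB2 = [5, 6] := BTwo.q1_eq
  have h4 : ∀ (t : ℕ → F) (z c : F), c ≠ 0 → low hF t z c ∈ H → c ^ 4 = c := fun t z c hc hl => by
    have h := h01 _ (BTwo.c_family hF hR T h2 hl 1 (one_mem _))
    refine four_of_sq h2 ?_
    have hy : (c ^ 2 + (c ^ 2) ^ 2) * (c ^ 2 + (c ^ 2) ^ 2 - 1) = 0 := by
      rcases h with h | h
      · linear_combination ((c ^ 2 + (c ^ 2) ^ 2) - 1) * h
      · linear_combination (c ^ 2 + (c ^ 2) ^ 2) * h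
    linear_combination hy - (c ^ 2) ^ 3 * h2
  have hc4 := h4 t z c hc hlow
  obtain ⟨φ, hφ', -⟩ := SRep.exists_hom (S := b2Rep) (e := Equiv.refl (Fin 5)) (F := F) b2Rep_ok
    (fun r hr => hF.neg_lt hr) (fun r hr => if_neg (not_lt.2 hr))
  have hφ : ∀ r t, (φ (chevB2.stGen F r t) : Matrix (Fin 5) (Fin 5) F) = gm5 r t := fun r t => hφ' r t
  set ι : ZMod 2 →+* F := ZMod.castHom dvd_rfl F
  have hgen : ∀ r, (φ (chevB2.stGen F r 1) : Matrix (Fin 5) (Fin 5) F) = ι.mapMatrix (gen0 r) := fun r => by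
    rw [hφ, RingHom.mapMatrix_apply, gen0, gm5_map, map_one]
  set W := chevB2.stGen F 5 (t 5) * chevB2.stGen F 6 (t 6) * chevB2.stGen F 7 z
  set X := W * chevB2.stGen F 0 c * W⁻¹ with hXdef
  have htop : top chevB2 = 7 := rfl
  have hn : chevB2.neg (top chevB2) = 0 := by decide +kernel
  have hpX : hF.proj F X = low hF t z c := by
    simp [X, W, low, htop, map_mul, map_inv, hF.proj_x, qE, lineWord, hq, hF.wg_cons, hF.wg_nil, mul_assoc,
      show chevB2.neg 7 = 0 by decide +kernel]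
  obtain ⟨m, hm, e, he, hconj⟩ := long_conj hF hC K₀ (top chevB2) hlt
  have he' : e * e = 1 := he
  have hgG : qE hF t * hF.xg (top chevB2) z * m ∈ chevB2.group F := by
    refine mul_mem (mul_mem ?_ (hF.xg_mem_group _ _)) (rat_le_group hF (K₀ := K₀) hm)
    simp only [qE, lineWord, hq, List.map_cons, List.map_nil, hF.wg_cons, hF.wg_nil, mul_one]
    exact mul_mem (hF.xg_mem_group _ _) (hF.xg_mem_group _ _)
  have hconjX : hF.proj F X = qE hF t * hF.xg (top chevB2) z * m * hF.xg (top chevB2) (e * c) *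
      (qE hF t * hF.xg (top chevB2) z * m)⁻¹ := by
    have h := hconj (e * c)
    rw [← mul_assoc, he', one_mul] at h
    rw [hpX, low, ← h]; group
  have hec : e * c ≠ 0 := mul_ne_zero (fun h => by simp [h] at he') hc
  have key : ∀ {Cw} (L : List (List ℕ)), weights gen0 3 2 L = Cw →
      (wsum ι Cw (φ X : Matrix (Fin 5) (Fin 5) F)) ^ 4 = wsum ι Cw (φ X : Matrix (Fin 5) (Fin 5) F) :=
    fun L hL => wsum_four hF hR hC (proj_injective hF h2) (coeff h2 hφ) h4 T.le h2 ι hgen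
      (by rw [hpX]; exact hlow) hgG hec hconjX L hL
  have hneg : ∀ x : F, -x = x := fun x => neg_two h2 x
  have hWinv : W⁻¹ = chevB2.stGen F 7 z * chevB2.stGen F 6 (t 6) * chevB2.stGen F 5 (t 5) := by
    simp only [W, _root_.mul_inv_rev, stGen_inv hF, hneg, mul_assoc]
  have hval : ∀ i j, (φ X : Matrix (Fin 5) (Fin 5) F) i j =
      (gm5 5 (t 5) *ᵥ (gm5 6 (t 6) *ᵥ (gm5 7 z *ᵥ (gm5 0 c *ᵥ
        (gm5 7 z *ᵥ (gm5 6 (t 6) *ᵥ (gm5 5 (t 5) *ᵥ Pi.single j 1))))))) i := by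
    intro i j
    simp only [Matrix.mulVec_mulVec]
    rw [Matrix.mulVec_single_one, Matrix.col_apply]
    rw [hXdef, hWinv]
    simp only [W, map_mul, Units.val_mul, hφ, mul_assoc]
  have k43 := key _ w43
  have k34 := key _ w34
  have k14 := key _ w14
  rw [wsum_dirac] at k43 k34 k14
  have v43 : (φ X : Matrix (Fin 5) (Fin 5) F) 4 3 = t 6 ^ 2 * c := by
    simp only [hval, act0 _ _ h2, act5 _ _ h2, act6 _ _ h2, act7 _ _ h2]
    simp
    try ring_nf
    try simp [h2, show (4 : F) = 0 by linear_combination (2 : F) * h2]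
  have v34 : (φ X : Matrix (Fin 5) (Fin 5) F) 3 4 = t 5 ^ 2 * c := by
    simp only [hval, act0 _ _ h2, act5 _ _ h2, act6 _ _ h2, act7 _ _ h2]
    simp
    try ring_nf
    try simp [h2, show (4 : F) = 0 by linear_combination (2 : F) * h2]
  have v14 : (φ X : Matrix (Fin 5) (Fin 5) F) 1 4 = (t 5 ^ 2 * t 6 ^ 2 + z ^ 2) * c := by
    simp only [hval, act0 _ _ h2, act5 _ _ h2, act6 _ _ h2, act7 _ _ h2]
    simp
    try ring_nf
    try simp [h2, show (4 : F) = 0 by linear_combination (2 : F) * h2]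
  rw [v43] at k43
  rw [v34] at k34
  rw [v14] at k14
  have hdiv : ∀ x : F, (x * c) ^ 4 = x * c → x ^ 4 = x := fun x h => by
    rw [_root_.mul_pow, hc4] at h
    exact mul_right_cancel₀ hc h
  have t6 := four_of_sq h2 (hdiv _ k43)
  have t5 := four_of_sq h2 (hdiv _ k34)
  refine ⟨fun r hr => ?_, four_of_sq h2 ?_, hc4⟩
  · rw [hq] at hr
    simp only [List.mem_cons, List.not_mem_nil, or_false] at hr
    rcases hr with rfl | rfl <;> assumption
  · have hz := hdiv _ k14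
    rw [add_pow_four h2, _root_.mul_pow, ← pow_mul, ← pow_mul, mul_comm 2 4, pow_mul, pow_mul, t5, t6] at hz
    simpa [← pow_mul] using add_left_cancel hz

end Cfsg.Agent.Lie.SubMax.BTwoF
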