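import Cfsg.Agent.Lib.Lie.SubMax.Plane

/-!
Rational long coordinates give a rational scalar and a rational central coordinate.
-/

set_option autoImplicit false

namespace Cfsg.Agent.Lie.SubMax

open Cfsg.Lie Matrix
open scoped MatrixGroups

variable {D : ChevalleyDatum} {F : Type*} [Field F] (hF : Facts D)

include hF in
theorem qE_mem_rat {K₀ : Subfield F} {t : ℕ → F} (h : ∀ r ∈ q1 D, t r ∈ K₀) : qE hF t ∈ rat hF K₀ := by
  rw [qE]
  suffices h' : ∀ L : List ℕ, (∀ r ∈ L, t r ∈ K₀) → hF.wg (lineWord D L t) ∈ rat hF K₀ from h' _ h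
  intro L
  induction L with
  | nil => intro _; rw [lineWord, List.map_nil, hF.wg_nil]; exact one_mem _
  | cons r L ih =>
    intro hL
    simp only [lineWord, List.map_cons, hF.wg_cons] at ih ⊢
    exact mul_mem (xg_mem_rat hF K₀ r (hL r (by simp))) (ih fun s hs => hL s (by simp [hs]))

include hF in
theorem low_mem_rat {K₀ : Subfield F} {t : ℕ → F} {z c : F} (ht : ∀ r ∈ q1 D, t r ∈ K₀) (hz : z ∈ K₀)
    (hc : c ∈ K₀) : low hF t z c ∈ rat hF K₀ :=
  mul_mem (mul_mem (mul_mem (qE_mem_rat hF ht) (xg_mem_rat hF K₀ _ hz)) (xg_mem_rat hF K₀ _ hc))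
    (inv_mem (mul_mem (qE_mem_rat hF ht) (xg_mem_rat hF K₀ _ hz)))

theorem coord_lineWord {L : List ℕ} (hL : L.Nodup) (t : ℕ → F) {r : ℕ} (hr : r ∈ L) :
    coord (lineWord D L t) r = t r := by
  induction L with
  | nil => simp at hr
  | cons s L ih =>
    obtain ⟨hs, hL'⟩ := List.nodup_cons.1 hL
    rw [lineWord, List.map_cons, coord_cons]
    rcases List.mem_cons.1 hr with rfl | hr
    · have h0 : coord (lineWord D L t) r = 0 := by
        rw [coord, List.filter_eq_nil_iff.2 fun p hp => by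
          simpa using fun e : p.1 = r => hs (e ▸ mem_lineWord hp)]
        simp
      rw [lineWord] at h0
      simp [h0]
    · have e : s ≠ r := fun e => hs (e ▸ hr)
      rw [if_neg e, zero_add]
      exact ih hL' hr

theorem lineWord_congr {L : List ℕ} {t t' : ℕ → F} (h : ∀ r ∈ L, t r = t' r) :
    lineWord D L t = lineWord D L t' :=
  List.map_congr_left fun r hr => by rw [h r hr]

variable (hR : okRad D = true) {K₀ : Subfield F} {H : Subgroup (GL D.Idx F)}
variable {t : ℕ → F} {z c : F}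

include hF hR in
/-- Moving the coordinates by rational amounts. -/
theorem low_shift (hle : rat hF K₀ ≤ H) (hlow : low hF t z c ∈ H) {k : ℕ → F} (hk : ∀ r ∈ q1 D, k r ∈ K₀) :
    ∃ z', low hF (fun r => k r + t r) z' c ∈ H := by
  obtain ⟨z', hz'⟩ := wg_normal hF hR (lineWord D (q1 D) k ++ lineWord D (q1 D) t) fun p hp =>
    List.mem_cons_of_mem _ ((List.mem_append.1 hp).elim mem_lineWord mem_lineWord)
  have e : qE hF (fun r => k r + t r) = qE hF (coord (lineWord D (q1 D) k ++ lineWord D (q1 D) t)) := by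
    rw [qE, qE]
    congr 1
    refine lineWord_congr fun r hr => ?_
    rw [coord_append, coord_lineWord (q1_nodup hF) k hr, coord_lineWord (q1_nodup hF) t hr]
  rw [hF.wg_append, ← e] at hz'
  refine ⟨z' + z, ?_⟩
  have h1 := mul_mem (mul_mem (hle (qE_mem_rat hF hk)) hlow) (inv_mem (hle (qE_mem_rat hF hk)))
  convert h1 using 1
  rw [low, low, hF.xg_add, ← mul_assoc (qE hF fun r => k r + t r), ← hz']
  simp only [qE]
  group

/-- The commutation of a long root of level one with its lowering root. -/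
structure PlaneData (hF : Facts D) (F : Type*) [Field F] (b : ℕ) (Nu Nd : ℤ) : Prop where
  nu : Nu.natAbs = 1
  nd : Nd.natAbs = 1
  cbg : ∀ x y : F, Commute (hF.xg b x) (hF.xg (D.neg (opp D b)) y)
  ctb : ∀ x y : F, Commute (hF.xg (top D) x) (hF.xg b y)
  cu : ∀ μ w : F, hF.xg (top D) μ * hF.xg (D.neg (opp D b)) w * (hF.xg (top D) μ)⁻¹ =
      hF.xg (D.neg (opp D b)) w * hF.xg b ((Nu : F) * μ * w)
  cd : ∀ μ w : F, hF.xg (D.neg (top D)) μ * hF.xg b w * (hF.xg (D.neg (top D)) μ)⁻¹ =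
      hF.xg b w * hF.xg (D.neg (opp D b)) ((Nd : F) * μ * w)

include hF hR in
theorem planeData {b : ℕ} (hb : b ∈ q1 D) (O : OppData D b) : ∃ Nu Nd, PlaneData hF F b Nu Nd := by
  obtain ⟨hbn, hgn, -, hbt, hbt', hgt, hgt'⟩ := opp_side hF hR hb O
  have htop := top_pos hF hR
  have hnt := hF.neg_lt htop.2
  obtain ⟨Nu, hNu1, hup⟩ := O.up
  obtain ⟨Nd, hNd1, hdn⟩ := O.down'
  have cbg : ∀ x y : F, Commute (hF.xg b x) (hF.xg (D.neg (opp D b)) y) :=
    xg_commute hF hbn hgn (fun e => by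
      have := congrArg D.neg e
      rw [hF.neg_neg (q1_pos O.mem).2, hF.neg_neg hbn] at this
      exact O.ne this) O.abel
  have ctb : ∀ x y : F, Commute (hF.xg (top D) x) (hF.xg b y) := fun x y =>
    (top_central hF hR (List.mem_cons_of_mem _ hb) y x).symm
  have ctg : ∀ x y : F, Commute (hF.xg (D.neg (top D)) x) (hF.xg (D.neg (opp D b)) y) :=
    xg_commute hF hnt hgn (by rw [hF.neg_neg htop.2]; exact hgt) O.negs
  exact ⟨Nu, Nd, hNu1, hNd1, cbg, ctb,
    conj_one hF htop.2 hgn hgt hgt' hup (fun x y => ctb x y) fun x y => (cbg y x).symm,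
    conj_one hF hnt hbn hbt' (by rw [hF.neg_neg htop.2]; exact hbt) hdn (fun x y => ctg x y) cbg⟩

theorem intCast_ne_zero_of_natAbs_one {N : ℤ} (h : N.natAbs = 1) (F : Type*) [Field F] : (N : F) ≠ 0 :=
  fun e => zero_ne_one (by rw [← natAbs_one_cast h F, e, zero_mul])

include hF hR in
/-- With a rational coordinate the root elements are seen. -/
theorem Thin.pure_mem (T : Thin hF K₀ H) {b : ℕ} (hb : b ∈ q1 D) (P : Part D b) (ha : t (opp D b) ∈ K₀)
    {k : F} (hk : k ∈ K₀) : hF.xg b k ∈ seen (qE hF t * hF.xg (top D) z) H := by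
  obtain ⟨N, -, -, hN⟩ := P.toTop
  rw [← mul_one (hF.xg b k), ← hF.xg_zero (F := F) (top D), root_seen_iff hF hR hb P hN]
  exact T.le (mul_mem (xg_mem_rat hF K₀ _ hk) (xg_mem_rat hF K₀ _
    (sub_mem (zero_mem _) (mul_mem (mul_mem (intCast_mem K₀ N) hk) ha))))

include hF hR in
/-- With a rational coordinate, a seen root element is rational. -/
theorem Thin.pure_rational (T : Thin hF K₀ H) (hlt : lg D (top D) = true) {b : ℕ} (hb : b ∈ q1 D)
    (O : OppData D b) {w : F} (hw : hF.xg b w ∈ seen (qE hF t * hF.xg (top D) z) H) : w ∈ K₀ := by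
  obtain ⟨N, -, hN⟩ := O.toTop
  rw [← mul_one (hF.xg b w), ← hF.xg_zero (F := F) (top D), root_seen_iff hF hR hb O.part hN] at hw
  exact (T.pair hF hR hlt hb O hw).1

include hF hR in
/-- A rational long coordinate makes the scalar rational. -/
theorem Thin.c_mem (T : Thin hF K₀ H) (hlt : lg D (top D) = true) {b : ℕ} (hb : b ∈ q1 D) (O : OppData D b)
    (ha : t (opp D b) ∈ K₀) (hlow : low hF t z c ∈ H) : c ∈ K₀ := by
  obtain ⟨Nu, Nd, P⟩ := planeData (F := F) hF hR hb O
  have h1 := T.pure_mem hF hR (z := z) hb O.part ha (one_mem K₀)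
  have h2 := mul_mem (mul_mem (bot_seen hF hlow) h1) (inv_mem (bot_seen hF hlow))
  rw [P.cd, mul_one] at h2
  have h3 := (Subgroup.mul_mem_cancel_left _ h1).1 h2
  have hx := top_seen hF hR (t := t) (z := z) T.le (one_mem K₀)
  have h4 := mul_mem (mul_mem hx h3) (inv_mem hx)
  rw [P.cu] at h4
  have h5 := T.pure_rational hF hR hlt hb O ((Subgroup.mul_mem_cancel_left _ h3).1 h4)
  have h6 := mul_mem (mul_mem (natAbs_one_mem K₀ (N := Nu)) (natAbs_one_mem K₀ (N := Nd))) h5
  convert h6 using 1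
  linear_combination (-c) * natAbs_one_cast P.nu F - (Nu : F) * Nu * c * natAbs_one_cast P.nd F

include hF hR in
/-- The lowering root elements are seen. -/
theorem Thin.side_mem (T : Thin hF K₀ H) {b : ℕ} (hb : b ∈ q1 D) (O : OppData D b)
    (ha : t (opp D b) ∈ K₀) (hlow : low hF t z c ∈ H) (hc : c ≠ 0) (hcK : c ∈ K₀) {k : F} (hk : k ∈ K₀) :
    hF.xg (D.neg (opp D b)) k ∈ seen (qE hF t * hF.xg (top D) z) H := by
  obtain ⟨Nu, Nd, P⟩ := planeData (F := F) hF hR hb O
  have h1 := T.pure_mem hF hR (z := z) hb O.part ha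
    (mul_mem (mul_mem (natAbs_one_mem K₀ (N := Nd)) hk) (inv_mem hcK))
  have h2 := mul_mem (mul_mem (bot_seen hF hlow) h1) (inv_mem (bot_seen hF hlow))
  rw [P.cd] at h2
  have h3 := (Subgroup.mul_mem_cancel_left _ h1).1 h2
  rwa [show (Nd : F) * c * ((Nd : F) * k * c⁻¹) = (Nd : F) * Nd * k * (c * c⁻¹) by ring, natAbs_one_cast P.nd,
    mul_inv_cancel₀ hc, one_mul, mul_one] at h3

include hF hR in
/-- The central coordinate is rational when all others are. -/
theorem Thin.z_mem (T : Thin hF K₀ H) (hlt : lg D (top D) = true) {b : ℕ} (hb : b ∈ q1 D)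
    (hbl : lg D b = true) (O : OppData D b) (ht : ∀ r ∈ q1 D, t r ∈ K₀) (hlow : low hF t z c ∈ H) (hc : c ≠ 0) :
    z ∈ K₀ := by
  obtain ⟨Nu, Nd, P⟩ := planeData (F := F) hF hR hb O
  have hcK := T.c_mem hF hR hlt hb O (ht _ O.mem) hlow
  have hg := T.side_mem hF hR hb O (ht _ O.mem) hlow hc hcK (one_mem K₀)
  rw [mem_seen] at hg
  have hq := T.le (qE_mem_rat hF ht)
  have h2 : hF.xg (top D) z * hF.xg (D.neg (opp D b)) 1 * (hF.xg (top D) z)⁻¹ ∈ H := by
    have := mul_mem (mul_mem (inv_mem hq) hg) hq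
    convert this using 1
    group
  rw [P.cu, mul_one] at h2
  have h3 := T.long _ hbl _ ((Subgroup.mul_mem_cancel_left _ (T.le (xg_mem_rat hF K₀ _ (one_mem K₀)))).1 h2)
  have h4 := mul_mem (natAbs_one_mem K₀ (N := Nu)) h3
  rwa [← mul_assoc, natAbs_one_cast P.nu, one_mul] at h4

end Cfsg.Agent.Lie.SubMax
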