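import Cfsg.Agent.Lib.Lie.SubMax.Full
import Cfsg.Agent.Lib.Lie.SubMax.Rational
import Cfsg.Agent.Lib.Lie.FieldFix

/-!
Overgroups of the rational group once all normal forms are rational.
-/

set_option autoImplicit false

namespace Cfsg.Agent.Lie.SubMax

open Cfsg.Lie Matrix
open scoped MatrixGroups

/-- All standard forms in a subgroup without irrational long root elements are rational. -/
def LowRational {D : ChevalleyDatum} {F : Type*} [Field F] (hF : Facts D) (K₀ : Subfield F) : Prop :=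
  ∀ H : Subgroup (GL D.Idx F), Thin hF K₀ H → ∀ (t : ℕ → F) (z c : F), c ≠ 0 → low hF t z c ∈ H →
    (∀ r ∈ q1 D, t r ∈ K₀) ∧ z ∈ K₀ ∧ c ∈ K₀

variable {D : ChevalleyDatum} {F : Type*} [Field F] (hF : Facts D)

/-- A subfield properly above one of prime index is everything. -/
theorem eq_top_of_lt [Fintype F] {K₀ K₁ : Subfield F} {r : ℕ} (hr : r.Prime)
    (hcard : Fintype.card F = Nat.card K₀ ^ r) (h : K₀ < K₁) : K₁ = ⊤ := by
  letI : Algebra K₀ K₁ := (Subfield.inclusion h.le).toAlgebra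
  have hq : 1 < Nat.card K₀ := Finite.one_lt_card
  have h1 : Nat.card K₁ = Nat.card K₀ ^ Module.finrank K₀ K₁ := Module.natCard_eq_pow_finrank
  have h2 : Fintype.card F = Nat.card K₁ ^ Module.finrank K₁ F := by
    rw [← Nat.card_eq_fintype_card]; exact Module.natCard_eq_pow_finrank
  rw [hcard, h1, ← pow_mul] at h2
  have h3 := Nat.pow_right_injective (show 2 ≤ Nat.card K₀ from hq) h2
  have hd : Module.finrank K₀ K₁ ≠ 1 := fun e => by
    rw [e, pow_one] at h1
    exact h.ne (SetLike.coe_injective (Set.eq_of_subset_of_ncard_le h.le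
      (le_of_eq h1) (Set.toFinite _)))
  rcases (Nat.prime_mul_iff.1 (h3 ▸ hr)) with ⟨-, e⟩ | ⟨-, e⟩
  · refine SetLike.coe_injective (Set.eq_of_subset_of_ncard_le (Set.subset_univ _) ?_ (Set.toFinite _))
    rw [Subfield.coe_top, Set.ncard_univ]
    refine le_of_eq ?_
    show Nat.card F = Nat.card K₁
    rw [h1, Nat.card_eq_fintype_card, hcard, h3, e, mul_one]
  · exact absurd e hd

include hF in
theorem gmap_fix_rat {K₀ : Subfield F} (σ : F →+* F) (hσ : ∀ x ∈ K₀, σ x = x) {g : GL D.Idx F}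
    (hg : g ∈ rat hF K₀) : gmap σ g = g := by
  induction hg using Subgroup.closure_induction with
  | mem g hg => obtain ⟨r, t, ht, rfl⟩ := hg; rw [hF.gmap_xg, hσ t ht]
  | one => exact map_one _
  | mul a b _ _ ha hb => rw [map_mul, ha, hb]
  | inv a _ ha => rw [map_inv, ha]

include hF in
theorem gmap_mem_group (σ : F →+* F) {g : GL D.Idx F} (hg : g ∈ D.group F) : gmap σ g ∈ D.group F := by
  rw [hF.group_eq] at hg
  induction hg using Subgroup.closure_induction with
  | mem g hg => obtain ⟨⟨r, t⟩, rfl⟩ := hg; rw [hF.gmap_xg]; exact hF.xg_mem_group _ _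
  | one => rw [map_one]; exact one_mem _
  | mul a b _ _ ha hb => rw [map_mul]; exact mul_mem ha hb
  | inv a _ ha => rw [map_inv]; exact inv_mem ha

include hF in
/-- An overgroup without irrational long root elements consists of rational matrices. -/
theorem thin_fix [Fintype F] (hR : okRad D = true) (hC : okClimb D = true) (hG : okGen D = true)
    (σ : F →+* F) {K₀ : Subfield F} (hfix : ∀ x, x ∈ K₀ ↔ σ x = x) (hlow : LowRational hF K₀)
    {H : Subgroup (GL D.Idx F)} (T : Thin hF K₀ H) (hH : H ≤ D.group F) : ∀ g ∈ H, gmap σ g = g := by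
  intro g hg
  have hle := T.le
  have hgG := hH hg
  have hfixes : Fixes hF K₀ ((gmap σ g)⁻¹ * g) := by
    intro m hm
    have hgm : g * m ∈ H := mul_mem hg (hle hm)
    have hy : g * m * hF.xg (top D) 1 * (g * m)⁻¹ ∈ H :=
      mul_mem (mul_mem hgm (hle (xg_mem_rat hF K₀ _ (one_mem _)))) (inv_mem hgm)
    obtain ⟨m', hm', q, z, c, hc, he⟩ := normal_form hF K₀ hR hC (hH hgm) (t := (1 : F)) one_ne_zero
    have hl : low hF q z c ∈ H := he ▸ mul_mem (mul_mem (hle hm') hy) (inv_mem (hle hm'))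
    obtain ⟨h1, h2, h3⟩ := hlow H T q z c hc hl
    have hyr : g * m * hF.xg (top D) 1 * (g * m)⁻¹ ∈ rat hF K₀ := by
      have := mul_mem (mul_mem (inv_mem hm') (he ▸ low_mem_rat hF h1 h2 h3)) hm'
      simpa [mul_assoc] using this
    have e := gmap_fix_rat hF σ (fun x hx => (hfix x).1 hx) hyr
    have eσ : ∀ x ∈ rat hF K₀, gmap σ x = x := fun x hx => gmap_fix_rat hF σ (fun x hx => (hfix x).1 hx) hx
    rw [map_mul, map_mul, map_inv, map_mul, eσ m hm, eσ _ (xg_mem_rat hF K₀ _ (one_mem _))] at e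
    show _ = _
    calc m⁻¹ * ((gmap σ g)⁻¹ * g) * m * hF.xg (top D) 1
        = m⁻¹ * (gmap σ g)⁻¹ * (g * m * hF.xg (top D) 1 * (g * m)⁻¹) * (g * m) := by group
      _ = _ := by rw [← e]; group
  have h1 := hfixes.eq_one hF hR hC hG (mul_mem (inv_mem (gmap_mem_group hF σ hgG)) hgG)
  exact (inv_mul_eq_one.1 h1)

include hF in
/-- An overgroup of the rational group contains the rational group of a subfield and consists of matrices over it. -/
theorem overgroup [Fintype F] (hR : okRad D = true) (hC : okClimb D = true) (hG : okGen D = true)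
    (hT : okTorus D = true) (hlow : ∀ K₁ : Subfield F, LowRational hF K₁) {K₀ : Subfield F}
    {H : Subgroup (GL D.Idx F)} (hle : rat hF K₀ ≤ H) (hH : H ≤ D.group F) :
    ∃ K₁ : Subfield F, K₀ ≤ K₁ ∧ rat hF K₁ ≤ H ∧
      ∀ σ : F →+* F, (∀ x, x ∈ K₁ ↔ σ x = x) → ∀ g ∈ H, gmap σ g = g := by
  classical
  obtain ⟨K₁, ⟨h₀, h₁⟩, hmax⟩ := Set.Finite.exists_maximal
    (s := {K : Subfield F | K₀ ≤ K ∧ rat hF K ≤ H}) (Set.toFinite _) ⟨K₀, le_rfl, hle⟩
  refine ⟨K₁, h₀, h₁, fun σ hσ => thin_fix hF hR hC hG σ hσ (hlow K₁) ⟨h₁, fun s hs t ht => ?_⟩ hH⟩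
  by_contra hn
  obtain ⟨K₂, hlt, h₂⟩ := rat_le_of_long hF hR hC hT h₁ hs hn ht
  exact hlt.not_ge (hmax ⟨h₀.trans hlt.le, h₂⟩ hlt.le)

end Cfsg.Agent.Lie.SubMax
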