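import Cfsg.Agent.Lib.Lie.SubMax.Climb
import Cfsg.Agent.Lib.Lie.BruhatAux
import Cfsg.Agent.Lib.Lie.TorusCard

/-!
An element commuting with the rational conjugates of a long root element is trivial.
-/

set_option autoImplicit false

namespace Cfsg.Agent.Lie.SubMax

open Cfsg.Lie Matrix
open scoped MatrixGroups

/-- For a simple root which is not long, a commutator of a long root element with positive terms only. -/
def okGen (D : ChevalleyDatum) : Bool :=
  (List.range D.rank).all fun i => lg D (D.simple i) ||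
    (List.range D.nroots).any fun r => lg D r && (List.range D.nroots).any fun s =>
      s != r && s != D.neg r &&
        ((D.commTerms r s).all fun c => decide (D.nroots / 2 ≤ c.1) && decide (c.1 < D.nroots)) &&
        match (D.commTerms r s).filter (fun c => c.1 == D.simple i) with
          | [c] => c.2.1.natAbs == 1
          | _ => false

variable {D : ChevalleyDatum} {F : Type*} [Field F] (hF : Facts D)

include hF in
/-- Every long root element is rationally conjugate to one on the lowest root. -/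
theorem long_conj (hC : okClimb D = true) (K₀ : Subfield F) : ∀ r, lg D r = true →
    ∃ m ∈ rat hF K₀, ∃ e : F, e * e = 1 ∧ ∀ t, m * hF.xg r t * m⁻¹ = hF.xg (D.neg (top D)) (e * t) := by
  intro r
  induction r using Nat.strong_induction_on with
  | _ r ih =>
    intro hr
    by_cases hlow : r = D.neg (top D)
    · exact ⟨1, one_mem _, 1, one_mul 1, fun t => by simp [hlow]⟩
    have hC' := hC
    simp only [okClimb, Bool.and_eq_true, List.all_eq_true, List.mem_range, Bool.or_eq_true,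
      List.any_eq_true, beq_iff_eq, decide_eq_true_eq, Bool.not_eq_true', List.isEmpty_iff] at hC'
    have hlt := lg_lt hF hr
    obtain ⟨i, hi, hpos, -⟩ := (hC'.2 r hlt).resolve_left (by simp [hr, hlow])
    have hsl := hF.simple_lt i hi
    have hsmall : D.reflectRoot i r < r := by
      refine hF.lt_of_psi_lt (hF.refl_lt i hi r hlt) ?_
      rw [TorusSys.psi_comb (hF := hF) (r := r) (s := D.simple i) (k := D.reflectRoot i r) 1 (-D.cartan i r)
        (fun j hj => by rw [hF.cartan_refl i hi r hlt j hj]; ring)]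
      have := hF.psi_pos hsl (hF.simple_ge i hi)
      nlinarith
    obtain ⟨m, hm, e, he, hconj⟩ := ih _ hsmall (lg_refl hF hi hr)
    refine ⟨m * (hF.tsys F).nS ⟨i, hi⟩, mul_mem hm (nS_mem_rat hF K₀ _), e * hF.sgn F i r, ?_, fun t => ?_⟩
    · linear_combination (hF.sgn F i r * hF.sgn F i r) * he + hF.sgn_mul_self (F := F) hi hlt
    · have h1 := (hF.tsys F).nS_conj ⟨i, hi⟩ hlt t
      rw [hF.tsys_x, hF.tsys_x] at h1
      calc m * (hF.tsys F).nS ⟨i, hi⟩ * hF.xg r t * (m * (hF.tsys F).nS ⟨i, hi⟩)⁻¹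
          = m * ((hF.tsys F).nS ⟨i, hi⟩ * hF.xg r t * ((hF.tsys F).nS ⟨i, hi⟩)⁻¹) * m⁻¹ := by group
        _ = _ := by rw [h1, hconj, mul_assoc]

/-- The elements of U with a given coordinate at a simple root. -/
def HasCoord (hF : Facts D) (i : Fin D.rank) (g : GL D.Idx F) (a : F) : Prop :=
  ∃ v ∈ (hF.tsys F).US (TorusSys.posNe D i), g = v * hF.xg (D.simple i) a

include hF in
theorem HasCoord.mul {i : Fin D.rank} {g g' : GL D.Idx F} {a a' : F} (h : HasCoord hF i g a)
    (h' : HasCoord hF i g' a') : HasCoord hF i (g * g') (a + a') := by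
  obtain ⟨v, hv, rfl⟩ := h
  obtain ⟨w, hw, rfl⟩ := h'
  refine ⟨v * (hF.xg (D.simple i) a * w * (hF.xg (D.simple i) a)⁻¹),
    mul_mem hv ((Subgroup.mem_normalizer_iff.1 ((hF.tsys F).simple_normalizes_posNe i a) w).1 hw), ?_⟩
  rw [hF.xg_add]; group

include hF in
theorem HasCoord.inv {i : Fin D.rank} {g : GL D.Idx F} {a : F} (h : HasCoord hF i g a) :
    HasCoord hF i g⁻¹ (-a) := by
  obtain ⟨v, hv, rfl⟩ := h
  refine ⟨(hF.xg (D.simple i) a)⁻¹ * v⁻¹ * hF.xg (D.simple i) a,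
    (Subgroup.mem_normalizer_iff''.1 ((hF.tsys F).simple_normalizes_posNe i a) _).1 (inv_mem hv), ?_⟩
  rw [hF.xg_neg]; group

include hF in
theorem HasCoord.unique {i : Fin D.rank} {g : GL D.Idx F} {a a' : F} (h : HasCoord hF i g a)
    (h' : HasCoord hF i g a') : a = a' := by
  obtain ⟨v, hv, rfl⟩ := h
  obtain ⟨w, hw, hh⟩ := h'
  have hx : hF.xg (D.simple i) (a - a') ∈ (hF.tsys F).US (TorusSys.posNe D i) := by
    rw [sub_eq_add_neg, hF.xg_add, hF.xg_neg]
    have : hF.xg (D.simple i) a * (hF.xg (D.simple i) a')⁻¹ = v⁻¹ * w := by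
      rw [eq_inv_mul_iff_mul_eq, ← mul_assoc, hh, mul_inv_cancel_right]
    rw [this]
    exact mul_mem (inv_mem hv) hw
  have h1 := ((hF.tsys F).nS_conj_posNe i hx).1
  have h2 := (hF.tsys F).nS_conj i (hF.simple_lt i i.isLt) (a - a')
  rw [hF.tsys_x, hF.tsys_x, Facts.refl_simple] at h2
  rw [h2] at h1
  have hlow : D.neg (D.simple i) < D.nroots / 2 := by
    by_contra hc
    have := (hF.neg_ge_iff (hF.simple_lt i i.isLt)).1 (not_lt.1 hc)
    have := hF.simple_ge i i.isLt
    omega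
  have h3 := hF.B_inter_V ((hF.tsys F).U_le_B ((hF.tsys F).US_posNe_le_U i h1))
    (hF.x_mem_negUnipotent hlow _)
  have h4 := congrArg Units.val h3
  rw [Facts.coe_xg, Units.val_one, hF.x_eq_one _ (hF.neg_lt (hF.simple_lt i i.isLt)), mul_eq_zero] at h4
  exact sub_eq_zero.1 (h4.resolve_left (left_ne_zero_of_mul_eq_one (hF.sgn_mul_self i.isLt (hF.simple_lt i i.isLt))))

include hF in
theorem hasCoord_wg {i : Fin D.rank} : ∀ w : List (ℕ × F), (∀ p ∈ w, D.nroots / 2 ≤ p.1 ∧ p.1 < D.nroots) →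
    HasCoord hF i (hF.wg w) ((w.filter fun p => p.1 == D.simple i).map Prod.snd).sum := by
  intro w
  induction w with
  | nil => intro _; exact ⟨1, one_mem _, by simp [hF.wg_nil, hF.xg_zero]⟩
  | cons p w ih =>
    intro hw
    have h2 := ih fun q hq => hw q (by simp [hq])
    rw [hF.wg_cons]
    by_cases e : p.1 = D.simple i
    · rw [List.filter_cons_of_pos (by simp [e]), List.map_cons, List.sum_cons]
      exact HasCoord.mul hF ⟨1, one_mem _, by rw [e, one_mul]⟩ h2
    · rw [List.filter_cons_of_neg (by simp [e])]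
      have := HasCoord.mul hF (g := hF.xg p.1 p.2) (a := 0) (i := i) ⟨_, CommSys.x_mem_US _
        (TorusSys.mem_posNe.2 ⟨(hw p (by simp)).1, (hw p (by simp)).2, e⟩) p.2,
        by rw [hF.xg_zero, mul_one]; rfl⟩ h2
      rwa [zero_add] at this

include hF in
/-- The rational conjugates of the root element of the highest root, as a centralising condition. -/
def Fixes (K₀ : Subfield F) (h : GL D.Idx F) : Prop :=
  ∀ m ∈ rat hF K₀, Commute (m⁻¹ * h * m) (hF.xg (top D) 1)

include hF in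
theorem Fixes.conj {K₀ : Subfield F} {h m : GL D.Idx F} (hh : Fixes hF K₀ h) (hm : m ∈ rat hF K₀) :
    Fixes hF K₀ (m⁻¹ * h * m) := fun m' hm' => by
  have := hh (m * m') (mul_mem hm hm')
  rwa [show m'⁻¹ * (m⁻¹ * h * m) * m' = (m * m')⁻¹ * h * (m * m') by group]

include hF in
theorem Fixes.commute_conj {K₀ : Subfield F} {h m : GL D.Idx F} (hh : Fixes hF K₀ h) (hm : m ∈ rat hF K₀) :
    Commute h (m * hF.xg (top D) 1 * m⁻¹) := by
  have e := (hh m hm).eq
  show _ = _
  calc h * (m * hF.xg (top D) 1 * m⁻¹) = m * (m⁻¹ * h * m * hF.xg (top D) 1) * m⁻¹ := by group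
    _ = _ := by rw [e]; group

variable (hR : okRad D = true) (hC : okClimb D = true) (hG : okGen D = true)

include hF hC in
theorem Fixes.commute_long {K₀ : Subfield F} {h : GL D.Idx F} (hh : Fixes hF K₀ h) {r : ℕ}
    (hr : lg D r = true) : Commute h (hF.xg r 1) := by
  have hlt : lg D (top D) = true := by
    have := hC; simp only [okClimb, Bool.and_eq_true] at this; exact this.1
  obtain ⟨m, hm, e, he, hconj⟩ := long_conj hF hC K₀ r hr
  obtain ⟨n, hn, f, hf, hconj'⟩ := long_conj hF hC K₀ (top D) hlt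
  have hsign : e * f = 1 ∨ e * f = -1 := mul_self_eq_one_iff.1 (by linear_combination (f * f) * he + hf)
  have h1 := hh.commute_conj hF (mul_mem (inv_mem hm) hn)
  have e1 : m⁻¹ * n * hF.xg (top D) 1 * (m⁻¹ * n)⁻¹ = hF.xg r (e * f) := by
    have h2 : m * hF.xg r (e * f) * m⁻¹ = n * hF.xg (top D) 1 * n⁻¹ := by
      rw [hconj, hconj', ← mul_assoc, he, one_mul, mul_one]
    calc m⁻¹ * n * hF.xg (top D) 1 * (m⁻¹ * n)⁻¹ = m⁻¹ * (n * hF.xg (top D) 1 * n⁻¹) * m := by group
      _ = _ := by rw [← h2]; group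
  rw [e1] at h1
  rcases hsign with h3 | h3
  · rwa [h3] at h1
  · rw [h3, hF.xg_neg] at h1
    exact Commute.inv_right_iff.1 h1

include hF hC hG in
theorem exists_coord_one {K₀ : Subfield F} (i : Fin D.rank) :
    ∃ e ∈ (hF.tsys F).U, ∃ a : F, a ≠ 0 ∧ a * a = 1 ∧ HasCoord hF i e a ∧
      ∀ h, Fixes hF K₀ h → Commute h e := by
  by_cases hl : lg D (D.simple i) = true
  · exact ⟨hF.xg (D.simple i) 1, (hF.tsys F).x_mem_U (hF.simple_ge i i.isLt) (hF.simple_lt i i.isLt) 1, 1,
      one_ne_zero, one_mul 1, ⟨1, one_mem _, (one_mul _).symm⟩, fun h hh => hh.commute_long hF hC hl⟩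
  have hG' := hG
  simp only [okGen, List.all_eq_true, List.any_eq_true, List.mem_range, Bool.or_eq_true, Bool.and_eq_true,
    bne_iff_ne, decide_eq_true_eq] at hG'
  obtain ⟨r, hr, hrl, s, hs, ⟨⟨hsr, hsn⟩, hpos⟩, hone⟩ := (hG' i i.isLt).resolve_left hl
  set w := D.commWord F r s 1 1 with hw
  have hwpos : ∀ p ∈ w, D.nroots / 2 ≤ p.1 ∧ p.1 < D.nroots := by
    intro p hp
    obtain ⟨c, hc, rfl⟩ := List.mem_map.1 hp
    exact hpos c hc
  obtain ⟨a, ha, haa, hcoord⟩ : ∃ a : F, a ≠ 0 ∧ a * a = 1 ∧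
      ((w.filter fun p => p.1 == D.simple i).map Prod.snd).sum = a := by
    rw [hw, ChevalleyDatum.commWord, List.filter_map]
    revert hone
    simp only [Function.comp_def]
    generalize (D.commTerms r s).filter (fun c => c.1 == D.simple i) = L
    match L with
    | [] => simp
    | [c] =>
      intro hc
      simp only [beq_iff_eq] at hc
      refine ⟨(c.2.1 : F) * (-1) ^ c.2.2.1, ?_, ?_, by simp⟩
      · rcases Int.natAbs_eq c.2.1 with e | e <;> rw [e, hc] <;> simp
      · rcases Int.natAbs_eq c.2.1 with e | e <;> rw [e, hc] <;>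
          simp [← mul_pow, neg_mul_neg]
    | _ :: _ :: _ => simp
  have hU : ∀ w' : List (ℕ × F), (∀ p ∈ w', D.nroots / 2 ≤ p.1 ∧ p.1 < D.nroots) → hF.wg w' ∈ (hF.tsys F).U := by
    intro w'
    induction w' with
    | nil => intro _; rw [hF.wg_nil]; exact one_mem _
    | cons p w' ih =>
      intro h'
      rw [hF.wg_cons]
      exact mul_mem ((hF.tsys F).x_mem_U (h' p (by simp)).1 (h' p (by simp)).2 _) (ih fun q hq => h' q (by simp [hq]))
  refine ⟨hF.wg w, hU w hwpos, a, ha, haa, hcoord ▸ hasCoord_wg hF w hwpos, fun h hh => ?_⟩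
  have e := xg_swap hF hr hs hsr hsn (1 : F) 1
  rw [← hw] at e
  have key : ∀ g, Fixes hF K₀ g → Commute g (hF.xg s 1 * hF.wg w * (hF.xg s 1)⁻¹) := by
    intro g hg
    have h1 := hg.commute_long hF hC hrl
    have h2 := (hg.conj hF (xg_mem_rat hF K₀ s (one_mem _))).commute_long hF hC hrl
    have h2' : Commute g (hF.xg s 1 * hF.xg r 1 * (hF.xg s 1)⁻¹) := by
      show _ = _
      calc g * (hF.xg s 1 * hF.xg r 1 * (hF.xg s 1)⁻¹)
          = hF.xg s 1 * ((hF.xg s 1)⁻¹ * g * hF.xg s 1 * hF.xg r 1) * (hF.xg s 1)⁻¹ := by group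
        _ = _ := by rw [h2.eq]; group
    have e' : hF.xg s 1 * hF.wg w * (hF.xg s 1)⁻¹ = (hF.xg r 1)⁻¹ * (hF.xg s 1 * hF.xg r 1 * (hF.xg s 1)⁻¹) := by
      rw [e]; group
    rw [e']
    exact h1.inv_right.mul_right h2'
  have h4 := key _ (hh.conj hF (inv_mem (xg_mem_rat hF K₀ s (one_mem _))))
  show _ = _
  calc h * hF.wg w = (hF.xg s 1)⁻¹ * ((hF.xg s 1)⁻¹⁻¹ * h * (hF.xg s 1)⁻¹ *
        (hF.xg s 1 * hF.wg w * (hF.xg s 1)⁻¹)) * hF.xg s 1 := by group
    _ = _ := by rw [h4.eq]; group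

include hF hC hG in
/-- A fixing element of the group lies in the Borel subgroup. -/
theorem Fixes.mem_B {K₀ : Subfield F} {h : GL D.Idx F} (hh : Fixes hF K₀ h) (hg : h ∈ D.group F) :
    h ∈ (hF.tsys F).B := by
  obtain ⟨b, hb, w, u, hu, hbw⟩ := hF.mem_bnu hg
  suffices hw : w = 1 by
    rw [hbw, hw]
    refine mul_mem (mul_mem hb ((hF.tsys F).H_le_B (hF.tsys F).nW_one)) ((hF.tsys F).U_le_B ?_)
    exact CommSys.US_mono _ (fun r hr => Facts.mem_posL.2 ((TorusSys.closed_invList w).mem_pos r hr)) hu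
  by_contra hne
  obtain ⟨i, hi⟩ : ∃ i : Fin D.rank, w • hF.refSys.α i ∉ hF.refSys.P := by
    by_contra hall
    simp only [not_exists, not_not] at hall
    obtain ⟨ω, hω, hlen⟩ := hF.refSys.exists_reduced w
    rcases List.eq_nil_or_concat ω with rfl | ⟨ω', i, rfl⟩
    · exact hne (by rw [← hω, RefSystem.pr_nil])
    · rw [List.concat_eq_append, RefSystem.pr_append, RefSystem.pr_singleton] at hω
      have h1 := hF.refSys.len_pr_le ω'
      have h2 := hF.refSys.len_mul_s_of_mem (w := w) (hall i)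
      have h3 : w * hF.refSys.s i = hF.refSys.pr ω' := by
        rw [← hω, mul_assoc, show hF.refSys.s i = hF.wS i from rfl, hF.wS_sq, mul_one]
      rw [h3] at h2
      rw [List.concat_eq_append, List.length_append, List.length_singleton] at hlen
      omega
  obtain ⟨e, heU, a, ha, -, hcoord, hfix⟩ := exists_coord_one hF hC hG (K₀ := K₀) i
  set w' := w * hF.refSys.s i with hw'
  have hpos' : w' • hF.refSys.α i ∈ hF.refSys.P := by
    rw [hw', mul_smul, hF.refSys.s_α, RefSystem.smul_neg, hF.refSys.neg_mem]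
    exact hi
  have hww : w' * hF.refSys.s i = w := by
    rw [hw', mul_assoc, show hF.refSys.s i = hF.wS i from rfl, hF.wS_sq, mul_one]
  -- the representative of w
  obtain ⟨g, hgH, hgn⟩ : ∃ g ∈ (hF.tsys F).H, (hF.tsys F).nW w' * (hF.tsys F).nS i = g * (hF.tsys F).nW w := by
    obtain ⟨g, hgH, hgn⟩ := (hF.tsys F).nw_eq (ω := TorusSys.word w' ++ [i]) (w := w)
      (by rw [RefSystem.pr_append, RefSystem.pr_singleton, TorusSys.pr_word, hww])
    rw [TorusSys.nw_append, TorusSys.nw_singleton] at hgn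
    exact ⟨g, hgH, hgn⟩
  have huU : u ∈ (hF.tsys F).U :=
    CommSys.US_mono _ (fun r hr => Facts.mem_posL.2 ((TorusSys.closed_invList w).mem_pos r hr)) hu
  obtain ⟨cu, hcu⟩ := (hF.tsys F).U_split i huU
  obtain ⟨hcu1, au, rfl⟩ := hcu
  have hconjcoord : HasCoord hF i (cu * (hF.tsys F).x (D.simple i) au * e * (cu * (hF.tsys F).x (D.simple i) au)⁻¹) a := by
    have h0 : HasCoord hF i (cu * (hF.tsys F).x (D.simple i) au) au := ⟨cu, hcu1, rfl⟩
    have := (h0.mul hF hcoord).mul hF (h0.inv hF)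
    rwa [show au + a + -au = a by ring] at this
  obtain ⟨v, hv, hveq⟩ := hconjcoord
  set T := hF.tsys F
  set n := T.nS i with hn
  have hsl := hF.simple_lt i i.isLt
  -- the conjugate by the representative of w lies in B
  have heB : e ∈ T.B := T.U_le_B heU
  have hcomm := (hfix h hh).eq
  have h1 : b⁻¹ * e * b = T.nW w * (v * hF.xg (D.simple i) a) * (T.nW w)⁻¹ := by
    rw [← hveq]
    have : e = h * e * h⁻¹ := by rw [hcomm]; group
    conv_lhs => rw [this, hbw]
    group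
  -- move to w'
  set v'' := n * v * n⁻¹
  have hv'' : v'' ∈ T.U := T.US_posNe_le_U i (T.nS_conj_posNe i hv).1
  set a' := hF.sgn F i (D.simple i) * a
  have ha' : a' ≠ 0 := mul_ne_zero (left_ne_zero_of_mul_eq_one (hF.sgn_mul_self i.isLt hsl)) ha
  have hflip : n * hF.xg (D.simple i) a * n⁻¹ = hF.xg (D.neg (D.simple i)) a' := by
    have := T.nS_conj i hsl a
    rwa [hF.tsys_x, hF.tsys_x, Facts.refl_simple] at this
  obtain ⟨b₀, hb₀, h2⟩ : ∃ b₀ ∈ T.B, T.nW w' * (v'' * hF.xg (D.neg (D.simple i)) a') = b₀ * T.nW w' := by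
    refine ⟨g * (b⁻¹ * e * b) * g⁻¹, mul_mem (mul_mem (T.H_le_B hgH)
      (mul_mem (mul_mem (inv_mem hb) heB) hb)) (inv_mem (T.H_le_B hgH)), ?_⟩
    rw [h1, ← hflip]
    have e' : T.nW w' = g * T.nW w * n⁻¹ := by rw [← hgn, mul_inv_cancel_right]
    rw [e']
    simp only [v'']
    group
  obtain ⟨y, g', hg', hy⟩ := T.neg_simple_eq i ha'
  obtain ⟨b', hb', u', hu', h3⟩ := T.nW_mul_B w' (b := v'' * hF.xg (D.simple i) y * g')
    (mul_mem (mul_mem (T.U_le_B hv'') (T.U_le_B (T.x_mem_U (hF.simple_ge i i.isLt) hsl y))) (T.H_le_B hg'))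
  have hu'' : n⁻¹ * u' * n ∈ T.US (TorusSys.posNe D i) := by
    refine (T.nS_conj_posNe i ?_).2
    refine CommSys.US_mono _ (fun r hr => ?_) hu'
    obtain ⟨hr1, hr2⟩ := (TorusSys.closed_invList w').mem_pos r hr
    refine TorusSys.mem_posNe.2 ⟨hr1, hr2, fun e0 => ?_⟩
    obtain ⟨h, hi'⟩ := TorusSys.mem_invList.1 hr
    have : (⟨r, h⟩ : Fin D.nroots) = hF.refSys.α i := Fin.ext e0
    rw [this] at hi'
    exact ((RefSystem.mem_inv _).1 hi').2 hpos'
  have h4 : b₀ * T.nW w' * 1 = (b' * g) * T.nW w * (n⁻¹ * u' * n * hF.xg (D.simple i) y) := by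
    rw [mul_one, ← h2, show hF.xg (D.neg (D.simple i)) a' = T.x (D.neg (D.simple i)) a' from rfl, hy]
    calc T.nW w' * (v'' * (hF.xg (D.simple i) y * g' * n * hF.xg (D.simple i) y))
        = T.nW w' * (v'' * hF.xg (D.simple i) y * g') * (n * hF.xg (D.simple i) y) := by group
      _ = b' * (T.nW w' * n) * (n⁻¹ * u' * n * hF.xg (D.simple i) y) := by rw [h3]; group
      _ = _ := by rw [hgn]; group
  have h5 := T.bruhat_eq hF.hsep hb₀ (one_mem _) (mul_mem hb' (T.H_le_B hgH))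
    (mul_mem (T.U_le_B (T.US_posNe_le_U i hu'')) (T.U_le_B (T.x_mem_U (hF.simple_ge i i.isLt) hsl y))) h4
  rw [← h5] at hi
  exact hi hpos'

include hF hR hC hG in
/-- A fixing element of the group is trivial. -/
theorem Fixes.eq_one {K₀ : Subfield F} {h : GL D.Idx F} (hh : Fixes hF K₀ h) (hg : h ∈ D.group F) : h = 1 := by
  have hB := hh.mem_B hF hC hG hg
  obtain ⟨w0, hw0⟩ := hF.exists_longest
  set n := (hF.tsys F).nW w0
  have hn := nW_mem_rat hF (F := F) K₀ w0
  have hB' := (hh.conj hF hn).mem_B hF hC hG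
    (mul_mem (mul_mem (inv_mem (rat_le_group hF K₀ hn)) hg) (rat_le_group hF K₀ hn))
  obtain ⟨v, hv, a, ha, hva⟩ := (hF.tsys F).mem_B.1 hB'
  obtain ⟨v', hv', a', ha', hva'⟩ := (hF.tsys F).mem_B.1 hB
  have hnv : n * v * n⁻¹ ∈ D.negUnipotent F := by
    rw [← hF.conj_longest hw0]
    exact ⟨v, by rw [← hF.tsys_U]; exact hv, rfl⟩
  have hna : n * a * n⁻¹ ∈ (hF.tsys F).H := (hF.tsys F).nW_H ha
  have he : n * v * n⁻¹ = v' * (a' * (n * a * n⁻¹)⁻¹) := by
    rw [← mul_assoc, ← hva']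
    calc n * v * n⁻¹ = n * (v * a) * n⁻¹ * (n * a * n⁻¹)⁻¹ := by group
      _ = _ := by rw [← hva]; simp only [n]; group
  have h1 := hF.B_inter_V (he ▸ mul_mem ((hF.tsys F).U_le_B hv')
    ((hF.tsys F).H_le_B (mul_mem ha' (inv_mem hna)))) hnv
  have hH : h ∈ (hF.tsys F).H := by
    have e : h = n * (v * a) * n⁻¹ := by rw [← hva]; simp only [n]; group
    rw [e, show n * (v * a) * n⁻¹ = n * v * n⁻¹ * (n * a * n⁻¹) by group, h1, one_mul]
    exact hna
  have hH' := hH
  rw [hF.tsys_H, hF.diagonalSubgroup_eq] at hH'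
  obtain ⟨c, rfl⟩ := hH'
  rw [coe_torus_eq_one, hF.torChar_eq_one_iff]
  intro i
  obtain ⟨e, -, x, hx, -, hcoord, hfix⟩ := exists_coord_one hF hC hG (K₀ := K₀) i
  have hce := (hfix _ hh).eq
  obtain ⟨w, hw, rfl⟩ := hcoord
  have hw' : torus D F c * w * (torus D F c)⁻¹ ∈ (hF.tsys F).US (TorusSys.posNe D i) :=
    (hF.tsys F).H_conj_US hH (fun r hr => (TorusSys.mem_posNe.1 hr).2.1) hw
  have h1 : HasCoord hF i (w * hF.xg (D.simple i) x) ((torChar D c (D.simple i) : F) * x) := by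
    refine ⟨_, hw', ?_⟩
    rw [← hF.torus_conj c (hF.simple_lt i i.isLt) x]
    calc w * hF.xg (D.simple i) x
        = torus D F c * (w * hF.xg (D.simple i) x) * (torus D F c)⁻¹ := by rw [hce, mul_inv_cancel_right]
      _ = _ := by group
  have h2 := h1.unique hF ⟨w, hw, rfl⟩
  exact Units.ext (mul_right_cancel₀ hx (by rw [h2, Units.val_one, one_mul]))

end Cfsg.Agent.Lie.SubMax
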