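import Cfsg.Agent.Lib.Lie.SubMax.Frame
import Cfsg.Agent.Lib.Lie.SubMax.Centralizer
import Cfsg.Agent.Lib.PushUp.SL2Overgroup
import Cfsg.Agent.Lib.Classical.SL2PlaneField

/-!
An irrational long root element enlarges the field of the rational group.
-/

set_option autoImplicit false

namespace Cfsg.Agent.Lie.SubMax

open Cfsg.Lie Matrix
open scoped MatrixGroups

/-- Every root which is not long pairs with a long root to one up to sign. -/
def okTorus (D : ChevalleyDatum) : Bool :=
  (List.range D.nroots).all fun s => lg D s ||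
    (List.range D.nroots).any fun r => lg D r && lg D (D.neg r) && (D.pairing r s).natAbs == 1

variable {D : ChevalleyDatum} {F : Type*} [Field F] (hF : Facts D) {K₀ : Subfield F}

/-- An element of a subfield of odd characteristic is a difference of two squares, and in characteristic
two a square. -/
theorem exists_squares [Finite F] (K₀ : Subfield F) {x : F} (hx : x ∈ K₀) :
    ∃ u ∈ K₀, ∃ v ∈ K₀, x = u ^ 2 - v ^ 2 := by
  by_cases h2 : (2 : F) = 0
  · have hinj : Function.Injective fun y : K₀ => y * y := fun a b h => by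
      have h' : (a : F) * a = (b : F) * b := by exact_mod_cast congrArg Subtype.val h
      refine Subtype.ext (sub_eq_zero.mp (mul_self_eq_zero.mp ?_))
      linear_combination h' + ((b : F) * b - (a : F) * b) * h2
    obtain ⟨y, hy⟩ := Finite.injective_iff_surjective.1 hinj ⟨x, hx⟩
    exact ⟨y, y.2, 0, zero_mem _, by have h := congrArg Subtype.val hy; simp at h; rw [← h]; ring⟩
  · have h2' : (2 : F) ∈ K₀ := by rw [← one_add_one_eq_two]; exact add_mem (one_mem _) (one_mem _)
    refine ⟨(x + 1) / 2, div_mem (add_mem hx (one_mem _)) h2', (x - 1) / 2,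
      div_mem (sub_mem hx (one_mem _)) h2', ?_⟩
    field_simp
    ring

include hF in
/-- The root elements of the highest root over a larger subfield. -/
theorem top_field [Fintype F] (hR : okRad D = true) {H : Subgroup (GL D.Idx F)} (hle : rat hF K₀ ≤ H)
    {t : F} (ht : t ∉ K₀) (h : hF.xg (top D) t ∈ H) : ∃ K₁ : Subfield F, K₀ ≤ K₁ ∧ t ∈ K₁ ∧
      ∀ μ ∈ K₁, hF.xg (top D) μ ∈ H ∧ hF.xg (D.neg (top D)) μ ∈ H := by
  obtain ⟨φ, -, hφ⟩ := hF.exists_sl2Hom (F := F) (top D) (top_lt hR)
  set G := H.comap φ with hG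
  have htop := top_lt hR
  have hsc : ∀ k ∈ K₀, hF.xg (top D) (k ^ 2 * t) ∈ H := by
    intro k hk
    by_cases hk0 : k = 0
    · simp [hk0, hF.xg_zero]
    have hh : hF.hg (top D) k ∈ H := by
      rw [hF.hg_eq]; exact hle (mul_mem (ng_mem_rat hF K₀ _ hk) (ng_mem_rat hF K₀ _ (neg_mem (one_mem _))))
    have := mul_mem (mul_mem hh h) (inv_mem hh)
    rw [show k = ((Units.mk0 k hk0 : Fˣ) : F) from rfl, hF.hg_eq_torus htop, hF.torus_conj _ htop,
      Facts.torChar_hCoord, show D.pairing (top D) (top D) = 2 from lev_top hR] at this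
    simpa using this
  have eU : ∀ μ : F, Cfsg.Agent.Small.PSL2.uS μ = upS μ := fun μ => by
    apply Subtype.ext; ext i j; fin_cases i <;> fin_cases j <;> simp [upS]
  have eL : ∀ μ : F, Cfsg.Agent.Small.PSL2.vS μ = loS μ := fun μ => by
    apply Subtype.ext; ext i j; fin_cases i <;> fin_cases j <;> simp [loS]
  have hl : loS (1 : F) ∈ G := by
    rw [hG, Subgroup.mem_comap, (hφ _).2]
    exact hle (xg_mem_rat hF K₀ _ (one_mem _))
  have hu : ∀ x ∈ K₀, ∀ y ∈ K₀, upS (x * t + y * 1) ∈ G := fun x hx y hy => by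
    obtain ⟨u, hu, v, hv, rfl⟩ := exists_squares K₀ hx
    rw [hG, Subgroup.mem_comap, (hφ _).1, sub_mul, sub_eq_add_neg, mul_one, hF.xg_add, hF.xg_add, hF.xg_neg]
    exact mul_mem (mul_mem (hsc u hu) (inv_mem (hsc v hv))) (hle (xg_mem_rat hF K₀ _ hy))
  obtain ⟨K₁, hK₁, htK, -, hK⟩ := Cfsg.Agent.Classical.SL2Plane.shifts_field one_ne_zero
    (by rw [eL]; exact hl) (fun x hx y hy => by rw [eU]; simpa using hu x hx y hy) ht
  refine ⟨K₁, hK₁, htK, fun μ hμ => ⟨?_, ?_⟩⟩
  · rw [← (hφ μ).1, ← eU]; exact (hK μ hμ).1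
  · rw [← (hφ μ).2, ← eL]; exact (hK μ hμ).2

include hF in
/-- An irrational long root element gives the rational group of a larger subfield. -/
theorem rat_le_of_long [Fintype F] (hR : okRad D = true) (hC : okClimb D = true) (hT : okTorus D = true)
    {H : Subgroup (GL D.Idx F)} (hle : rat hF K₀ ≤ H) {s : ℕ} (hs : lg D s = true) {t : F} (ht : t ∉ K₀)
    (h : hF.xg s t ∈ H) : ∃ K₁ : Subfield F, K₀ < K₁ ∧ rat hF K₁ ≤ H := by
  have hlt : lg D (top D) = true := by
    have := hC; simp only [okClimb, Bool.and_eq_true] at this; exact this.1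
  obtain ⟨n, hn, f, hf, hnt⟩ := long_conj hF hC K₀ (top D) hlt
  have htop : hF.xg (D.neg (top D)) t ∈ H ∨ hF.xg (D.neg (top D)) (-t) ∈ H := by
    obtain ⟨m, hm, e, he, hconj⟩ := long_conj hF hC K₀ s hs
    have := mul_mem (mul_mem (hle hm) h) (inv_mem (hle hm))
    rw [hconj] at this
    rcases mul_self_eq_one_iff.1 he with rfl | rfl
    · exact Or.inl (by simpa using this)
    · exact Or.inr (by simpa using this)
  have hpull : ∀ μ, hF.xg (D.neg (top D)) μ ∈ H → hF.xg (top D) (f * μ) ∈ H := fun μ hμ => by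
    have := mul_mem (mul_mem (inv_mem (hle hn)) hμ) (hle hn)
    rw [show μ = f * (f * μ) by rw [← mul_assoc, hf, one_mul], ← hnt] at this
    simpa [mul_assoc] using this
  obtain ⟨t', ht', htop'⟩ : ∃ t', t' ∉ K₀ ∧ hF.xg (top D) t' ∈ H := by
    have hfK : f ∈ K₀ := by
      rcases mul_self_eq_one_iff.1 hf with rfl | rfl
      exacts [one_mem _, neg_mem (one_mem _)]
    have hne : ∀ x, x ∉ K₀ → f * x ∉ K₀ := fun x hx h' => hx (by
      have := mul_mem hfK h'; rwa [← mul_assoc, hf, one_mul] at this)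
    rcases htop with h' | h'
    · exact ⟨_, hne t ht, hpull _ h'⟩
    · exact ⟨_, hne (-t) (fun h'' => ht (by simpa using neg_mem h'')), hpull _ h'⟩
  obtain ⟨K₁, hK₁, htK, hfull⟩ := top_field hF hR hle ht' htop'
  refine ⟨K₁, lt_of_le_of_ne hK₁ fun e => ht' (e ▸ htK), ?_⟩
  have hlong : ∀ r, lg D r = true → ∀ μ ∈ K₁, hF.xg r μ ∈ H := by
    intro r hr μ hμ
    obtain ⟨m, hm, e, he, hconj⟩ := long_conj hF hC K₀ r hr
    have heK : e ∈ K₁ := by
      rcases mul_self_eq_one_iff.1 he with rfl | rfl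
      exacts [one_mem _, neg_mem (one_mem _)]
    have := mul_mem (mul_mem (inv_mem (hle hm)) (hfull (e * μ) (mul_mem heK hμ)).2) (hle hm)
    rw [← hconj] at this
    simpa [mul_assoc] using this
  refine (Subgroup.closure_le _).2 ?_
  rintro _ ⟨q, μ, hμK, rfl⟩
  show hF.xg q μ ∈ H
  by_cases hq : q < D.nroots
  swap
  · have : hF.xg q μ = 1 := Units.ext (x_out (not_lt.1 hq) μ)
    rw [this]; exact one_mem _
  by_cases hμ : μ = 0
  · rw [hμ, hF.xg_zero]; exact one_mem _
  have hT' := hT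
  simp only [okTorus, List.all_eq_true, List.any_eq_true, List.mem_range, Bool.or_eq_true, Bool.and_eq_true,
    beq_iff_eq] at hT'
  rcases hT' q hq with hq' | ⟨R, hR', ⟨hRl, hRn⟩, hp⟩
  · exact hlong q hq' μ hμK
  · have key : ∀ k ∈ K₁, k ≠ 0 → hF.xg q (k ^ D.pairing R q) ∈ H := fun k hkK hk => by
      have hh : hF.hg R k ∈ H := by
        rw [hF.hg_eq, hF.ng_eq, hF.ng_eq]
        have hx := hlong R hRl
        have hy := hlong _ hRn
        exact mul_mem (mul_mem (mul_mem (hx _ hkK) (hy _ (neg_mem (inv_mem hkK)))) (hx _ hkK))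
          (mul_mem (mul_mem (hx _ (neg_mem (one_mem _))) (hy _ (neg_mem (inv_mem (neg_mem (one_mem _))))))
            (hx _ (neg_mem (one_mem _))))
      have := mul_mem (mul_mem hh (hle (xg_mem_rat hF K₀ q (one_mem _)))) (inv_mem hh)
      rw [show k = ((Units.mk0 k hk : Fˣ) : F) from rfl, hF.hg_eq_torus hR', hF.torus_conj _ hq,
        Facts.torChar_hCoord, Units.val_zpow_eq_zpow_val, mul_one] at this
      simpa using this
    rcases Int.natAbs_eq (D.pairing R q) with e | e
    · have := key μ hμK hμ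
      rwa [e, hp, Nat.cast_one, zpow_one] at this
    · have := key μ⁻¹ (inv_mem hμK) (inv_ne_zero hμ)
      rwa [e, hp, Nat.cast_one, _root_.zpow_neg, zpow_one, inv_inv] at this

end Cfsg.Agent.Lie.SubMax
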