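import Cfsg.Agent.Lib.Lie.SubMax.Rational
import Cfsg.Agent.Lib.Lie.SubMax.Full

/-!
Short coordinates of level one, when long roots of level zero lower them to long roots.
-/

set_option autoImplicit false

namespace Cfsg.Agent.Lie.SubMax

open Cfsg.Lie Matrix
open scoped MatrixGroups

/-- Two roots commute by the table. -/
def comm0 (D : ChevalleyDatum) (r s : ℕ) : Bool := s != D.neg r && (D.commTerms r s).isEmpty

/-- A step from a level one root to another one. -/
def hop (D : ChevalleyDatum) (d s k : ℕ) : Bool :=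
  decide (d < D.nroots) && s != d && s != D.neg d && (q1 D).contains k &&
    oneTerm (D.commTerms d s) k && comm0 D d k && comm0 D s k && comm0 D d (top D)

/-- The long root of level zero attached to a short root of level one. -/
def okLowering (D : ChevalleyDatum) (r d : ℕ) : Bool :=
  decide (d < D.nroots) && r != d && r != D.neg d && comm0 D d (top D) &&
  ((q1 D).all fun s => lg D s || s == r || comm0 D d s) &&
  (match D.commTerms d r with
    | [a, c] => a.1 == opp D r && a.2.1.natAbs == 1 && a.2.2.1 == 1 && a.2.2.2 == 1 && c.1 == top D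
    | _ => false) &&
  ((q1 D).filter (lg D)).any fun e => ((q1 D).filter (lg D)).any fun b =>
    e != D.neg (opp D b) && e != opp D b && oneTerm (D.commTerms e (D.neg (opp D b))) d

/-- The square of the coordinate appears at the highest root. -/
def okSquare (D : ChevalleyDatum) (q k : ℕ) : Bool :=
  (List.range D.nroots).any fun d => q != d && q != D.neg d && comm0 D d (top D) &&
    match D.commTerms d q with
      | [a, c] => a.1 == k && a.2.1.natAbs == 1 && a.2.2.1 == 1 && a.2.2.2 == 1 &&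
          c.1 == top D && c.2.1.natAbs == 1 && c.2.2.1 == 1 && c.2.2.2 == 2
      | _ => false

/-- The table for short roots of level one. -/
def okShort (D : ChevalleyDatum) : Bool :=
  (q1 D).all fun r => lg D r ||
    (((List.range D.nroots).any fun d => okLowering D r d) &&
      (q1 D).any fun k => okSquare D k (opp D k) &&
        ((List.range D.nroots).any fun d => hop D d (opp D r) k) &&
        ((List.range D.nroots).any fun d => hop D d (opp D r) (opp D k)))

variable {D : ChevalleyDatum} {F : Type*} [Field F] (hF : Facts D)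
variable {K₀ : Subfield F} {H : Subgroup (GL D.Idx F)}

include hF in
theorem comm0_spec {r s : ℕ} (hr : r < D.nroots) (hs : s < D.nroots) (h : comm0 D r s = true) (a b : F) :
    Commute (hF.xg r a) (hF.xg s b) := by
  simp only [comm0, Bool.and_eq_true, bne_iff_ne, List.isEmpty_iff] at h
  exact xg_commute hF hr hs h.1 h.2 a b

theorem sq_cancel [Finite F] {a : F} (h2 : (2 : F) = 0) (h : a ^ 2 ∈ K₀) : a ∈ K₀ := by
  obtain ⟨u, hu, v, hv, e⟩ := exists_squares K₀ h
  have h' : (a - (u - v)) * (a - (u - v)) = 0 := by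
    linear_combination e + (u ^ 2 - u * v - a * u + a * v) * h2
  rw [sub_eq_zero.1 (mul_self_eq_zero.1 h')]
  exact sub_mem hu hv

include hF in
theorem sign_mem {q : ℕ} {a : F} (h : hF.xg q a ∈ H) {σ : F} (hσ : σ = 1 ∨ σ = -1) :
    hF.xg q (σ * a) ∈ H := by
  rcases hσ with rfl | rfl
  · rwa [one_mul]
  · rw [neg_one_mul, hF.xg_neg]; exact inv_mem h

theorem natAbs_one_or {N : ℤ} (h : N.natAbs = 1) (F : Type*) [Field F] : (N : F) = 1 ∨ (N : F) = -1 := by
  rcases Int.natAbs_eq N with e | e <;> rw [e, h] <;> simp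

variable (hR : okRad D = true)

include hF hR in
/-- The first step. -/
theorem lowering_mem (T : Thin hF K₀ H) (hlt : lg D (top D) = true) (hO : okOpp D = true) (hP : okPart D = true)
    {t : ℕ → F} {z c : F} (hlow : low hF t z c ∈ H) (hc : c ≠ 0)
    (hlong : ∀ s ∈ q1 D, lg D s = true → t s = 0) {r : ℕ} (hr : r ∈ q1 D) {d : ℕ}
    (hd : okLowering D r d = true) : ∃ w, hF.xg (opp D r) (t r) * hF.xg (top D) w ∈ H := by
  simp only [okLowering, Bool.and_eq_true, decide_eq_true_eq, bne_iff_ne, List.all_eq_true, List.any_eq_true,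
    Bool.or_eq_true, beq_iff_eq] at hd
  obtain ⟨⟨⟨⟨⟨⟨hdn, hrd⟩, hrd'⟩, hdt⟩, hcomm⟩, hterm⟩, e, he, b, hb, ⟨hne, hne'⟩, hone⟩ := hd
  obtain ⟨N, hN1, M, i, j, hterms⟩ : ∃ N : ℤ, N.natAbs = 1 ∧ ∃ M i j,
      D.commTerms d r = [(opp D r, N, 1, 1), (top D, M, i, j)] := by
    revert hterm
    generalize D.commTerms d r = L
    match L with
    | [] => simp
    | [_] => simp
    | _ :: _ :: _ :: _ => simp
    | [(k, N, i, j), (k', M, i', j')] =>
      intro h
      simp only [Bool.and_eq_true, beq_iff_eq] at h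
      obtain ⟨⟨⟨⟨rfl, hN⟩, rfl⟩, rfl⟩, rfl⟩ := h
      exact ⟨N, hN, M, i', j', rfl⟩
  have Oe := oppData hO (List.mem_filter.1 he).1 (List.mem_filter.1 he).2
  have Ob := oppData hO (List.mem_filter.1 hb).1 (List.mem_filter.1 hb).2
  have hbq := (List.mem_filter.1 hb).1
  have ha0 : ∀ {x}, x ∈ q1 D → lg D x = true → t x ∈ K₀ := fun hx hl => by rw [hlong _ hx hl]; exact zero_mem _
  have hcK := T.c_mem hF hR hlt hbq Ob (ha0 Ob.mem Ob.long) hlow
  obtain ⟨N', hN', hterm'⟩ := oneTerm_spec hone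
  have heq := (List.mem_filter.1 he).1
  have hen := (q1_pos heq).2
  have hfn := hF.neg_lt (q1_pos Ob.mem).2
  have hne'' : D.neg (opp D b) ≠ D.neg e := fun h => hne' (by
    rw [← hF.neg_neg hen, ← h, hF.neg_neg (q1_pos Ob.mem).2])
  have h1 := T.pure_mem hF hR (z := z) heq Oe.part (ha0 Oe.mem Oe.long) (one_mem K₀)
  have h2 := T.side_mem hF hR hbq Ob (ha0 Ob.mem Ob.long) hlow hc hcK (one_mem K₀)
  have h3 : hF.xg d (-((N' : F) * 1 * 1)) ∈ seen (qE hF t * hF.xg (top D) z) H := by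
    have := mul_mem (inv_mem (mul_mem h1 h2)) (mul_mem h2 h1)
    rwa [swap_one hF hen hfn (fun h => hne h.symm) hne'' hterm', inv_mul_cancel_left] at this
  rw [mem_seen] at h3
  set ε := -((N' : F) * 1 * 1)
  have hε : ε = 1 ∨ ε = -1 := by
    rcases natAbs_one_or hN' F with h | h <;> simp [ε, h]
  have hεK : ε ∈ K₀ := neg_mem (mul_mem (mul_mem (intCast_mem K₀ N') (one_mem _)) (one_mem _))
  have hrn := (q1_pos hr).2
  have Pr := partData hP hr
  have Pr' := partData hP Pr.mem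
  have hs' := (q1_pos Pr.mem).2
  have htn := top_lt hR
  have cdt : ∀ x y : F, Commute (hF.xg d x) (hF.xg (top D) y) := comm0_spec hF hdn htn hdt
  have cd : ∀ s ∈ q1 D, s ≠ r → ∀ x, Commute (hF.xg s (t s)) (hF.xg d x) := by
    intro s hs hsr x
    rcases hcomm s hs with (h | h) | h
    · rw [hlong s hs h, hF.xg_zero]; exact Commute.one_left _
    · exact absurd h hsr
    · exact (comm0_spec hF hdn (q1_pos hs).2 h x (t s)).symm
  have cs : ∀ s ∈ q1 D, s ≠ r → ∀ x, Commute (hF.xg s (t s)) (hF.xg (opp D r) x) := by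
    intro s hs hsr x
    rcases eq_or_ne s (opp D r) with rfl | hne
    · exact xg_self_commute hF _ _ _
    · exact (xg_commute hF hs' (q1_pos hs).2 (ne_neg_of_pos hF (q1_pos Pr.mem) (q1_pos hs))
        (Pr'.other s hs hne (by rwa [Pr.invol])) x (t s)).symm
  obtain ⟨L₁, L₂, hL⟩ := List.append_of_mem hr
  have hnd := q1_nodup hF
  rw [hL, List.nodup_append, List.nodup_cons] at hnd
  obtain ⟨-, ⟨hr2, -⟩, hdisj⟩ := hnd
  have hL1 : ∀ s ∈ L₁, s ∈ q1 D ∧ s ≠ r := fun s hs =>
    ⟨hL ▸ List.mem_append_left _ hs, hdisj s hs r (by simp)⟩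
  have hL2 : ∀ s ∈ L₂, s ∈ q1 D ∧ s ≠ r := fun s hs =>
    ⟨hL ▸ List.mem_append_right _ (List.mem_cons_of_mem _ hs), fun e => hr2 (e ▸ hs)⟩
  have hwg : ∀ (L : List ℕ) (g : GL D.Idx F), (∀ s ∈ L, Commute (hF.xg s (t s)) g) →
      Commute (hF.wg (lineWord D L t)) g := by
    intro L g
    induction L with
    | nil => intro _; rw [lineWord, List.map_nil, hF.wg_nil]; exact Commute.one_left _
    | cons s L ih =>
      intro h
      simp only [lineWord, List.map_cons, hF.wg_cons] at ih ⊢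
      exact (h s (by simp)).mul_left (ih fun x hx => h x (by simp [hx]))
  set W := hF.wg (D.commWord F d r ε (t r)) with hW
  have hconj : hF.xg r (t r) * hF.xg d ε * (hF.xg r (t r))⁻¹ =
      hF.xg d ε * (hF.xg r (t r) * W * (hF.xg r (t r))⁻¹) := by
    rw [hW, xg_swap hF hdn hrn hrd hrd' ε (t r)]; group
  have hW' : W = hF.xg (opp D r) ((N : F) * -ε * t r) * hF.xg (top D) ((M : F) * (-ε) ^ i * t r ^ j) := by
    simp [hW, ChevalleyDatum.commWord, hterms, hF.wg_cons, hF.wg_nil]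
  obtain ⟨P, -, -, hPterm⟩ := Pr'.toTop
  rw [Pr.invol] at hPterm
  have hswap := swap_one hF hs' hrn (by
    intro h; exact Pr.ne h.symm) (ne_neg_of_pos hF (q1_pos Pr.mem) (q1_pos hr)) hPterm
    ((N : F) * -ε * t r) (t r)
  set A := (N : F) * -ε * t r with hA
  set B := (M : F) * (-ε) ^ i * t r ^ j
  obtain ⟨w, hY⟩ : ∃ w, hF.xg r (t r) * W * (hF.xg r (t r))⁻¹ = hF.xg (opp D r) A * hF.xg (top D) w := by
    refine ⟨-((P : F) * A * t r) + B, ?_⟩
    have c1 := top_central hF hR (List.mem_cons_of_mem _ hr) (t r)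
    rw [hW', ← mul_assoc (hF.xg r (t r)), hswap, mul_assoc _ (hF.xg (top D) _) (hF.xg (top D) B), ← hF.xg_add,
      mul_assoc (hF.xg (opp D r) A) (hF.xg r (t r)), (c1 _).eq, ← mul_assoc, mul_inv_cancel_right]
  have hcen : ∀ L : List ℕ, (∀ s ∈ L, s ∈ q1 D ∧ s ≠ r) →
      Commute (hF.wg (lineWord D L t)) (hF.xg d ε * (hF.xg (opp D r) A * hF.xg (top D) w)) := fun L hL =>
    hwg L _ fun s hs => (cd s (hL s hs).1 (hL s hs).2 ε).mul_right
      ((cs s (hL s hs).1 (hL s hs).2 A).mul_right (top_central hF hR (List.mem_cons_of_mem _ (hL s hs).1) _ _))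
  have hfinal : qE hF t * hF.xg (top D) z * hF.xg d ε * (qE hF t * hF.xg (top D) z)⁻¹ =
      hF.xg d ε * (hF.xg (opp D r) A * hF.xg (top D) w) := by
    rw [mul_assoc (qE hF t), ← (cdt ε z).eq, ← mul_assoc, _root_.mul_inv_rev, ← mul_assoc, mul_inv_cancel_right,
      qE, hL, lineWord, List.map_append, List.map_cons, hF.wg_append, hF.wg_cons]
    have e2 := (hwg L₂ (hF.xg d ε) fun s hs => cd s (hL2 s hs).1 (hL2 s hs).2 ε).eq
    have e1 := (hcen L₁ hL1).eq
    rw [lineWord] at e1 e2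
    rw [← hY] at e1 ⊢
    calc _ = hF.wg (L₁.map fun r => (r, t r)) * (hF.xg r (t r) * (hF.wg (L₂.map fun r => (r, t r)) * hF.xg d ε) *
          (hF.wg (L₂.map fun r => (r, t r)))⁻¹ * (hF.xg r (t r))⁻¹) * (hF.wg (L₁.map fun r => (r, t r)))⁻¹ := by group
      _ = hF.wg (L₁.map fun r => (r, t r)) * (hF.xg d ε * (hF.xg r (t r) * W * (hF.xg r (t r))⁻¹)) *
          (hF.wg (L₁.map fun r => (r, t r)))⁻¹ := by rw [e2, ← hconj]; group
      _ = _ := by rw [e1]; group
  rw [hfinal] at h3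
  have h4 := (Subgroup.mul_mem_cancel_left _ (T.le (xg_mem_rat hF K₀ d hεK))).1 h3
  -- normalise the sign
  have hσ : (N : F) * -ε = 1 ∨ (N : F) * -ε = -1 := by
    rcases natAbs_one_or hN1 F with h | h <;> rcases hε with h' | h' <;> simp [h, h']
  rcases hσ with h | h
  · exact ⟨w, by rwa [show A = t r by rw [hA, h, one_mul]] at h4⟩
  · refine ⟨-w, ?_⟩
    have h5 := inv_mem h4
    rw [show A = -(t r) by rw [hA, h, neg_one_mul], _root_.mul_inv_rev, ← hF.xg_neg, ← hF.xg_neg, neg_neg] at h5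
    rwa [(top_central hF hR (List.mem_cons_of_mem _ Pr.mem) (t r) (-w)).eq]

include hF hR in
/-- A step between roots of level one isolates the coordinate. -/
theorem hop_mem (hle : rat hF K₀ ≤ H) {s k d : ℕ} (hs : s ∈ q1 D) (hd : hop D d s k = true) {a w : F}
    (h : hF.xg s a * hF.xg (top D) w ∈ H) : hF.xg k a ∈ H := by
  simp only [hop, Bool.and_eq_true, decide_eq_true_eq, bne_iff_ne, List.contains_iff_mem] at hd
  obtain ⟨⟨⟨⟨⟨⟨⟨hdn, hsd⟩, hsd'⟩, hk⟩, hone⟩, hdk⟩, hsk⟩, hdt⟩ := hd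
  obtain ⟨N, hN, hterm⟩ := oneTerm_spec hone
  have hsn := (q1_pos hs).2
  have hkn := (q1_pos hk).2
  have hg : hF.xg d (1 : F) ∈ H := hle (xg_mem_rat hF K₀ _ (one_mem _))
  have e := conj_one hF hdn hsn hsd hsd' hterm (comm0_spec hF hdn hkn hdk) (comm0_spec hF hsn hkn hsk) (1 : F) a
  have h1 := mul_mem (mul_mem hg h) (inv_mem hg)
  have e1 : hF.xg d 1 * (hF.xg s a * hF.xg (top D) w) * (hF.xg d 1)⁻¹ =
      hF.xg s a * hF.xg (top D) w * hF.xg k ((N : F) * 1 * a) := by
    rw [← conj_mul, e, (comm0_spec hF hdn (top_lt hR) hdt 1 w).eq, mul_inv_cancel_right, mul_assoc,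
      (top_central hF hR (List.mem_cons_of_mem _ hk) _ w).eq, ← mul_assoc]
  rw [e1] at h1
  have h2 := (Subgroup.mul_mem_cancel_left _ h).1 h1
  have h3 := sign_mem hF h2 (natAbs_one_or hN F)
  rwa [mul_one, ← mul_assoc, natAbs_one_cast hN, one_mul] at h3

include hF hR in
theorem square_mem (hle : rat hF K₀ ≤ H) {q k : ℕ} (hq : q ∈ q1 D) (hd : okSquare D q k = true) {a : F}
    (h : hF.xg q a ∈ H) (h' : hF.xg k a ∈ H) : hF.xg (top D) (a ^ 2) ∈ H := by
  simp only [okSquare, List.any_eq_true, List.mem_range, Bool.and_eq_true, bne_iff_ne] at hd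
  obtain ⟨d, hdn, ⟨⟨hqd, hqd'⟩, -⟩, hterm⟩ := hd
  obtain ⟨N, hN, M, hM, hterms⟩ : ∃ N : ℤ, N.natAbs = 1 ∧ ∃ M : ℤ, M.natAbs = 1 ∧
      D.commTerms d q = [(k, N, 1, 1), (top D, M, 1, 2)] := by
    revert hterm
    generalize D.commTerms d q = L
    match L with
    | [] => simp
    | [_] => simp
    | _ :: _ :: _ :: _ => simp
    | [(a₁, N, i, j), (a₂, M, i', j')] =>
      intro h
      simp only [Bool.and_eq_true, beq_iff_eq] at h
      obtain ⟨⟨⟨⟨⟨⟨⟨rfl, hN⟩, rfl⟩, rfl⟩, rfl⟩, hM⟩, rfl⟩, rfl⟩ := h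
      exact ⟨N, hN, M, hM, rfl⟩
  have hg : hF.xg d (1 : F) ∈ H := hle (xg_mem_rat hF K₀ _ (one_mem _))
  have e := xg_swap hF hdn (q1_pos hq).2 hqd hqd' (1 : F) a
  have hW : hF.wg (D.commWord F d q 1 a) ∈ H := by
    have := mul_mem (inv_mem (mul_mem hg h)) (mul_mem h hg)
    rwa [e, inv_mul_cancel_left] at this
  simp only [ChevalleyDatum.commWord, hterms, List.map_cons, List.map_nil, hF.wg_cons, hF.wg_nil, mul_one,
    pow_one] at hW
  have hk : hF.xg k ((N : F) * -1 * a) ∈ H := sign_mem hF h' (by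
    rcases natAbs_one_or hN F with e | e <;> simp [e])
  have h2 := sign_mem hF ((Subgroup.mul_mem_cancel_left _ hk).1 hW) (σ := (M : F) * -1) (by
    rcases natAbs_one_or hM F with e | e <;> simp [e])
  rwa [show (M : F) * -1 * ((M : F) * -1 * a ^ 2) = (M : F) * M * a ^ 2 by ring, natAbs_one_cast hM, one_mul] at h2

include hF hR in
/-- Short coordinates are rational once the long ones are. -/
theorem Thin.short_mem [Finite F] (T : Thin hF K₀ H) (hlt : lg D (top D) = true) (hO : okOpp D = true)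
    (hP : okPart D = true) (hS : okShort D = true) {t : ℕ → F} {z c : F} (hlow : low hF t z c ∈ H) (hc : c ≠ 0)
    (hlong : ∀ s ∈ q1 D, lg D s = true → t s ∈ K₀) : ∀ r ∈ q1 D, t r ∈ K₀ := by
  intro r hr
  by_cases hl : lg D r = true
  · exact hlong r hr hl
  simp only [okShort, List.all_eq_true, List.any_eq_true, List.mem_range, Bool.or_eq_true, Bool.and_eq_true] at hS
  obtain ⟨⟨d, -, hd⟩, k, hk, ⟨hsq, d₁, -, hd₁⟩, d₂, -, hd₂⟩ := (hS r hr).resolve_left hl
  have key : ∀ x ∈ K₀, (x + t r) ^ 2 ∈ K₀ := by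
    intro x hx
    obtain ⟨z', hz'⟩ := low_shift hF hR T.le hlow
      (k := fun s => if lg D s = true then -(t s) else if s = r then x else 0) (by
        intro s hs
        split_ifs with h1 h2
        · exact neg_mem (hlong s hs h1)
        · exact hx
        · exact zero_mem _)
    obtain ⟨w, hw⟩ := lowering_mem hF hR T hlt hO hP hz' hc (fun s _ h1 => by simp [h1]) hr hd
    simp only [hl, if_false, if_true] at hw
    have hr' := (partData hP hr).mem
    have h1 := hop_mem hF hR T.le hr' hd₁ hw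
    have h2 := hop_mem hF hR T.le hr' hd₂ hw
    exact T.long _ hlt _ (square_mem hF hR T.le hk hsq h1 h2)
  have h0 : t r ^ 2 ∈ K₀ := by simpa using key 0 (zero_mem _)
  by_cases h2 : (2 : F) = 0
  · exact sq_cancel h2 h0
  · have h1 := sub_mem (sub_mem (key 1 (one_mem _)) h0) (one_mem K₀)
    rw [show ((1 : F) + t r) ^ 2 - t r ^ 2 - 1 = 2 * t r by ring] at h1
    have h3 := mul_mem (inv_mem (show (2 : F) ∈ K₀ by rw [← one_add_one_eq_two]; exact add_mem (one_mem _) (one_mem _))) h1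
    rwa [← mul_assoc, inv_mul_cancel₀ h2, one_mul] at h3

end Cfsg.Agent.Lie.SubMax
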