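import Cfsg.Agent.Lib.Lie.SubMax.Tables

/-!
The tables for long roots of level one, evaluated.
-/

set_option autoImplicit false

namespace Cfsg.Agent.Lie.SubMax

open Cfsg.Lie

set_option maxRecDepth 100000 in
theorem okOppG2 : okOpp chevG2 = true := by decide +kernel

set_option maxRecDepth 100000 in
theorem okOppB2 : okOpp chevB2 = true := by decide +kernel

set_option maxRecDepth 100000 in
theorem okOppD4 : okOpp chevD4 = true := by decide +kernel

set_option maxRecDepth 100000 in
theorem okPartG2 : okPart chevG2 = true := by decide +kernel

set_option maxRecDepth 100000 in
theorem okPartB2 : okPart chevB2 = true := by decide +kernel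

set_option maxRecDepth 100000 in
theorem okPartF4 : okPart chevF4 = true := by decide +kernel

end Cfsg.Agent.Lie.SubMax
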