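import Cfsg.Agent.Lib.Lie.SubMax.Rational
import Cfsg.Agent.Lib.Lie.SubMax.Main
import Cfsg.Agent.Lib.Lie.SubMax.TablesData
import Cfsg.Agent.Lib.Lie.SubMax.Short

/-!
Normal forms for type G2 over a ground field with more than two elements.
-/

set_option autoImplicit false

namespace Cfsg.Agent.Lie.SubMax

open Cfsg.Lie Matrix
open scoped MatrixGroups

variable {D : ChevalleyDatum} {F : Type*} [Field F] (hF : Facts D)

/-- The roots used to isolate a short coordinate in type G2. -/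
structure GTwoData (D : ChevalleyDatum) (δ r r' α γ b : ℕ) : Prop where
  lt : δ < D.nroots ∧ α < D.nroots ∧ b < D.nroots
  mem : r ∈ q1 D ∧ r' ∈ q1 D ∧ γ ∈ q1 D
  ne : r ≠ δ ∧ r ≠ D.neg δ ∧ top D ≠ δ ∧ top D ≠ D.neg δ ∧ r ≠ α ∧ r ≠ D.neg α ∧ α ≠ b ∧ α ≠ D.neg b ∧
    γ ≠ b ∧ γ ≠ D.neg b ∧ r' ≠ r ∧ γ ≠ r ∧ r' ≠ γ ∧ opp D r = r'
  down : ∃ n m₁ m₂ m₃ : ℤ, n.natAbs = 1 ∧
    D.commTerms δ r = [(α, n, 1, 1), (r', m₁, 1, 2), (top D, m₂, 1, 3), (γ, m₃, 2, 3)]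
  side : ∃ m : ℤ, D.commTerms δ (top D) = [(γ, m, 1, 1)]
  free : comm0 D δ r' = true ∧ comm0 D γ r = true ∧ comm0 D γ r' = true ∧ comm0 D b r = true ∧
    comm0 D b r' = true ∧ comm0 D b (top D) = true
  inner : (D.commTerms α r).all fun c => c.1 == r' || c.1 == γ || c.1 == top D
  raise : ∃ p₁ p₂ p₃ p₄ : ℤ, p₃.natAbs = 1 ∧
    D.commTerms b α = [(r, p₁, 1, 1), (r', p₂, 1, 2), (γ, p₃, 1, 3), (top D, p₄, 2, 3)]
  last : ∃ N : ℤ, N.natAbs = 1 ∧ D.commTerms b γ = [(top D, N, 1, 1)]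

variable {K₀ : Subfield F} {H : Subgroup (GL D.Idx F)}

include hF in
theorem cube_mem_top (hR : okRad D = true) (hP : okPart D = true) (hle : rat hF K₀ ≤ H) {δ r r' α γ b : ℕ}
    (G : GTwoData D δ r r' α γ b) {a a' z : F}
    (h : hF.xg r a * hF.xg r' a' * hF.xg (top D) z * hF.xg δ 1 * (hF.xg r a * hF.xg r' a' * hF.xg (top D) z)⁻¹ ∈ H) :
    hF.xg (top D) (a ^ 3) ∈ H := by
  obtain ⟨⟨hδn, hαn, hbn⟩, ⟨hr, hr', hγ⟩, ⟨n1, n2, n3, n4, n5, n6, n7, n8, n9, n10, n11, n12, n13, hopp⟩⟩ :=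
    G.lt, G.mem, G.ne
  obtain ⟨fδr', fγr, fγr', fbr, fbr', fbt⟩ := G.free
  obtain ⟨n, m₁, m₂, m₃, hn, hdown⟩ := G.down
  obtain ⟨m, hside⟩ := G.side
  obtain ⟨p₁, p₂, p₃, p₄, hp₃, hraise⟩ := G.raise
  obtain ⟨N, hN, hlast⟩ := G.last
  obtain ⟨P, -, -, hP'⟩ := (partData hP hr).toTop
  rw [hopp] at hP'
  have htn := top_lt hR
  have hrn := (q1_pos hr).2
  have hr'n := (q1_pos hr').2
  have hγn := (q1_pos hγ).2
  have hct : ∀ {s}, s ∈ q1 D → ∀ x y : F, Commute (hF.xg s x) (hF.xg (top D) y) :=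
    fun hs => top_central hF hR (List.mem_cons_of_mem _ hs)
  have cγr' := comm0_spec hF (F := F) hγn hr'n fγr'
  have cγr := comm0_spec hF (F := F) hγn hrn fγr
  let J : GL D.Idx F → Prop := fun g => ∃ u₁ u₂ u₃, g = hF.xg r' u₁ * hF.xg γ u₂ * hF.xg (top D) u₃
  have hJmul : ∀ g g', J g → J g' → J (g * g') := by
    rintro _ _ ⟨u₁, u₂, u₃, rfl⟩ ⟨v₁, v₂, v₃, rfl⟩
    refine ⟨u₁ + v₁, u₂ + v₂, u₃ + v₃, ?_⟩
    simp only [hF.xg_add]
    simp only [mul_assoc]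
    congr 1
    rw [← mul_assoc (hF.xg (top D) u₃), ← (hct hr' v₁ u₃).eq, mul_assoc, ← mul_assoc (hF.xg γ u₂),
      (cγr' u₂ v₁).eq, mul_assoc]
    congr 2
    rw [← mul_assoc (hF.xg (top D) u₃), ← (hct hγ v₂ u₃).eq, mul_assoc]
  have hJ1 : ∀ u, J (hF.xg r' u) := fun u => ⟨u, 0, 0, by simp [hF.xg_zero]⟩
  have hJ2 : ∀ u, J (hF.xg γ u) := fun u => ⟨0, u, 0, by simp [hF.xg_zero]⟩
  have hJ3 : ∀ u, J (hF.xg (top D) u) := fun u => ⟨0, 0, u, by simp [hF.xg_zero]⟩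
  have hJr : ∀ (x : F) g, J g → J (hF.xg r x * g * (hF.xg r x)⁻¹) := by
    rintro x _ ⟨u₁, u₂, u₃, rfl⟩
    rw [← conj_mul, ← conj_mul, ← (cγr u₂ x).eq, (hct hr x u₃).eq, mul_inv_cancel_right, mul_inv_cancel_right]
    refine hJmul _ _ (hJmul _ _ ?_ (hJ2 _)) (hJ3 _)
    rw [conj_one hF hrn hr'n n11 (ne_neg_of_pos hF (q1_pos hr) (q1_pos hr')) hP' (hct hr) (hct hr') x u₁]
    exact hJmul _ _ (hJ1 _) (hJ3 _)
  have hJw : ∀ w : List (ℕ × F), (∀ p ∈ w, p.1 = r' ∨ p.1 = γ ∨ p.1 = top D) → J (hF.wg w) := by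
    intro w
    induction w with
    | nil => intro _; exact ⟨0, 0, 0, by simp [hF.xg_zero, hF.wg_nil]⟩
    | cons p w ih =>
      intro hw
      rw [hF.wg_cons]
      refine hJmul _ _ ?_ (ih fun q hq => hw q (by simp [hq]))
      rcases hw p (by simp) with e | e | e <;> rw [e]
      exacts [hJ1 _, hJ2 _, hJ3 _]
  -- the conjugate
  set A := (n : F) * -1 * a with hA
  obtain ⟨X, hX, hXH⟩ : ∃ j, J j ∧ hF.xg α A * j ∈ H := by
    have e1 : hF.xg (top D) z * hF.xg δ 1 * (hF.xg (top D) z)⁻¹ = hF.xg δ 1 * hF.xg γ (-((m : F) * 1 * z)) := by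
      rw [swap_one hF hδn htn n3 n4 hside 1 z, mul_assoc (hF.xg δ 1), mul_assoc (hF.xg δ 1),
        ← (hct hγ _ z).eq, mul_inv_cancel_right]
    have e2 : hF.xg r a * hF.xg δ 1 * (hF.xg r a)⁻¹ =
        hF.xg δ 1 * (hF.xg r a * hF.wg (D.commWord F δ r 1 a) * (hF.xg r a)⁻¹) := by
      rw [xg_swap hF hδn hrn n1 n2 (1 : F) a]; group
    have e3 : hF.xg r a * hF.xg α A * (hF.xg r a)⁻¹ =
        hF.xg α A * (hF.xg r a * hF.wg (D.commWord F α r A a) * (hF.xg r a)⁻¹) := by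
      rw [xg_swap hF hαn hrn n5 n6 A a]; group
    set jW := hF.wg [(r', (m₁ : F) * (-1) ^ 1 * a ^ 2), (top D, (m₂ : F) * (-1) ^ 1 * a ^ 3),
      (γ, (m₃ : F) * (-1) ^ 2 * a ^ 3)]
    have e4 : hF.wg (D.commWord F δ r 1 a) = hF.xg α A * jW := by
      simp [ChevalleyDatum.commWord, hdown, hF.wg_cons, A, jW]
    refine ⟨hF.xg r a * hF.wg (D.commWord F α r A a) * (hF.xg r a)⁻¹ * (hF.xg r a * jW * (hF.xg r a)⁻¹) *
      hF.xg γ (-((m : F) * 1 * z)), hJmul _ _ (hJmul _ _ (hJr a _ (hJw _ ?_)) (hJr a _ (hJw _ ?_))) (hJ2 _), ?_⟩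
    · intro p hp
      obtain ⟨c, hc, rfl⟩ := List.mem_map.1 hp
      have := G.inner
      simp only [List.all_eq_true, Bool.or_eq_true, beq_iff_eq, or_assoc] at this
      exact this c hc
    · simp [jW]
    have h1 := mul_mem (inv_mem (hle (xg_mem_rat hF K₀ δ (one_mem _)))) h
    convert h1 using 1
    have cr'δ := comm0_spec hF (F := F) hδn hr'n fδr'
    calc hF.xg α A * (hF.xg r a * hF.wg (D.commWord F α r A a) * (hF.xg r a)⁻¹ *
          (hF.xg r a * jW * (hF.xg r a)⁻¹) * hF.xg γ (-((m : F) * 1 * z)))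
        = (hF.xg r a * hF.xg α A * (hF.xg r a)⁻¹) * (hF.xg r a * jW * (hF.xg r a)⁻¹) *
            hF.xg γ (-((m : F) * 1 * z)) := by rw [e3]; group
      _ = (hF.xg δ 1)⁻¹ * (hF.xg r a * hF.xg δ 1 * (hF.xg r a)⁻¹) * hF.xg γ (-((m : F) * 1 * z)) := by
            rw [e2, e4]; group
      _ = (hF.xg δ 1)⁻¹ * (hF.xg r a * (hF.xg δ 1 * hF.xg γ (-((m : F) * 1 * z))) * (hF.xg r a)⁻¹) := by
            rw [← conj_mul, ← (cγr (-((m : F) * 1 * z)) a).eq]; group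
      _ = _ := by
            congr 1
            have c1 : Commute (hF.xg r' a') (hF.xg δ 1 * hF.xg γ (-((m : F) * 1 * z))) :=
              (cr'δ 1 a').symm.mul_right (cγr' _ a').symm
            rw [← e1] at c1 ⊢
            calc hF.xg r a * (hF.xg (top D) z * hF.xg δ 1 * (hF.xg (top D) z)⁻¹) * (hF.xg r a)⁻¹
                = hF.xg r a * (hF.xg r' a' * (hF.xg (top D) z * hF.xg δ 1 * (hF.xg (top D) z)⁻¹) *
                    (hF.xg r' a')⁻¹) * (hF.xg r a)⁻¹ := by rw [c1.eq, mul_inv_cancel_right]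
              _ = _ := by group
  -- raising by b
  obtain ⟨u₁, u₂, u₃, rfl⟩ := hX
  have hg : hF.xg b (1 : F) ∈ H := hle (xg_mem_rat hF K₀ _ (one_mem _))
  have cb2 := comm0_spec hF (F := F) hbn hr'n fbr'
  have cb3 := comm0_spec hF (F := F) hbn htn fbt
  have cb1 := comm0_spec hF (F := F) hbn hrn fbr
  have cbγ : ∀ x : F, hF.xg b 1 * hF.xg γ x * (hF.xg b 1)⁻¹ = hF.xg γ x * hF.xg (top D) ((N : F) * 1 * x) :=
    conj_one hF hbn hγn n9 n10 hlast cb3 (hct hγ) 1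
  have eα : hF.xg b 1 * hF.xg α A * (hF.xg b 1)⁻¹ = hF.xg α A * hF.wg (D.commWord F b α (-1) A) := by
    have := xg_swap hF hbn hαn n7 n8 (-1 : F) A
    rw [hF.xg_neg] at this
    rw [mul_assoc, this]; group
  set B₁ := (p₁ : F) * (-(-1 : F)) ^ 1 * A ^ 1
  set B₂ := (p₂ : F) * (-(-1 : F)) ^ 1 * A ^ 2
  set B₃ := (p₃ : F) * (-(-1 : F)) ^ 1 * A ^ 3
  set B₄ := (p₄ : F) * (-(-1 : F)) ^ 2 * A ^ 3
  have eW : hF.wg (D.commWord F b α (-1) A) = hF.xg r B₁ * hF.xg r' B₂ * hF.xg γ B₃ * hF.xg (top D) B₄ := by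
    simp [ChevalleyDatum.commWord, hraise, hF.wg_cons, hF.wg_nil, B₁, B₂, B₃, B₄, mul_assoc]
  set j := hF.xg r' u₁ * hF.xg γ u₂ * hF.xg (top D) u₃ with hj
  have ej : hF.xg b 1 * j * (hF.xg b 1)⁻¹ = j * hF.xg (top D) ((N : F) * 1 * u₂) := by
    rw [hj, ← conj_mul, ← conj_mul, (cb2 1 u₁).eq, (cb3 1 u₃).eq, mul_inv_cancel_right, mul_inv_cancel_right, cbγ]
    simp only [mul_assoc]
    rw [← hF.xg_add, ← hF.xg_add, add_comm]
  obtain ⟨e, hE⟩ : ∃ e, hF.xg r B₁ * hF.xg r' B₂ * hF.xg γ B₃ * hF.xg (top D) e ∈ H := by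
    have h2 := mul_mem (inv_mem hXH) (mul_mem (mul_mem hg hXH) (inv_mem hg))
    have e1 : hF.xg b 1 * (hF.xg α A * j) * (hF.xg b 1)⁻¹ =
        hF.xg α A * (hF.xg r B₁ * hF.xg r' B₂ * hF.xg γ B₃ * hF.xg (top D) B₄ * j * hF.xg (top D) ((N : F) * 1 * u₂)) := by
      rw [← conj_mul, eα, ej, eW]; simp only [mul_assoc]
    rw [e1, _root_.mul_inv_rev, mul_assoc j⁻¹, inv_mul_cancel_left] at h2
    obtain ⟨w, hw⟩ : ∃ w, j⁻¹ * hF.xg r B₁ * j = hF.xg r B₁ * hF.xg (top D) w := by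
      refine ⟨(P : F) * B₁ * -u₁ * -1, ?_⟩
      have e2 := conj_one hF hrn hr'n n11 (ne_neg_of_pos hF (q1_pos hr) (q1_pos hr')) hP' (hct hr) (hct hr') B₁ u₁
      have e3 : hF.xg r B₁ * j = j * hF.xg (top D) ((P : F) * B₁ * u₁) * hF.xg r B₁ := by
        rw [← mul_inv_eq_iff_eq_mul, hj, ← conj_mul, ← conj_mul, e2, ← (cγr u₂ B₁).eq, (hct hr B₁ u₃).eq,
          mul_inv_cancel_right, mul_inv_cancel_right]
        simp only [mul_assoc]
        rw [← mul_assoc (hF.xg (top D) _) (hF.xg γ u₂), ← (hct hγ u₂ _).eq, mul_assoc, ← hF.xg_add, ← hF.xg_add,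
          add_comm]
      rw [mul_assoc, e3, mul_assoc j, inv_mul_cancel_left, (hct hr B₁ _).eq,
        show (P : F) * B₁ * -u₁ * -1 = (P : F) * B₁ * u₁ by ring]
    set j' := hF.xg r' B₂ * hF.xg γ B₃ * hF.xg (top D) B₄ with hj'
    have cjj : Commute j' j := by
      have c1 : Commute (hF.xg r' B₂) j := by
        rw [hj]
        exact ((xg_self_commute hF r' _ _).mul_right (cγr' _ _).symm).mul_right (hct hr' _ _)
      have c2 : Commute (hF.xg γ B₃) j := by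
        rw [hj]
        exact ((cγr' _ _).mul_right (xg_self_commute hF γ _ _)).mul_right (hct hγ _ _)
      have c3 : Commute (hF.xg (top D) B₄) j := by
        rw [hj]
        exact ((hct hr' _ _).symm.mul_right (hct hγ _ _).symm).mul_right (xg_self_commute hF (top D) _ _)
      exact (c1.mul_left c2).mul_left c3
    refine ⟨w + B₄ + (N : F) * 1 * u₂, ?_⟩
    convert h2 using 1
    have cw : Commute (hF.xg (top D) w) j' := by
      rw [hj']
      exact ((hct hr' _ _).symm.mul_right (hct hγ _ _).symm).mul_right (xg_self_commute hF (top D) _ _)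
    calc hF.xg r B₁ * hF.xg r' B₂ * hF.xg γ B₃ * hF.xg (top D) (w + B₄ + (N : F) * 1 * u₂)
        = hF.xg r B₁ * (hF.xg r' B₂ * hF.xg γ B₃ * (hF.xg (top D) B₄ * hF.xg (top D) w)) *
            hF.xg (top D) ((N : F) * 1 * u₂) := by rw [← hF.xg_add, hF.xg_add, add_comm B₄ w]; simp only [mul_assoc]
      _ = hF.xg r B₁ * (j' * hF.xg (top D) w) * hF.xg (top D) ((N : F) * 1 * u₂) := by
            rw [hj']; simp only [mul_assoc]
      _ = (j⁻¹ * hF.xg r B₁ * j) * j' * hF.xg (top D) ((N : F) * 1 * u₂) := by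
            rw [hw, ← cw.eq]; simp only [mul_assoc]
      _ = j⁻¹ * hF.xg r B₁ * (j' * j) * hF.xg (top D) ((N : F) * 1 * u₂) := by
            rw [cjj.eq]; simp only [mul_assoc]
      _ = _ := by rw [hj']; simp only [mul_assoc]
  have h3 := mul_mem (inv_mem hE) (mul_mem (mul_mem hg hE) (inv_mem hg))
  rw [← conj_mul, ← conj_mul, ← conj_mul, (cb1 1 B₁).eq, (cb2 1 B₂).eq, (cb3 1 e).eq, mul_inv_cancel_right,
    mul_inv_cancel_right, mul_inv_cancel_right, cbγ, ← mul_assoc (hF.xg r B₁ * hF.xg r' B₂) (hF.xg γ B₃),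
    mul_assoc _ (hF.xg (top D) _) (hF.xg (top D) e), (xg_self_commute hF (top D) _ e).eq,
    ← mul_assoc (hF.xg r B₁ * hF.xg r' B₂ * hF.xg γ B₃) (hF.xg (top D) e), inv_mul_cancel_left] at h3
  have h4 := sign_mem hF h3 (σ := (N : F) * p₃ * (-1) * n) (by
    rcases natAbs_one_or hN F with e1 | e1 <;> rcases natAbs_one_or hp₃ F with e2 | e2 <;>
      rcases natAbs_one_or hn F with e3 | e3 <;> simp [e1, e2, e3])
  convert h4 using 2
  simp only [B₃, A]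
  rcases natAbs_one_or hN F with e1 | e1 <;> rcases natAbs_one_or hp₃ F with e2 | e2 <;>
    rcases natAbs_one_or hn F with e3 | e3 <;> rw [e1, e2, e3] <;> ring

theorem gTwoData₁ : GTwoData chevG2 5 8 9 7 10 6 := by
  refine ⟨by decide, by decide +kernel, by decide +kernel, ⟨1, -1, 1, 2, rfl, by decide +kernel⟩,
    ⟨1, by decide +kernel⟩, by decide +kernel, by decide +kernel,
    ⟨1, 1, -1, -2, rfl, by decide +kernel⟩, ⟨1, rfl, by decide +kernel⟩⟩

theorem gTwoData₂ : GTwoData chevG2 1 9 8 4 6 10 := by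
  refine ⟨by decide, by decide +kernel, by decide +kernel, ⟨-1, 1, 1, -2, rfl, by decide +kernel⟩,
    ⟨-1, by decide +kernel⟩, by decide +kernel, by decide +kernel,
    ⟨-1, -1, -1, 2, rfl, by decide +kernel⟩, ⟨-1, rfl, by decide +kernel⟩⟩

theorem mem_of_cube [Fintype F] (hk : ∃ k ∈ K₀, k ≠ 0 ∧ k ≠ 1) {a : F} (h : ∀ k ∈ K₀, (k + a) ^ 3 ∈ K₀) : a ∈ K₀ := by
  have h0 : a ^ 3 ∈ K₀ := by simpa using h 0 (zero_mem _)
  by_cases h3 : (3 : F) = 0
  · have hinj : Function.Injective fun y : K₀ => y ^ 3 := fun x y hxy => by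
      have h' : (x : F) ^ 3 = (y : F) ^ 3 := by exact_mod_cast congrArg Subtype.val hxy
      refine Subtype.ext (sub_eq_zero.mp (eq_zero_of_pow_eq_zero (n := 3) ?_))
      linear_combination h' + ((x : F) * (y : F) ^ 2 - (x : F) ^ 2 * y) * h3
    obtain ⟨y, hy⟩ := Finite.injective_iff_surjective.1 hinj ⟨a ^ 3, h0⟩
    have hy' : (y : F) ^ 3 = a ^ 3 := congrArg Subtype.val hy
    rw [show a = (y : F) from (sub_eq_zero.mp (eq_zero_of_pow_eq_zero (n := 3) (by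
      linear_combination -hy' + (a * (y : F) ^ 2 - a ^ 2 * y) * h3)))]
    exact y.2
  obtain ⟨k, hk, hk0, hk1⟩ := hk
  have e1 := sub_mem (sub_mem (h 1 (one_mem _)) h0) (one_mem K₀)
  have ek := sub_mem (sub_mem (h k hk) h0) (pow_mem hk 3)
  have e2 := sub_mem ek (mul_mem hk e1)
  rw [show (k + a) ^ 3 - a ^ 3 - k ^ 3 - k * ((1 + a) ^ 3 - a ^ 3 - 1) = 3 * (k ^ 2 - k) * a by ring] at e2
  have hne : (3 : F) * (k ^ 2 - k) ≠ 0 := mul_ne_zero h3 (by
    rw [show k ^ 2 - k = k * (k - 1) by ring]; exact mul_ne_zero hk0 (sub_ne_zero.2 hk1))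
  have h3K : (3 : F) * (k ^ 2 - k) ∈ K₀ := mul_mem (by
    rw [show (3 : F) = 1 + 1 + 1 by norm_num]; exact add_mem (add_mem (one_mem _) (one_mem _)) (one_mem _))
    (sub_mem (pow_mem hk 2) hk)
  have e3 := mul_mem (inv_mem h3K) e2
  rwa [← mul_assoc, inv_mul_cancel₀ hne, one_mul] at e3

theorem lowRational_gTwo_big [Fintype F] (hF : Facts chevG2) (hR : okRad chevG2 = true) (hC : okClimb chevG2 = true)
    {K₀ : Subfield F} (hbig : ∃ k ∈ K₀, k ≠ 0 ∧ k ≠ 1) : LowRational hF K₀ := by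
  intro H T t z c hc hlow
  have hlt : lg chevG2 (top chevG2) = true := by
    have := hC; simp only [okClimb, Bool.and_eq_true] at this; exact this.1
  have hO := okOppG2
  have hq : q1 chevG2 = [6, 8, 9, 10] := by decide +kernel
  have htop : top chevG2 = 11 := rfl
  have h6 : (6 : ℕ) ∈ q1 chevG2 := by simp [hq]
  have h10 : (10 : ℕ) ∈ q1 chevG2 := by simp [hq]
  have l6 : lg chevG2 6 = true := by decide +kernel
  have l10 : lg chevG2 10 = true := by decide +kernel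
  have O6 := oppData hO h6 l6
  have O10 := oppData hO h10 l10
  have o6 : opp chevG2 6 = 10 := by decide +kernel
  have o10 : opp chevG2 10 = 6 := by decide +kernel
  have t10 : t 10 ∈ K₀ := by
    by_contra ha
    obtain ⟨-, h01, -⟩ := T.long_four hF hR hlt h6 l6 O6 hc hlow (by rwa [o6])
    obtain ⟨k, hk, hk0, hk1⟩ := hbig
    exact (h01 k hk).elim hk0 hk1
  have t6 : t 6 ∈ K₀ := by
    by_contra ha
    obtain ⟨-, h01, -⟩ := T.long_four hF hR hlt h10 l10 O10 hc hlow (by rwa [o10])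
    obtain ⟨k, hk, hk0, hk1⟩ := hbig
    exact (h01 k hk).elim hk0 hk1
  have key : ∀ k ∈ K₀, ∀ k' ∈ K₀, (k + t 8) ^ 3 ∈ K₀ ∧ (k' + t 9) ^ 3 ∈ K₀ := by
    intro k hk k' hk'
    obtain ⟨z', hz'⟩ := low_shift hF hR T.le hlow
      (k := fun s => if s = 8 then k else if s = 9 then k' else -(t s)) (by
        intro s hs
        rw [hq] at hs
        simp only [List.mem_cons, List.not_mem_nil, or_false] at hs
        rcases hs with rfl | rfl | rfl | rfl <;> norm_num [hk, hk', t6, t10])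
    set t' : ℕ → F := fun r => (if r = 8 then k else if r = 9 then k' else -(t r)) + t r
    have e6 : t' 6 = 0 := by norm_num [t']
    have e10 : t' 10 = 0 := by norm_num [t']
    have e8 : t' 8 = k + t 8 := by norm_num [t']
    have e9 : t' 9 = k' + t 9 := by norm_num [t']
    have hu : qE hF t' = hF.xg 8 (t' 8) * hF.xg 9 (t' 9) := by
      simp [qE, lineWord, hq, hF.wg_cons, hF.wg_nil, e6, e10, hF.xg_zero]
    have hcK := T.c_mem hF hR hlt h6 O6 (by rw [o6, e10]; exact zero_mem _) hz'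
    have s5 := T.side_mem hF hR h10 O10 (by rw [o10, e6]; exact zero_mem _) hz' hc hcK (one_mem K₀)
    have s1 := T.side_mem hF hR h6 O6 (by rw [o6, e10]; exact zero_mem _) hz' hc hcK (one_mem K₀)
    rw [o10, show chevG2.neg 6 = 5 by decide +kernel, mem_seen, hu] at s5
    rw [o6, show chevG2.neg 10 = 1 by decide +kernel, mem_seen, hu] at s1
    refine ⟨?_, ?_⟩
    · exact T.long _ hlt _ (e8 ▸ cube_mem_top hF hR okPartG2 T.le gTwoData₁ s5)
    · have hsw := swap_one hF (r := 8) (s := 9) (k := top chevG2) (N := 3) (by decide) (by decide) (by decide)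
        (by decide +kernel) (by decide +kernel) (t' 8) (t' 9)
      have e : hF.xg 8 (t' 8) * hF.xg 9 (t' 9) * hF.xg (top chevG2) z' =
          hF.xg 9 (t' 9) * hF.xg 8 (t' 8) * hF.xg (top chevG2) ((3 : F) * t' 8 * t' 9 + z') := by
        rw [hsw, mul_assoc (_ * _) (hF.xg (top chevG2) _), ← hF.xg_add]
        congr 2
        push_cast
        ring
      rw [e] at s1
      exact T.long _ hlt _ (e9 ▸ cube_mem_top hF hR okPartG2 T.le gTwoData₂ s1)
  have t8 : t 8 ∈ K₀ := mem_of_cube hbig fun k hk => (key k hk 0 (zero_mem _)).1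
  have t9 : t 9 ∈ K₀ := mem_of_cube hbig fun k hk => (key 0 (zero_mem _) k hk).2
  have hall : ∀ s ∈ q1 chevG2, t s ∈ K₀ := by
    intro s hs
    rw [hq] at hs
    simp only [List.mem_cons, List.not_mem_nil, or_false] at hs
    rcases hs with rfl | rfl | rfl | rfl <;> assumption
  exact ⟨hall, T.z_mem hF hR hlt h6 l6 O6 hall hlow hc, T.c_mem hF hR hlt h6 O6 (hall _ O6.mem) hlow⟩

end Cfsg.Agent.Lie.SubMax
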