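import Cfsg.Agent.Lib.Lie.SubMax.SmallCase

/-!
Chains of conjugations for type G2 over the field with four elements.
-/

set_option autoImplicit false

namespace Cfsg.Agent.Lie.SubMax.Small

/-- Part 0 of the chains. -/
def g2Certs0 : List (Cert 6) := [
  { ts := [0, 0, 0, 0, 0], c := o, xm := !![1, 0, 0, 0, 0, 0; 0, 1, 0, 0, 0, 0; 0, 0, 1, 0, 0, 0; 0, 0, 0, 1, 0, 0; o, 0, 0, 0, 1, 0; 0, o, 0, 0, 0, 1],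
    startX := true, steps := [], root := 0, par := o },
  { ts := [0, 0, 0, 0, 0], c := o2, xm := !![1, 0, 0, 0, 0, 0; 0, 1, 0, 0, 0, 0; 0, 0, 1, 0, 0, 0; 0, 0, 0, 1, 0, 0; o2, 0, 0, 0, 1, 0; 0, o2, 0, 0, 0, 1],
    startX := true, steps := [], root := 0, par := o2 },
  { ts := [0, 0, 0, 0, o], c := 1, xm := !![o2, 0, 0, 0, o2, 0; 0, o2, 0, 0, 0, o2; 0, 0, 1, 0, 0, 0; 0, 0, 0, 1, 0, 0; 1, 0, 0, 0, o2, 0; 0, 1, 0, 0, 0, o2],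
    startX := true, steps := [(some 0, !![0, 0, 0, 0, o2, 0; 0, 0, 0, 0, 0, o2; 0, 0, 1, 0, 0, 0; 0, 0, 0, 1, 0, 0; o, 0, 0, 0, 0, 0; 0, o, 0, 0, 0, 0]),
      (none, !![1, 0, 0, 0, o, 0; 0, 1, 0, 0, 0, o; 0, 0, 1, 0, 0, 0; 0, 0, 0, 1, 0, 0; 0, 0, 0, 0, 1, 0; 0, 0, 0, 0, 0, 1])], root := 11, par := o },
  { ts := [0, 0, 0, 0, o], c := o, xm := !![o, 0, 0, 0, 1, 0; 0, o, 0, 0, 0, 1; 0, 0, 1, 0, 0, 0; 0, 0, 0, 1, 0, 0; o, 0, 0, 0, o, 0; 0, o, 0, 0, 0, o],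
    startX := true, steps := [(some 11, !![0, 0, 0, 0, o2, 0; 0, 0, 0, 0, 0, o2; 0, 0, 1, 0, 0, 0; 0, 0, 0, 1, 0, 0; o, 0, 0, 0, 0, 0; 0, o, 0, 0, 0, 0]),
      (none, !![1, 0, 0, 0, 0, 0; 0, 1, 0, 0, 0, 0; 0, 0, 1, 0, 0, 0; 0, 0, 0, 1, 0, 0; o2, 0, 0, 0, 1, 0; 0, o2, 0, 0, 0, 1])], root := 0, par := o2 },
  { ts := [0, 0, 0, 0, o], c := o2, xm := !![0, 0, 0, 0, o, 0; 0, 0, 0, 0, 0, o; 0, 0, 1, 0, 0, 0; 0, 0, 0, 1, 0, 0; o2, 0, 0, 0, 0, 0; 0, o2, 0, 0, 0, 0],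
    startX := false, steps := [(none, !![1, 0, 0, 0, 0, 0; 0, 1, 0, 0, 0, 0; 0, 0, 1, 0, 0, 0; 0, 0, 0, 1, 0, 0; o, 0, 0, 0, 1, 0; 0, o, 0, 0, 0, 1])], root := 0, par := o },
  { ts := [0, 0, 0, o, 0], c := 1, xm := !![1, 0, 0, 0, 0, 0; 0, 1, 0, 0, 0, 0; 0, o, 1, 0, 0, 0; 0, 0, 0, 1, 0, 0; 1, 0, 0, o, 1, 0; 0, 1, 0, 0, 0, 1],
    startX := true, steps := [(some 1, !![1, 0, 0, 0, 0, 0; 0, 1, 0, 0, 0, 0; 0, o, 1, 0, 0, 0; 0, 0, 0, 1, 0, 0; o2, 0, 0, o, 1, 0; 0, o2, 0, 0, 0, 1]),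
      (some 4, !![1, 0, 0, 0, 0, 0; 0, 1, 0, 0, 0, 0; o, o, 1, 0, 0, 0; o, o, 0, 1, 0, 0; o2, 0, o, o, 1, 0; 0, o2, o, o, 0, 1]),
      (some 7, !![1, 0, 0, 0, 0, 0; 0, 1, 0, 0, 0, 0; 0, 0, 1, 0, 0, 0; o, 0, 0, 1, 0, 0; o2, 0, 0, 0, 1, 0; 0, o2, o, 0, 0, 1]),
      (none, !![1, 0, 0, 0, 0, 0; 0, 1, 0, 0, 0, 0; 0, 0, 1, 0, 0, 0; o, 0, 0, 1, 0, 0; 0, 0, 0, 0, 1, 0; 0, 0, o, 0, 0, 1])], root := 1, par := o },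
  { ts := [0, 0, 0, o, 0], c := o, xm := !![1, 0, 0, 0, 0, 0; 0, 1, 0, 0, 0, 0; 0, o2, 1, 0, 0, 0; 0, 0, 0, 1, 0, 0; o, 0, 0, o2, 1, 0; 0, o, 0, 0, 0, 1],
    startX := true, steps := [(some 4, !![1, 0, 0, 0, 0, 0; 0, 1, 0, 0, 0, 0; o2, o2, 1, 0, 0, 0; o2, o2, 0, 1, 0, 0; o, 0, o2, o2, 1, 0; 0, o, o2, o2, 0, 1]),
      (some 7, !![1, 0, 0, 0, 0, 0; 0, 1, 0, 0, 0, 0; 0, 0, 1, 0, 0, 0; o2, 0, 0, 1, 0, 0; o, 0, 0, 0, 1, 0; 0, o, o2, 0, 0, 1]),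
      (none, !![1, 0, 0, 0, 0, 0; 0, 1, 0, 0, 0, 0; 0, 0, 1, 0, 0, 0; o2, 0, 0, 1, 0, 0; 0, 0, 0, 0, 1, 0; 0, 0, o2, 0, 0, 1])], root := 1, par := o2 },
  { ts := [0, 0, 0, o, 0], c := o2, xm := !![1, 0, 0, 0, 0, 0; 0, 1, 0, 0, 0, 0; 0, 1, 1, 0, 0, 0; 0, 0, 0, 1, 0, 0; o2, 0, 0, 1, 1, 0; 0, o2, 0, 0, 0, 1],
    startX := true, steps := [(some 1, !![1, 0, 0, 0, 0, 0; 0, 1, 0, 0, 0, 0; 0, 1, 1, 0, 0, 0; 0, 0, 0, 1, 0, 0; o, 0, 0, 1, 1, 0; 0, o, 0, 0, 0, 1]),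
      (some 9, !![1, o, 0, o, 0, 0; 0, 1, 0, 0, 0, 0; o, 1, 1, 0, 0, o; 0, 0, 0, 1, 0, 0; o, 0, 0, 1, 1, o; 0, o, 0, o, 0, 1]),
      (some 2, !![1, 0, 0, o, 0, 0; 0, 1, 0, 0, 0, 0; 0, 1, 1, 0, 0, o; 0, 0, 0, 1, 0, 0; 0, 0, 0, 1, 1, 0; 0, 0, 0, 0, 0, 1]),
      (none, !![1, 0, 0, o, 0, 0; 0, 1, 0, 0, 0, 0; 0, 0, 1, 0, 0, o; 0, 0, 0, 1, 0, 0; 0, 0, 0, 0, 1, 0; 0, 0, 0, 0, 0, 1])], root := 10, par := o }]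

/-- Part 1 of the chains. -/
def g2Certs1 : List (Cert 6) := [
  { ts := [0, 0, 0, o, o], c := 1, xm := !![o2, 0, 0, o2, o2, 0; 0, o2, 0, 0, 0, o2; 0, o, 1, 0, 0, o2; 0, 0, 0, 1, 0, 0; 1, 0, 0, o, o2, 0; 0, 1, 0, 0, 0, o2],
    startX := true, steps := [(some 0, !![0, 0, 0, o2, o2, 0; 0, 0, 0, 0, 0, o2; 0, 1, 1, 0, 0, o2; 0, 0, 0, 1, 0, 0; o, 0, 0, 1, 0, 0; 0, o, 0, 0, 0, 0]),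
      (some 10, !![0, 0, 0, o, o2, 0; 0, 0, 0, 0, 0, o2; 0, o2, 1, 0, 0, o; 0, 0, 0, 1, 0, 0; o, 0, 0, o2, 0, 0; 0, o, 0, 0, 0, 0]),
      (none, !![1, 0, 0, 0, o, 0; 0, 1, 0, 0, 0, o; 0, 0, 1, 0, 0, 0; 0, 0, 0, 1, 0, 0; 0, 0, 0, 0, 1, 0; 0, 0, 0, 0, 0, 1])], root := 11, par := o },
  { ts := [0, 0, 0, o, o], c := o, xm := !![o, 0, 0, 1, 1, 0; 0, o, 0, 0, 0, 1; 0, o2, 1, 0, 0, 1; 0, 0, 0, 1, 0, 0; o, 0, 0, o2, o, 0; 0, o, 0, 0, 0, o],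
    startX := true, steps := [(some 10, !![o, 0, 0, o, 1, 0; 0, o, 0, 0, 0, 1; 0, 1, 1, 0, 0, o; 0, 0, 0, 1, 0, 0; o, 0, 0, 1, o, 0; 0, o, 0, 0, 0, o]),
      (some 1, !![0, 0, 0, o, 1, 0; 0, o, 1, 0, 0, 1; 0, 1, o2, 0, 0, o; 1, 0, 0, o2, 1, 0; o2, 0, 0, 1, o, 0; 0, o2, 1, 0, 0, 0]),
      (none, !![1, 0, 0, 0, 0, 0; 0, 1, o2, 0, 0, 0; 0, 0, 1, 0, 0, 0; 0, 0, 0, 1, o2, 0; 0, 0, 0, 0, 1, 0; 0, 0, 0, 0, 0, 1])], root := 6, par := o2 },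
  { ts := [0, 0, 0, o, o], c := o2, xm := !![0, 0, 0, o, o, 0; 0, 0, 0, 0, 0, o; 0, 1, 1, 0, 0, o; 0, 0, 0, 1, 0, 0; o2, 0, 0, 1, 0, 0; 0, o2, 0, 0, 0, 0],
    startX := false, steps := [(some 5, !![1, 0, 0, 1, 1, 0; 0, 1, 0, 0, 0, 1; 0, 0, 1, 0, 0, 1; 0, 0, 0, 1, 0, 0; 0, 0, 0, 0, 1, 0; 0, 0, 0, 0, 0, 1]),
      (none, !![1, 0, 0, 0, 0, 0; 0, 1, 0, 0, 0, 0; 0, 0, 1, 0, 0, 0; 0, 0, 0, 1, 0, 0; o, 0, 0, 0, 1, 0; 0, o, 0, 0, 0, 1])], root := 0, par := o },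
  { ts := [0, 0, o, 0, 0], c := 1, xm := !![1, o2, 0, 1, 0, 0; 0, 1, 0, 0, 0, 0; o, 0, 1, 0, 0, 1; 0, 0, 0, 1, 0, 0; 1, 0, 0, 0, 1, o2; 0, 1, 0, o, 0, 1],
    startX := true, steps := [(some 4, !![o, o2, 1, 1, 0, 0; o2, o, 1, 1, 0, 0; o, 0, 1, 0, 1, 1; o, 0, 0, 1, 1, 1; 1, 0, 0, 0, o, o2; 0, 1, o, o, o2, o]),
      (some 6, !![o, o2, o, 1, 1, 0; 1, o, o, 1, 0, 1; o, 0, 1, 0, 1, 1; o2, 0, 0, 1, o, o; 1, 0, 0, 0, o, o2; 0, 1, o2, o, 1, o]),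
      (none, !![0, o, o2, o2, o2, 0; o, 0, o, o, 0, o2; 1, 0, 1, 0, o, o2; 1, 0, 0, 1, o, o2; o2, 0, 0, 0, 0, o; 0, o2, 1, 1, o, 0]),
      (some 4, !![o, o, 0, o2, o2, 0; 0, o, 0, 1, 0, o2; 1, 0, 1, 0, 1, o2; 0, 0, 0, 1, 0, 0; o2, 0, 0, 0, o, o; 0, o2, 0, 1, 0, o]),
      (none, !![1, 0, 0, 0, o2, 0; 0, 1, 0, 0, 0, o2; 0, 0, 1, 0, 0, 0; 0, 0, 0, 1, 0, 0; 0, 0, 0, 0, 1, 0; 0, 0, 0, 0, 0, 1])], root := 11, par := o2 },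
  { ts := [0, 0, o, 0, 0], c := o, xm := !![1, 1, 0, o, 0, 0; 0, 1, 0, 0, 0, 0; o2, 0, 1, 0, 0, o; 0, 0, 0, 1, 0, 0; o, 0, 0, 0, 1, 1; 0, o, 0, o2, 0, 1],
    startX := true, steps := [(some 1, !![o2, 1, 0, o, 0, 0; 0, 1, 0, 0, 0, 0; o2, 0, o2, 0, 0, o; o, 1, 0, o2, 0, 0; o, 0, 1, 0, 1, 1; 0, o, o, o2, 0, o2]),
      (some 8, !![0, 1, o2, o, 1, 0; o, 1, o2, 0, 0, 1; o2, 0, 0, 0, 0, o; o, o2, 0, 0, o2, o2; o, 0, o2, 0, 1, 1; 0, o, o, o2, o, 0]),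
      (none, !![1, 0, 0, 0, 0, 0; 0, 1, o2, 0, 0, 0; 0, 0, 1, 0, 0, 0; o2, 0, 0, 1, o2, 0; 0, 0, 0, 0, 1, 0; 0, 0, o2, 0, 0, 1]),
      (some 0, !![1, 0, 0, 0, 0, 0; 0, 1, o2, 0, 0, 0; 0, 0, 1, 0, 0, 0; 0, 0, 0, 1, o2, 0; 0, 0, 0, 0, 1, 0; 0, 0, 0, 0, 0, 1])], root := 6, par := o2 },
  { ts := [0, 0, o, 0, 0], c := o2, xm := !![1, o, 0, o2, 0, 0; 0, 1, 0, 0, 0, 0; 1, 0, 1, 0, 0, o2; 0, 0, 0, 1, 0, 0; o2, 0, 0, 0, 1, o; 0, o2, 0, 1, 0, 1],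
    startX := true, steps := [(some 4, !![o2, o, o2, o2, 0, 0; o, o2, o2, o2, 0, 0; 1, 0, 1, 0, o2, o2; 1, 0, 0, 1, o2, o2; o2, 0, 0, 0, o2, o; 0, o2, 1, 1, o, o2]),
      (some 11, !![0, o, o2, o2, o2, 0; o, 0, o, o, 0, o2; 1, 0, 1, 0, o, o2; 1, 0, 0, 1, o, o2; o2, 0, 0, 0, 0, o; 0, o2, 1, 1, o, 0]),
      (none, !![1, 0, 0, 0, o, 0; 0, 1, o, 0, 0, o; 0, 0, 1, 0, 0, 0; 0, 0, 0, 1, o, 0; 0, 0, 0, 0, 1, 0; 0, 0, 0, 0, 0, 1]),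
      (some 1, !![1, 0, 0, 0, o, 0; 0, 1, 0, 0, 0, o; 0, 0, 1, 0, 0, 0; 0, 0, 0, 1, 0, 0; 0, 0, 0, 0, 1, 0; 0, 0, 0, 0, 0, 1])], root := 11, par := o },
  { ts := [0, 0, o, 0, o], c := 1, xm := !![o2, o2, 0, 1, o2, 0; 0, o2, 0, o2, 0, o2; o, 0, 1, 0, o2, 1; 0, 0, 0, 1, 0, 0; 1, 0, 0, 0, o2, o2; 0, 1, 0, o, 0, o2],
    startX := true, steps := [(some 0, !![0, o2, 0, 1, o2, 0; 0, 0, 0, o2, 0, o2; 1, 1, 1, 0, o2, 1; 0, 0, 0, 1, 0, 0; o, 0, 0, 1, 0, o2; 0, o, 0, 1, 0, 0]),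
      (some 5, !![0, o2, 0, o, o2, 0; 0, 0, 0, o2, 0, o2; 1, 0, 1, 0, o2, o; 0, 0, 0, 1, 0, 0; o, 0, 0, 0, 0, o2; 0, o, 0, 1, 0, 0]),
      (some 9, !![0, 1, 0, o, o2, 0; 0, 0, 0, o, 0, o2; o2, 0, 1, 0, o, o; 0, 0, 0, 1, 0, 0; o, 0, 0, 0, 0, 1; 0, o, 0, o2, 0, 0]),
      (none, !![1, 0, 0, 0, o, 0; 0, 1, 0, 0, 0, o; 0, 0, 1, 0, 0, 0; 0, 0, 0, 1, 0, 0; 0, 0, 0, 0, 1, 0; 0, 0, 0, 0, 0, 1])], root := 11, par := o },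
  { ts := [0, 0, o, 0, o], c := o, xm := !![o, 1, 0, o, 1, 0; 0, o, 0, 1, 0, 1; o2, 0, 1, 0, 1, o; 0, 0, 0, 1, 0, 0; o, 0, 0, 0, o, 1; 0, o, 0, o2, 0, o],
    startX := true, steps := [(some 1, !![0, 1, 0, o, 1, 0; 1, o, 1, 1, 0, 1; o2, 0, o2, 0, 1, o; 1, 1, 0, o2, 1, 0; o, 0, 1, 0, o, 1; 0, o, 1, o2, 1, 0]),
      (some 8, !![o2, 1, 0, o, 1, 0; o2, o, o2, 1, 0, 1; o2, 0, 0, 0, 1, o; 1, o2, 0, 0, o2, 0; o, 0, o2, 0, o, 1; 0, o, 1, o2, o2, o2]),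
      (none, !![1, 0, 0, 0, 0, 0; 0, 1, 0, 0, 0, 0; 0, 0, 1, 0, 0, 0; o2, 0, 0, 1, 0, 0; 0, 0, 0, 0, 1, 0; 0, 0, o2, 0, 0, 1])], root := 1, par := o2 }]

/-- Part 2 of the chains. -/
def g2Certs2 : List (Cert 6) := [
  { ts := [0, 0, o, 0, o], c := o2, xm := !![0, o, 0, o2, o, 0; 0, 0, 0, o, 0, o; 1, 0, 1, 0, o, o2; 0, 0, 0, 1, 0, 0; o2, 0, 0, 0, 0, o; 0, o2, 0, 1, 0, 0],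
    startX := true, steps := [(some 8, !![1, o, 0, o2, o, 0; o2, 0, o2, o, 0, o; 1, 0, 0, 0, o, o2; 0, o2, 0, 0, o2, 0; o2, 0, o2, 0, 0, o; 0, o2, 0, 1, o2, 1]),
      (none, !![1, 0, 0, 0, 0, 0; 0, 1, 0, 0, 0, 0; 0, 0, 1, 0, 0, 0; o, 0, 0, 1, 0, 0; 0, 0, 0, 0, 1, 0; 0, 0, o, 0, 0, 1])], root := 1, par := o },
  { ts := [0, 0, o, o, 0], c := 1, xm := !![1, o2, 0, 1, 0, 0; 0, 1, 0, 0, 0, 0; o, o, 1, 0, 0, 1; 0, 0, 0, 1, 0, 0; 1, 0, 0, o, 1, o2; 0, 1, 0, o, 0, 1],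
    startX := true, steps := [(some 1, !![0, o2, 0, 1, 0, 0; 0, 1, 0, 0, 0, 0; o, o, 0, 0, 0, 1; 1, o2, 0, 0, 0, 0; o2, 0, o2, o, 1, o2; 0, o2, 1, o, 0, 0]),
      (some 4, !![o2, o2, 1, 1, 0, 0; o, o, 1, 1, 0, 0; 0, o, 0, 0, 1, 1; o, 1, 0, 0, 1, 1; o2, 0, 1, o, o, o2; 0, o2, o, 0, o, o2]),
      (some 11, !![0, o2, 0, o2, o, 0; o, 1, o2, 1, 0, o; 0, o, 0, 0, 1, o2; o, 1, 0, 0, o2, 0; o2, 0, 1, o, 1, o2; 0, o2, o, 0, o, 0]),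
      (none, !![1, 1, o, o2, 1, 0; o2, o2, o2, 0, 0, 1; o, 1, o2, 0, 0, o2; 1, 0, 0, o2, o2, o; o2, 0, 0, 1, o2, 1; 0, o2, 1, o, o2, 1]),
      (some 2, !![1, o, o2, o2, 1, 0; o, o2, o2, 0, 0, 1; 1, 1, o2, 0, 0, o2; 1, 0, 0, o2, o2, o2; o2, 0, 0, 1, o2, o; 0, o2, 1, 1, o, 1]),
      (some 6, !![1, o, 1, o2, o, 0; o2, o, o, 0, 0, o; 1, 1, o, 0, 0, o2; o, 0, 0, o, o, 1; o2, 0, 0, 1, o, o; 0, o2, o, 1, o2, 1]),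
      (none, !![1, 0, 0, 0, 0, 0; 0, 1, o, 0, 0, 0; 0, 0, 1, 0, 0, 0; 0, 0, 0, 1, o, 0; 0, 0, 0, 0, 1, 0; 0, 0, 0, 0, 0, 1])], root := 6, par := o },
  { ts := [0, 0, o, o, 0], c := o, xm := !![1, 1, 0, o, 0, 0; 0, 1, 0, 0, 0, 0; o2, o2, 1, 0, 0, o; 0, 0, 0, 1, 0, 0; o, 0, 0, o2, 1, 1; 0, o, 0, o2, 0, 1],
    startX := true, steps := [(some 0, !![1, 1, 0, o, 0, 0; 0, 1, 0, 0, 0, 0; o2, 1, 1, 0, 0, o; 0, 0, 0, 1, 0, 0; o, 0, 0, 1, 1, 1; 0, o, 0, o2, 0, 1]),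
      (some 8, !![o, 0, o2, o, 0, 0; o, 1, o, 1, 0, 0; o2, 1, o, 0, 1, o; 0, o, 0, o, o, o2; o, 0, o, 1, 1, 0; 0, o, 0, o2, o, o]),
      (some 2, !![o, o, o2, o, 0, 0; o, 0, o, 1, 0, 0; 1, 1, o2, 0, 1, o; 1, 0, 0, o2, o, o2; o2, 0, 0, 1, 0, o; 0, o2, 1, 1, o, o]),
      (some 11, !![1, o, o2, o2, 1, 0; o, o2, o2, 0, 0, 1; 1, 1, o2, 0, 0, o2; 1, 0, 0, o2, o2, o2; o2, 0, 0, 1, o2, o; 0, o2, 1, 1, o, 1]),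
      (none, !![1, 0, 0, 0, 0, 0; 0, 1, o2, 0, 0, 0; 0, 0, 1, 0, 0, 0; 0, 0, 0, 1, o2, 0; 0, 0, 0, 0, 1, 0; 0, 0, 0, 0, 0, 1])], root := 6, par := o2 },
  { ts := [0, 0, o, o, 0], c := o2, xm := !![1, o, 0, o2, 0, 0; 0, 1, 0, 0, 0, 0; 1, 1, 1, 0, 0, o2; 0, 0, 0, 1, 0, 0; o2, 0, 0, 1, 1, o; 0, o2, 0, 1, 0, 1],
    startX := true, steps := [(some 1, !![o, o, 0, o2, 0, 0; 0, 1, 0, 0, 0, 0; 1, 1, o, 0, 0, o2; o2, o, 0, o, 0, 0; o, 0, o, 1, 1, o; 0, o, o2, 1, 0, o]),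
      (some 10, !![1, 0, 0, 0, 0, 0; 0, 1, 0, 0, 0, 0; 1, o2, 1, 0, 0, 0; o2, o, 0, 1, 0, 0; o, 0, o, o2, 1, 0; 0, o, o2, 1, 0, 1]),
      (none, !![o2, o, 0, 1, 0, 0; 0, 1, 0, 0, 0, 0; o2, o, o2, 0, 0, 1; o2, o2, 0, o2, 0, 0; o, 0, o2, o, 1, o; 0, o, o2, o2, 0, o2]),
      (some 2, !![o2, o2, 0, 1, 0, 0; 0, 1, 0, 0, 0, 0; o, o, o2, 0, 0, 1; o2, 1, 0, o2, 0, 0; o, 0, 1, o, 1, o2; 0, o, o2, o, 0, o2]),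
      (none, !![1, 0, 0, 0, 0, 0; 0, 1, 0, 0, 0, 0; 0, 0, 1, 0, 0, 0; o2, 0, 0, 1, 0, 0; 0, 0, 0, 0, 1, 0; 0, 0, o2, 0, 0, 1])], root := 1, par := o2 },
  { ts := [0, 0, o, o, o], c := 1, xm := !![o2, o2, 0, o, o2, 0; 0, o2, 0, o2, 0, o2; o, o, 1, 0, o2, o; 0, 0, 0, 1, 0, 0; 1, 0, 0, o, o2, o2; 0, 1, 0, o, 0, o2],
    startX := true, steps := [(some 0, !![0, o2, 0, o, o2, 0; 0, 0, 0, o2, 0, o2; 1, 0, 1, 0, o2, o; 0, 0, 0, 1, 0, 0; o, 0, 0, 0, 0, o2; 0, o, 0, 1, 0, 0]),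
      (some 5, !![0, o2, 0, 1, o2, 0; 0, 0, 0, o2, 0, o2; 1, 1, 1, 0, o2, 1; 0, 0, 0, 1, 0, 0; o, 0, 0, 1, 0, o2; 0, o, 0, 1, 0, 0]),
      (none, !![1, o, 0, 0, o, 0; 0, 1, 0, o, 0, o; 0, o, 1, 0, o, 0; 0, 0, 0, 1, 0, 0; 0, 0, 0, o, 1, o; 0, 0, 0, 0, 0, 1]),
      (some 3, !![1, 0, 0, 0, o, 0; 0, 1, 0, 0, 0, o; 0, 0, 1, 0, 0, 0; 0, 0, 0, 1, 0, 0; 0, 0, 0, 0, 1, 0; 0, 0, 0, 0, 0, 1])], root := 11, par := o },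
  { ts := [0, 0, o, o, o], c := o, xm := !![o, 1, 0, o2, 1, 0; 0, o, 0, 1, 0, 1; o2, o2, 1, 0, 1, o2; 0, 0, 0, 1, 0, 0; o, 0, 0, o2, o, 1; 0, o, 0, o2, 0, o],
    startX := true, steps := [(some 1, !![1, 1, 0, o2, 1, 0; 1, o, 1, 1, 0, 1; o2, o2, o, 0, 1, o2; 0, 1, 0, o, 1, 0; 1, 0, 1, o2, o, 1; 0, 1, 0, o2, 1, 1]),
      (some 8, !![o, o, 0, o2, o, 0; 0, o, 0, o, 0, o; o2, o2, 1, 0, o, o2; 0, 0, 0, 1, 0, 0; 1, 0, 0, o2, o, o; 0, 1, 0, o2, 0, o]),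
      (some 5, !![o, o, 0, 1, o, 0; 0, o, 0, o, 0, o; o2, 0, 1, 0, o, 1; 0, 0, 0, 1, 0, 0; 1, 0, 0, 0, o, o; 0, 1, 0, o2, 0, o]),
      (none, !![1, 0, 0, 0, 0, 0; 0, 1, 0, 0, 0, 0; 0, 0, 1, 0, 0, 0; 0, 0, 0, 1, 0, 0; o, 0, 0, 0, 1, 0; 0, o, 0, 0, 0, 1])], root := 0, par := o },
  { ts := [0, 0, o, o, o], c := o2, xm := !![0, o, 0, 1, o, 0; 0, 0, 0, o, 0, o; 1, 1, 1, 0, o, 1; 0, 0, 0, 1, 0, 0; o2, 0, 0, 1, 0, o; 0, o2, 0, 1, 0, 0],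
    startX := true, steps := [(some 8, !![1, o2, 0, 1, o2, 0; o2, 0, o2, o2, 0, o2; 1, 1, 0, 0, o2, 1; 0, o2, 0, 0, o2, 0; o2, 0, o2, 1, 0, o2; 0, o2, 0, 1, o2, 1]),
      (some 5, !![1, o2, 0, o, o2, 0; o2, o2, o2, o2, 0, o2; o, o, o2, 0, o2, o; 0, o2, 0, o2, o2, 0; o2, 0, o2, o, o2, o2; 0, o2, 0, o, o2, 1]),
      (none, !![1, 0, 0, 0, 0, 0; 0, 1, 0, 0, 0, 0; 0, 0, 1, 0, 0, 0; o, 0, 0, 1, 0, 0; 0, 0, 0, 0, 1, 0; 0, 0, o, 0, 0, 1])], root := 1, par := o },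
  { ts := [0, o, 0, 0, 0], c := 1, xm := !![1, 0, 0, 0, 0, 0; o2, 1, 1, 0, 0, 0; 0, 0, 1, 0, 0, 0; 0, o, 0, 1, 1, 0; 1, 0, o, 0, 1, 0; 0, 1, 0, 0, o2, 1],
    startX := true, steps := [(some 7, !![o, o2, 1, 1, 0, 0; o2, o, 1, 1, 0, 0; 0, o, 1, 0, 1, 1; 0, o, 0, 1, 1, 1; 1, 0, o, o, o, o2; 0, 1, 0, 0, o2, o]),
      (some 10, !![o, 1, 1, o, 1, 0; o2, o, 1, o, 0, 1; 0, o2, 1, 0, o, o; 0, o, 0, 1, 1, 1; 1, 0, o, o2, o, 1; 0, 1, 0, 0, o2, o]),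
      (none, !![0, o, o, o, o2, 0; o, 0, o2, o2, 0, o2; 0, 1, 1, 0, o2, o; 0, 1, 0, 1, o2, o; o2, 0, 1, 1, 0, o; 0, o2, 0, 0, o, 0]),
      (some 7, !![o, 0, 1, 0, o2, 0; o, o, o2, 0, 0, o2; 0, 0, 1, 0, 0, 0; 0, 1, 0, 1, o2, 1; o2, 0, 1, 0, o, 0; 0, o2, 0, 0, o, o]),
      (none, !![1, 0, 0, 0, o2, 0; 0, 1, 0, 0, 0, o2; 0, 0, 1, 0, 0, 0; 0, 0, 0, 1, 0, 0; 0, 0, 0, 0, 1, 0; 0, 0, 0, 0, 0, 1])], root := 11, par := o2 }]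

/-- Part 3 of the chains. -/
def g2Certs3 : List (Cert 6) := [
  { ts := [0, o, 0, 0, 0], c := o, xm := !![1, 0, 0, 0, 0, 0; 1, 1, o, 0, 0, 0; 0, 0, 1, 0, 0, 0; 0, o2, 0, 1, o, 0; o, 0, o2, 0, 1, 0; 0, o, 0, 0, 1, 1],
    startX := true, steps := [(some 5, !![1, 0, 0, 0, 0, 0; 1, o2, o, 0, 0, 0; 1, o, o2, 0, 0, 0; 0, o2, 0, o2, o, 0; o, 0, o2, o, o2, 0; 0, o, 0, 1, 1, 1]),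
      (some 9, !![1, o, 0, o2, 1, 0; 1, 0, o, o2, 0, 1; o2, o, 0, 0, o2, o2; 0, o2, 0, 0, o, 0; o, 0, o2, o, 0, o; 0, o, 0, o2, 1, 1]),
      (none, !![1, 0, 0, o2, 0, 0; 0, 1, 0, 0, 0, 0; 0, o2, 1, 0, 0, o2; 0, 0, 0, 1, 0, 0; 0, 0, 0, o2, 1, 0; 0, 0, 0, 0, 0, 1]),
      (some 0, !![1, 0, 0, o2, 0, 0; 0, 1, 0, 0, 0, 0; 0, 0, 1, 0, 0, o2; 0, 0, 0, 1, 0, 0; 0, 0, 0, 0, 1, 0; 0, 0, 0, 0, 0, 1])], root := 10, par := o2 },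
  { ts := [0, o, 0, 0, 0], c := o2, xm := !![1, 0, 0, 0, 0, 0; o, 1, o2, 0, 0, 0; 0, 0, 1, 0, 0, 0; 0, 1, 0, 1, o2, 0; o2, 0, 1, 0, 1, 0; 0, o2, 0, 0, o, 1],
    startX := true, steps := [(some 7, !![o2, o, o2, o2, 0, 0; o, o2, o2, o2, 0, 0; 0, 1, 1, 0, o2, o2; 0, 1, 0, 1, o2, o2; o2, 0, 1, 1, o2, o; 0, o2, 0, 0, o, o2]),
      (some 11, !![0, o, o, o, o2, 0; o, 0, o2, o2, 0, o2; 0, 1, 1, 0, o2, o; 0, 1, 0, 1, o2, o; o2, 0, 1, 1, 0, o; 0, o2, 0, 0, o, 0]),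
      (none, !![1, 0, 0, o, o, 0; 0, 1, 0, 0, 0, o; 0, 0, 1, 0, 0, o; 0, 0, 0, 1, 0, 0; 0, 0, 0, 0, 1, 0; 0, 0, 0, 0, 0, 1]),
      (some 5, !![1, 0, 0, 0, o, 0; 0, 1, 0, 0, 0, o; 0, 0, 1, 0, 0, 0; 0, 0, 0, 1, 0, 0; 0, 0, 0, 0, 1, 0; 0, 0, 0, 0, 0, 1])], root := 11, par := o },
  { ts := [0, o, 0, 0, o], c := 1, xm := !![o2, 0, o2, 0, o2, 0; o2, o2, 1, 0, 0, o2; 0, 0, 1, 0, 0, 0; 0, o, 0, 1, 1, o2; 1, 0, o, 0, o2, 0; 0, 1, 0, 0, o2, o2],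
    startX := true, steps := [(some 0, !![0, 0, o2, 0, o2, 0; o2, 0, 1, 0, 0, o2; 0, 0, 1, 0, 0, 0; 1, 1, 0, 1, 1, o2; o, 0, 1, 0, 0, 0; 0, o, 1, 0, o2, 0]),
      (some 1, !![0, 0, o2, 0, o2, 0; o2, 0, o, 0, 0, o2; 0, 0, 1, 0, 0, 0; 0, 1, 0, 1, o, o2; o, 0, 1, 0, 0, 0; 0, o, 0, 0, o2, 0]),
      (some 8, !![0, 0, o, 0, o2, 0; 1, 0, o, 0, 0, o2; 0, 0, 1, 0, 0, 0; 0, o2, 0, 1, o, o; o, 0, o2, 0, 0, 0; 0, o, 0, 0, 1, 0]),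
      (none, !![1, 0, 0, 0, o, 0; 0, 1, 0, 0, 0, o; 0, 0, 1, 0, 0, 0; 0, 0, 0, 1, 0, 0; 0, 0, 0, 0, 1, 0; 0, 0, 0, 0, 0, 1])], root := 11, par := o },
  { ts := [0, o, 0, 0, o], c := o, xm := !![o, 0, 1, 0, 1, 0; 1, o, o, 0, 0, 1; 0, 0, 1, 0, 0, 0; 0, o2, 0, 1, o, 1; o, 0, o2, 0, o, 0; 0, o, 0, 0, 1, o],
    startX := true, steps := [(some 5, !![o, 1, 1, 1, 1, 0; 1, 0, o, 0, 0, 1; 1, 1, o2, 0, 0, 1; 0, o2, 0, o2, o, 1; o, 0, o2, 1, 0, 1; 0, o, 0, 1, 1, o]),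
      (some 9, !![o, o2, 1, o2, 1, 0; 1, o2, o, 0, 0, 1; o2, 1, 0, 0, 0, o2; 0, o2, 0, 0, o, 1; o, 0, o2, 1, o2, o2; 0, o, 0, o2, 1, o]),
      (none, !![1, 0, 0, 0, 0, 0; 0, 1, 0, 0, 0, 0; 0, o2, 1, 0, 0, 0; 0, 0, 0, 1, 0, 0; 0, 0, 0, o2, 1, 0; 0, 0, 0, 0, 0, 1])], root := 5, par := o2 },
  { ts := [0, o, 0, 0, o], c := o2, xm := !![0, 0, o, 0, o, 0; o, 0, o2, 0, 0, o; 0, 0, 1, 0, 0, 0; 0, 1, 0, 1, o2, o; o2, 0, 1, 0, 0, 0; 0, o2, 0, 0, o, 0],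
    startX := true, steps := [(some 9, !![0, o2, o, o2, o, 0; o, 1, o2, 0, 0, o; o2, 0, 0, 0, 0, o2; 0, 1, 0, 0, o2, o; o2, 0, 1, 0, 1, o2; 0, o2, 0, o2, o, 0]),
      (none, !![1, 0, 0, 0, 0, 0; 0, 1, 0, 0, 0, 0; 0, o, 1, 0, 0, 0; 0, 0, 0, 1, 0, 0; 0, 0, 0, o, 1, 0; 0, 0, 0, 0, 0, 1])], root := 5, par := o },
  { ts := [0, o, 0, o, 0], c := 1, xm := !![1, o2, 0, 0, o, 0; o2, 1, 1, 1, 0, o; 0, o, 1, 0, 1, 0; 0, o, 0, 1, 1, 0; 1, 0, o, o, 1, o2; 0, 1, 0, 0, o2, 1],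
    startX := true, steps := [(some 0, !![o2, o2, 0, 0, o, 0; o2, o2, 1, 1, 0, o; 1, o, 1, 0, 1, 0; 1, o, 0, 1, 1, 0; o2, 0, o, o, o2, o2; 0, o2, 1, 1, o2, o2]),
      (some 4, !![0, o2, 0, 0, o, 0; 0, 0, 0, 1, 0, o; o2, o, 1, 0, 1, 0; 0, 0, 0, 1, 0, 0; o2, 0, 0, o, 0, o2; 0, o2, 0, o2, 0, 0]),
      (none, !![1, 0, 0, 0, 0, 0; 0, 1, 0, 0, 0, 0; 0, 0, 1, 0, 0, 0; o2, 0, 0, 1, 0, 0; o2, 0, 0, 0, 1, 0; 0, o2, o2, 0, 0, 1]),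
      (some 5, !![1, 0, 0, 0, 0, 0; 0, 1, 0, 0, 0, 0; 0, 0, 1, 0, 0, 0; o2, 0, 0, 1, 0, 0; 0, 0, 0, 0, 1, 0; 0, 0, o2, 0, 0, 1])], root := 1, par := o2 },
  { ts := [0, o, 0, o, 0], c := o, xm := !![1, 1, 0, 0, o2, 0; 1, 1, o, o, 0, o2; 0, o2, 1, 0, o, 0; 0, o2, 0, 1, o, 0; o, 0, o2, o2, 1, 1; 0, o, 0, 0, 1, 1],
    startX := true, steps := [(some 1, !![1, 1, 0, 0, o2, 0; o2, 1, 1, o, 0, o2; 0, o2, 1, 0, o, 0; 0, o, 0, 1, 1, 0; 1, 0, o, o2, 1, 1; 0, 1, 0, 0, o2, 1]),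
      (some 4, !![0, 1, 0, 0, o2, 0; o, 0, o2, o, 0, o2; o2, o2, 1, 0, o, 0; 1, 1, 0, 1, o2, 0; 1, 0, 1, o2, 0, 1; 0, 1, 1, o2, o, 0]),
      (none, !![1, 0, 0, 0, 0, 0; 0, 1, 0, 0, 0, 0; 0, 0, 1, 0, 0, 0; o, 0, 0, 1, 0, 0; o, 0, 0, 0, 1, 0; 0, o, o, 0, 0, 1]),
      (some 5, !![1, 0, 0, 0, 0, 0; 0, 1, 0, 0, 0, 0; 0, 0, 1, 0, 0, 0; o, 0, 0, 1, 0, 0; 0, 0, 0, 0, 1, 0; 0, 0, o, 0, 0, 1])], root := 1, par := o },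
  { ts := [0, o, 0, o, 0], c := o2, xm := !![1, o, 0, 0, 1, 0; o, 1, o2, o2, 0, 1; 0, 1, 1, 0, o2, 0; 0, 1, 0, 1, o2, 0; o2, 0, 1, 1, 1, o; 0, o2, 0, 0, o, 1],
    startX := true, steps := [(some 1, !![1, o, 0, 0, 1, 0; 1, 1, o, o2, 0, 1; 0, 1, 1, 0, o2, 0; 0, o2, 0, 1, o, 0; o, 0, o2, 1, 1, o; 0, o, 0, 0, 1, 1]),
      (some 10, !![1, 1, 0, 0, o2, 0; 1, 1, o, o, 0, o2; 0, o2, 1, 0, o, 0; 0, o2, 0, 1, o, 0; o, 0, o2, o2, 1, 1; 0, o, 0, 0, 1, 1]),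
      (some 0, !![o, 1, 0, 0, o2, 0; 1, o, o, o, 0, o2; o, o2, 1, 0, o, 0; o, o2, 0, 1, o, 0; 1, 0, o2, o2, o, 1; 0, 1, o, o, 1, o]),
      (none, !![1, 0, 0, 0, 0, 0; 0, 1, 0, 0, 0, 0; 0, 0, 1, 0, 0, 0; 0, 0, 0, 1, 0, 0; o2, 0, 0, 0, 1, 0; 0, o2, 0, 0, 0, 1])], root := 0, par := o2 }]

/-- Part 4 of the chains. -/
def g2Certs4 : List (Cert 6) := [
  { ts := [0, o, 0, o, o], c := 1, xm := !![o2, o2, o2, o2, 1, 0; o2, o2, 1, 1, 0, 1; 0, o, 1, 0, 1, o2; 0, o, 0, 1, 1, o2; 1, 0, o, o, o2, o2; 0, 1, 0, 0, o2, o2],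
    startX := true, steps := [(some 9, !![o2, o, o2, 1, 1, 0; o2, 1, 1, 1, 0, 1; 1, o, o2, 0, 1, 1; 0, o, 0, o2, 1, o2; 1, 0, o, o, 1, o; 0, 1, 0, 1, o2, o2]),
      (none, !![o, o, 1, 0, o, 0; 1, o2, o, o, 0, o; o2, o, 0, 0, o, 0; 0, o2, 0, 0, o, 1; o, 0, o2, o, o2, o; 0, o, 0, o2, 1, o]),
      (some 9, !![o, 0, 1, o2, o, 0; 1, 0, o, o, 0, o; 1, o, o2, 0, o, o2; 0, o2, 0, o2, o, 1; o, 0, o2, o, 0, 0; 0, o, 0, 1, 1, o]),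
      (none, !![1, 0, 0, 0, 0, 0; 0, 1, 0, 0, 0, 0; 0, o, 1, 0, 0, 0; 0, 0, 0, 1, 0, 0; 0, 0, 0, o, 1, 0; 0, 0, 0, 0, 0, 1])], root := 5, par := o },
  { ts := [0, o, 0, o, o], c := o, xm := !![o, 1, 1, 1, o, 0; 1, o, o, o, 0, o; 0, o2, 1, 0, o, 1; 0, o2, 0, 1, o, 1; o, 0, o2, o2, o, 1; 0, o, 0, 0, 1, o],
    startX := true, steps := [(some 5, !![o, 0, 1, o2, o, 0; 1, 0, o, o, 0, o; 1, o, o2, 0, o, o2; 0, o2, 0, o2, o, 1; o, 0, o2, o, 0, 0; 0, o, 0, 1, 1, o]),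
      (some 9, !![o, o, 1, 0, o, 0; 1, o2, o, o, 0, o; o2, o, 0, 0, o, 0; 0, o2, 0, 0, o, 1; o, 0, o2, o, o2, o; 0, o, 0, o2, 1, o]),
      (none, !![1, 0, 0, 0, 0, 0; 0, 1, 0, 0, 0, 0; 0, o2, 1, 0, 0, 0; 0, 0, 0, 1, 0, 0; 0, 0, 0, o2, 1, 0; 0, 0, 0, 0, 0, 1])], root := 5, par := o2 },
  { ts := [0, o, 0, o, o], c := o2, xm := !![0, o, o, o, o2, 0; o, 0, o2, o2, 0, o2; 0, 1, 1, 0, o2, o; 0, 1, 0, 1, o2, o; o2, 0, 1, 1, 0, o; 0, o2, 0, 0, o, 0],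
    startX := true, steps := [(some 9, !![0, 1, o, o2, o2, 0; o, 1, o2, o2, 0, o2; o2, 1, 0, 0, o2, o2; 0, 1, 0, 0, o2, o; o2, 0, 1, 1, 1, 1; 0, o2, 0, o2, o, 0]),
      (none, !![1, 0, 0, 0, 0, 0; 0, 1, 0, 0, 0, 0; 0, o, 1, 0, 0, 0; 0, 0, 0, 1, 0, 0; 0, 0, 0, o, 1, 0; 0, 0, 0, 0, 0, 1])], root := 5, par := o },
  { ts := [0, o, o, 0, 0], c := 1, xm := !![o, o2, 1, 1, o, 0; o2, 1, 1, 0, 0, o; o, 0, o, 0, 0, 1; 0, o, 0, o, 1, 1; 1, 0, o, 0, 1, o2; 0, 1, 0, o, o2, o],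
    startX := true, steps := [(some 4, !![1, o2, 0, 1, o, 0; o2, o, 1, 1, 0, o; o, 0, o, 0, 1, 1; 0, o, 0, o, 1, 0; 1, 0, o, 0, o, o2; 0, 1, 0, o, o2, 1]),
      (none, !![o, o, 1, o2, 0, 0; o, 0, o2, o, 0, 0; 1, 0, o2, 0, o, o2; 0, 1, 0, o2, o2, 1; o2, 0, 1, 0, 0, o; 0, o2, 0, 1, o, o]),
      (some 4, !![0, o, o, o2, 0, 0; o, o, o2, 1, 0, 0; 1, 0, o2, 0, 1, o2; 0, 1, 0, o2, o2, o; o2, 0, 1, 0, o, o; 0, o2, 0, 1, o, 0]),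
      (none, !![1, 0, 0, 0, o2, 0; 0, 1, 0, 0, 0, o2; 0, 0, 1, 0, 0, 0; 0, 0, 0, 1, 0, 0; 0, 0, 0, 0, 1, 0; 0, 0, 0, 0, 0, 1])], root := 11, par := o2 },
  { ts := [0, o, o, 0, 0], c := o, xm := !![0, 1, o, o, o2, 0; 1, 1, o, 0, 0, o2; o2, 0, 0, 0, 0, o; 0, o2, 0, 0, o, o; o, 0, o2, 0, 1, 1; 0, o, 0, o2, 1, 0],
    startX := true, steps := [(some 4, !![1, 1, 0, o, o2, 0; 1, 0, o, o, 0, o2; o2, 0, 0, 0, o, o; 0, o2, 0, 0, o, 0; o, 0, o2, 0, 0, 1; 0, o, 0, o2, 1, 1]),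
      (none, !![1, 0, 0, 0, o2, 0; 0, 1, 0, 0, 0, o2; 0, 0, 1, 0, 0, 0; 0, 0, 0, 1, 0, 0; 0, 0, 0, 0, 1, 0; 0, 0, 0, 0, 0, 1])], root := 11, par := o2 },
  { ts := [0, o, o, 0, 0], c := o2, xm := !![o2, o, o2, o2, 1, 0; o, 1, o2, 0, 0, 1; 1, 0, o2, 0, 0, o2; 0, 1, 0, o2, o2, o2; o2, 0, 1, 0, 1, o; 0, o2, 0, 1, o, o2],
    startX := true, steps := [(some 4, !![1, o, 0, o2, 1, 0; o, o2, o2, o2, 0, 1; 1, 0, o2, 0, o2, o2; 0, 1, 0, o2, o2, 0; o2, 0, 1, 0, o2, o; 0, o2, 0, 1, o, 1]),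
      (some 11, !![o, o, 1, o2, 0, 0; o, 0, o2, o, 0, 0; 1, 0, o2, 0, o, o2; 0, 1, 0, o2, o2, 1; o2, 0, 1, 0, 0, o; 0, o2, 0, 1, o, o]),
      (none, !![1, 0, 0, 0, o, 0; 0, 1, 0, 0, 0, o; 0, 0, 1, 0, 0, 0; 0, 0, 0, 1, 0, 0; 0, 0, 0, 0, 1, 0; 0, 0, 0, 0, 0, 1])], root := 11, par := o },
  { ts := [0, o, o, 0, o], c := 1, xm := !![0, o2, o, 1, 0, 0; o2, o2, 1, o2, 0, 0; o, 0, o, 0, o2, 1; 0, o, 0, o, 1, o; 1, 0, o, 0, o2, o2; 0, 1, 0, o, o2, 0],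
    startX := true, steps := [(some 3, !![o, o2, o, 1, 0, 0; o, o2, 1, o2, 0, 0; o, 0, 0, 0, o2, 1; 0, o2, 0, 0, 1, o; 1, 0, o2, 0, o2, o2; 0, 1, 0, o, o, o]),
      (none, !![o, 1, o2, o, 0, 0; o, o, o, 1, 0, 0; o2, 0, 1, 0, 1, o; 1, 0, 0, 1, o, o2; o, 0, 0, 0, o, 1; 0, o, 1, o2, o, o]),
      (some 3, !![1, 1, o2, o, 0, 0; 0, o, o, 1, 0, 0; o2, 0, o, 0, 1, o; 1, o, 0, o, o, o2; o, 0, o, 0, o, 1; 0, o, 1, o2, 0, 1]),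
      (none, !![1, 0, 0, 0, 0, 0; 0, 1, 0, 0, 0, 0; 0, 0, 1, 0, 0, 0; o, 0, 0, 1, 0, 0; 0, 0, 0, 0, 1, 0; 0, 0, o, 0, 0, 1])], root := 1, par := o },
  { ts := [0, o, o, 0, o], c := o, xm := !![o2, 1, o2, o, 0, 0; 1, o, o, 1, 0, 0; o2, 0, 0, 0, 1, o; 0, o2, 0, 0, o, o2; o, 0, o2, 0, o, 1; 0, o, 0, o2, 1, o2],
    startX := true, steps := [(some 4, !![o, 1, 1, o, 0, 0; 1, o2, o, o2, 0, 0; o2, 0, 0, 0, o2, o; 0, o2, 0, 0, o, 1; o, 0, o2, 0, o2, 1; 0, o, 0, o2, 1, o]),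
      (none, !![1, 0, 0, 0, o2, 0; 0, 1, 0, 0, 0, o2; 0, 0, 1, 0, 0, 0; 0, 0, 0, 1, 0, 0; 0, 0, 0, 0, 1, 0; 0, 0, 0, 0, 0, 1])], root := 11, par := o2 }]

/-- Part 5 of the chains. -/
def g2Certs5 : List (Cert 6) := [
  { ts := [0, o, o, 0, o], c := o2, xm := !![o, o, 1, o2, 0, 0; o, 0, o2, o, 0, 0; 1, 0, o2, 0, o, o2; 0, 1, 0, o2, o2, 1; o2, 0, 1, 0, 0, o; 0, o2, 0, 1, o, o],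
    startX := true, steps := [(some 3, !![o2, o, 1, o2, 0, 0; 1, 0, o2, o, 0, 0; 1, 0, o, 0, o, o2; 0, o, 0, o, o2, 1; o2, 0, o, 0, 0, o; 0, o2, 0, 1, 1, o2]),
      (none, !![1, 0, 0, 0, 0, 0; 0, 1, 0, 0, 0, 0; 0, 0, 1, 0, 0, 0; o, 0, 0, 1, 0, 0; 0, 0, 0, 0, 1, 0; 0, 0, o, 0, 0, 1])], root := 1, par := o },
  { ts := [0, o, o, o, 0], c := 1, xm := !![o, 0, 1, 1, 0, 0; o2, 1, 1, 1, 0, 0; o, o, o, 0, 1, 1; 0, o, 0, o, 1, 1; 1, 0, o, o, 1, 0; 0, 1, 0, o, o2, o],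
    startX := true, steps := [(some 7, !![1, 0, 0, 0, 0, 0; o2, o, 1, 0, 0, 0; o, o, o, 0, 0, 0; 0, o, 0, o, 1, 0; 1, 0, o, o, o, 0; 0, 1, 0, o, o2, 1]),
      (none, !![o, 0, 1, 1, 1, 0; o, 0, o2, 1, 0, 1; 1, 1, o2, 0, 1, 1; 0, 1, 0, o2, o2, 1; o2, 0, 1, 1, 0, 0; 0, o2, 0, 1, o, o]),
      (some 7, !![0, 0, o, o, 1, 0; o, o, o2, o, 0, 1; 1, 1, o2, 0, o, o; 0, 1, 0, o2, o2, o; o2, 0, 1, 1, o, 0; 0, o2, 0, 1, o, 0]),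
      (none, !![1, 0, 0, 0, o2, 0; 0, 1, 0, 0, 0, o2; 0, 0, 1, 0, 0, 0; 0, 0, 0, 1, 0, 0; 0, 0, 0, 0, 1, 0; 0, 0, 0, 0, 0, 1])], root := 11, par := o2 },
  { ts := [0, o, o, o, 0], c := o, xm := !![0, 0, o, o, 0, 0; 1, 1, o, o, 0, 0; o2, o2, 0, 0, o, o; 0, o2, 0, 0, o, o; o, 0, o2, o2, 1, 0; 0, o, 0, o2, 1, 0],
    startX := true, steps := [(some 7, !![1, 0, 0, 0, 0, 0; 1, 0, o, 0, 0, 0; o2, o2, 0, 0, 0, 0; 0, o2, 0, 0, o, 0; o, 0, o2, o2, 0, 0; 0, o, 0, o2, 1, 1]),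
      (none, !![1, 0, 0, 0, o2, 0; 0, 1, 0, 0, 0, o2; 0, 0, 1, 0, 0, 0; 0, 0, 0, 1, 0, 0; 0, 0, 0, 0, 1, 0; 0, 0, 0, 0, 0, 1])], root := 11, par := o2 },
  { ts := [0, o, o, o, 0], c := o2, xm := !![o2, 0, o2, o2, 0, 0; o, 1, o2, o2, 0, 0; 1, 1, o2, 0, o2, o2; 0, 1, 0, o2, o2, o2; o2, 0, 1, 1, 1, 0; 0, o2, 0, 1, o, o2],
    startX := true, steps := [(some 7, !![1, 0, 0, 0, 0, 0; o, o2, o2, 0, 0, 0; 1, 1, o2, 0, 0, 0; 0, 1, 0, o2, o2, 0; o2, 0, 1, 1, o2, 0; 0, o2, 0, 1, o, 1]),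
      (some 11, !![o, 0, 1, 1, 1, 0; o, 0, o2, 1, 0, 1; 1, 1, o2, 0, 1, 1; 0, 1, 0, o2, o2, 1; o2, 0, 1, 1, 0, 0; 0, o2, 0, 1, o, o]),
      (none, !![1, 0, 0, 0, o, 0; 0, 1, 0, 0, 0, o; 0, 0, 1, 0, 0, 0; 0, 0, 0, 1, 0, 0; 0, 0, 0, 0, 1, 0; 0, 0, 0, 0, 0, 1])], root := 11, par := o },
  { ts := [0, o, o, o, o], c := 1, xm := !![0, 0, o, o, o, 0; o2, o2, 1, o, 0, o; o, o, o, 0, o, o; 0, o, 0, o, 1, o; 1, 0, o, o, o2, 0; 0, 1, 0, o, o2, 0],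
    startX := true, steps := [(some 6, !![0, 0, o, o, 0, 0; 1, 1, o, o, 0, 0; o, o, 0, 0, o, o; 1, o, 0, 0, o, o; 1, 0, o, o, 1, 0; 0, 1, 1, o, 1, 0]),
      (some 7, !![1, 0, 0, 0, 0, 0; 1, 0, o, 0, 0, 0; o2, o2, 0, 0, 0, 0; 1, o2, 0, 0, o, 0; 1, 0, o2, o2, 0, 0; 0, 1, 1, o2, 1, 1]),
      (some 1, !![1, 0, 0, 0, 0, 0; 1, 0, o, 0, 0, 0; o2, o2, 0, 0, 0, 0; 0, o2, 0, 0, o, 0; o, 0, o2, o2, 0, 0; 0, o, 0, o2, 1, 1]),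
      (none, !![1, 0, 0, 0, o, 0; 0, 1, 0, 0, 0, o; 0, 0, 1, 0, 0, 0; 0, 0, 0, 1, 0, 0; 0, 0, 0, 0, 1, 0; 0, 0, 0, 0, 0, 1])], root := 11, par := o },
  { ts := [0, o, o, o, o], c := o, xm := !![o2, 0, o2, o2, o2, 0; 1, o, o, o2, 0, o2; o2, o2, 0, 0, o2, o2; 0, o2, 0, 0, o, o2; o, 0, o2, o2, o, 0; 0, o, 0, o2, 1, o2],
    startX := true, steps := [(some 7, !![o, 0, 1, 1, o2, 0; 1, o2, o, 1, 0, o2; o2, o2, 0, 0, 1, 1; 0, o2, 0, 0, o, 1; o, 0, o2, o2, o2, 0; 0, o, 0, o2, 1, o]),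
      (none, !![1, 0, 0, 0, o2, 0; 0, 1, 0, 0, 0, o2; 0, 0, 1, 0, 0, 0; 0, 0, 0, 1, 0, 0; 0, 0, 0, 0, 1, 0; 0, 0, 0, 0, 0, 1])], root := 11, par := o2 },
  { ts := [0, o, o, o, o], c := o2, xm := !![o, 0, 1, 1, 1, 0; o, 0, o2, 1, 0, 1; 1, 1, o2, 0, 1, 1; 0, 1, 0, o2, o2, 1; o2, 0, 1, 1, 0, 0; 0, o2, 0, 1, o, o],
    startX := true, steps := [(some 7, !![0, 0, o, o, 1, 0; o, o, o2, o, 0, 1; 1, 1, o2, 0, o, o; 0, 1, 0, o2, o2, o; o2, 0, 1, 1, o, 0; 0, o2, 0, 1, o, 0]),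
      (some 11, !![o2, 0, o2, o2, 0, 0; o, 1, o2, o2, 0, 0; 1, 1, o2, 0, o2, o2; 0, 1, 0, o2, o2, o2; o2, 0, 1, 1, 1, 0; 0, o2, 0, 1, o, o2]),
      (none, !![1, 0, 0, 0, o, 0; 0, 1, 0, 0, 0, o; 0, 0, 1, 0, 0, 0; 0, 0, 0, 1, 0, 0; 0, 0, 0, 0, 1, 0; 0, 0, 0, 0, 0, 1])], root := 11, par := o },
  { ts := [o, 0, 0, 0, 0], c := 1, xm := !![1, 0, 0, 0, 0, 0; 0, 1, 0, 0, 0, 0; 0, 0, 1, 0, 0, 0; o, 0, 0, 1, 0, 0; 1, 0, 0, 0, 1, 0; 0, 1, o, 0, 0, 1],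
    startX := true, steps := [(some 5, !![1, 0, 0, 0, 0, 0; 0, 1, 0, 0, 0, 0; 0, 0, 1, 0, 0, 0; o, 0, 0, 1, 0, 0; o2, 0, 0, 0, 1, 0; 0, o2, o, 0, 0, 1]),
      (some 6, !![1, 0, 0, 0, 0, 0; 0, 1, 0, 0, 0, 0; 0, 0, 1, 0, 0, 0; 1, 0, 0, 1, 0, 0; o2, 0, 0, 0, 1, 0; 0, o2, 1, 0, 0, 1]),
      (some 11, !![o, 0, 0, 0, o2, 0; 0, o, 1, 0, 0, o2; 0, 0, 1, 0, 0, 0; 1, 0, 0, 1, 1, 0; o2, 0, 0, 0, o, 0; 0, o2, 1, 0, 0, o]),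
      (none, !![1, 0, 0, 0, o2, 0; 0, 1, 0, 0, 0, o2; 0, 0, 1, 0, 0, 0; 0, 0, 0, 1, 0, 0; 0, 0, 0, 0, 1, 0; 0, 0, 0, 0, 0, 1])], root := 11, par := o2 }]

/-- Part 6 of the chains. -/
def g2Certs6 : List (Cert 6) := [
  { ts := [o, 0, 0, 0, 0], c := o, xm := !![1, 0, 0, 0, 0, 0; 0, 1, 0, 0, 0, 0; 0, 0, 1, 0, 0, 0; o2, 0, 0, 1, 0, 0; o, 0, 0, 0, 1, 0; 0, o, o2, 0, 0, 1],
    startX := true, steps := [(some 7, !![1, 0, 0, 0, 0, 0; 0, 1, 0, 0, 0, 0; o2, o2, 1, 0, 0, 0; o2, o2, 0, 1, 0, 0; o, 0, o2, o2, 1, 0; 0, o, o2, o2, 0, 1]),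
      (some 4, !![1, 0, 0, 0, 0, 0; 0, 1, 0, 0, 0, 0; 0, o2, 1, 0, 0, 0; 0, 0, 0, 1, 0, 0; o, 0, 0, o2, 1, 0; 0, o, 0, 0, 0, 1]),
      (none, !![1, 0, 0, 0, 0, 0; 0, 1, 0, 0, 0, 0; 0, o2, 1, 0, 0, 0; 0, 0, 0, 1, 0, 0; 0, 0, 0, o2, 1, 0; 0, 0, 0, 0, 0, 1])], root := 5, par := o2 },
  { ts := [o, 0, 0, 0, 0], c := o2, xm := !![1, 0, 0, 0, 0, 0; 0, 1, 0, 0, 0, 0; 0, 0, 1, 0, 0, 0; 1, 0, 0, 1, 0, 0; o2, 0, 0, 0, 1, 0; 0, o2, 1, 0, 0, 1],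
    startX := true, steps := [(some 5, !![1, 0, 0, 0, 0, 0; 0, 1, 0, 0, 0, 0; 0, 0, 1, 0, 0, 0; 1, 0, 0, 1, 0, 0; o, 0, 0, 0, 1, 0; 0, o, 1, 0, 0, 1]),
      (some 6, !![1, 0, 0, 0, 0, 0; 0, 1, 0, 0, 0, 0; 0, 0, 1, 0, 0, 0; o2, 0, 0, 1, 0, 0; o, 0, 0, 0, 1, 0; 0, o, o2, 0, 0, 1]),
      (some 10, !![o, 0, 0, o2, 0, 0; 0, 1, 0, 0, 0, 0; 0, o, o, 0, 0, o2; o2, 0, 0, o, 0, 0; o, 0, 0, o, 1, 0; 0, o, o2, 0, 0, o]),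
      (none, !![1, 0, 0, o2, 0, 0; 0, 1, 0, 0, 0, 0; 0, 0, 1, 0, 0, o2; 0, 0, 0, 1, 0, 0; 0, 0, 0, 0, 1, 0; 0, 0, 0, 0, 0, 1])], root := 10, par := o2 },
  { ts := [o, 0, 0, 0, o], c := 1, xm := !![o2, 0, 0, 0, o2, 0; 0, o2, o2, 0, 0, o2; 0, 0, 1, 0, 0, 0; o, 0, 0, 1, o2, 0; 1, 0, 0, 0, o2, 0; 0, 1, o, 0, 0, o2],
    startX := true, steps := [(some 0, !![0, 0, 0, 0, o2, 0; 0, 0, o2, 0, 0, o2; 0, 0, 1, 0, 0, 0; 1, 0, 0, 1, o2, 0; o, 0, 0, 0, 0, 0; 0, o, 1, 0, 0, 0]),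
      (some 6, !![0, 0, 0, 0, o2, 0; 0, 0, o, 0, 0, o2; 0, 0, 1, 0, 0, 0; o2, 0, 0, 1, o, 0; o, 0, 0, 0, 0, 0; 0, o, o2, 0, 0, 0]),
      (none, !![1, 0, 0, 0, o, 0; 0, 1, 0, 0, 0, o; 0, 0, 1, 0, 0, 0; 0, 0, 0, 1, 0, 0; 0, 0, 0, 0, 1, 0; 0, 0, 0, 0, 0, 1])], root := 11, par := o },
  { ts := [o, 0, 0, 0, o], c := o, xm := !![o, 0, 0, 0, 1, 0; 0, o, 1, 0, 0, 1; 0, 0, 1, 0, 0, 0; o2, 0, 0, 1, 1, 0; o, 0, 0, 0, o, 0; 0, o, o2, 0, 0, o],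
    startX := true, steps := [(some 6, !![o, 0, 0, 0, 1, 0; 0, o, o, 0, 0, 1; 0, 0, 1, 0, 0, 0; 1, 0, 0, 1, o, 0; o, 0, 0, 0, o, 0; 0, o, 1, 0, 0, o]),
      (some 5, !![o, 0, 0, 1, 1, 0; 0, 0, o, 0, 0, 1; 0, 1, o2, 0, 0, 1; 1, 0, 0, o2, o, 0; o2, 0, 0, 1, 0, 0; 0, o2, 1, 0, 0, o]),
      (none, !![1, 0, 0, o2, 0, 0; 0, 1, 0, 0, 0, 0; 0, 0, 1, 0, 0, o2; 0, 0, 0, 1, 0, 0; 0, 0, 0, 0, 1, 0; 0, 0, 0, 0, 0, 1])], root := 10, par := o2 },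
  { ts := [o, 0, 0, 0, o], c := o2, xm := !![0, 0, 0, 0, o, 0; 0, 0, o, 0, 0, o; 0, 0, 1, 0, 0, 0; 1, 0, 0, 1, o, 0; o2, 0, 0, 0, 0, 0; 0, o2, 1, 0, 0, 0],
    startX := false, steps := [(some 1, !![1, 0, 0, 0, 1, 0; 0, 1, 1, 0, 0, 1; 0, 0, 1, 0, 0, 0; 0, 0, 0, 1, 1, 0; 0, 0, 0, 0, 1, 0; 0, 0, 0, 0, 0, 1]),
      (none, !![1, 0, 0, 0, 0, 0; 0, 1, 0, 0, 0, 0; 0, 0, 1, 0, 0, 0; 0, 0, 0, 1, 0, 0; o, 0, 0, 0, 1, 0; 0, o, 0, 0, 0, 1])], root := 0, par := o },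
  { ts := [o, 0, 0, o, 0], c := 1, xm := !![1, 0, 0, 0, 0, 0; 0, o, 1, 0, 0, 0; 0, o, o, 0, 0, 0; o, 0, 0, o, 1, 0; 1, 0, 0, o, o, 0; 0, 1, o, 0, 0, 1],
    startX := true, steps := [(some 0, !![1, 0, 0, 0, 0, 0; 0, o, 1, 0, 0, 0; 0, o, o, 0, 0, 0; o2, 0, 0, o, 1, 0; o, 0, 0, o, o, 0; 0, o, o2, 0, 0, 1]),
      (some 6, !![1, 0, 0, 0, 0, 0; 0, 0, o2, 0, 0, 0; 0, o, 0, 0, 0, 0; 1, 0, 0, 0, o2, 0; o, 0, 0, o, 0, 0; 0, o, 1, 0, 0, 1]),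
      (none, !![1, 0, 0, 0, 0, 0; 0, 1, 0, 0, 0, 0; 0, o2, 1, 0, 0, 0; 0, 0, 0, 1, 0, 0; 0, 0, 0, o2, 1, 0; 0, 0, 0, 0, 0, 1])], root := 5, par := o2 },
  { ts := [o, 0, 0, o, 0], c := o, xm := !![1, 0, 0, 0, 0, 0; 0, 0, o, 0, 0, 0; 0, o2, 0, 0, 0, 0; o2, 0, 0, 0, o, 0; o, 0, 0, o2, 0, 0; 0, o, o2, 0, 0, 1],
    startX := false, steps := [(some 0, !![0, 0, 0, 0, 1, 0; 0, 0, 0, 0, 0, 1; 0, 0, 1, 0, 0, 0; 0, 0, 0, 1, 0, 0; 1, 0, 0, 0, 0, 0; 0, 1, 0, 0, 0, 0]),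
      (some 11, !![1, 0, 0, 0, 0, 0; 0, 1, 0, 0, 0, 0; 0, 0, 1, 0, 0, 0; 0, 0, 0, 1, 0, 0; 1, 0, 0, 0, 1, 0; 0, 1, 0, 0, 0, 1]),
      (none, !![1, 0, 0, 0, 0, 0; 0, 1, 0, 0, 0, 0; 0, 0, 1, 0, 0, 0; o, 0, 0, 1, 0, 0; 0, 0, 0, 0, 1, 0; 0, 0, o, 0, 0, 1])], root := 1, par := o },
  { ts := [o, 0, 0, o, 0], c := o2, xm := !![1, 0, 0, 0, 0, 0; 0, o2, o2, 0, 0, 0; 0, 1, o2, 0, 0, 0; 1, 0, 0, o2, o2, 0; o2, 0, 0, 1, o2, 0; 0, o2, 1, 0, 0, 1],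
    startX := true, steps := [(some 1, !![1, 0, 0, 0, 0, 0; 0, o2, o2, 0, 0, 0; 0, 1, o2, 0, 0, 0; o2, 0, 0, o2, o2, 0; o, 0, 0, 1, o2, 0; 0, o, o2, 0, 0, 1]),
      (some 5, !![1, 0, 0, 0, 0, 0; 0, 0, o2, 0, 0, 0; 0, o, 0, 0, 0, 0; o2, 0, 0, 0, o2, 0; 1, 0, 0, o, 0, 0; 0, 1, o2, 0, 0, 1]),
      (none, !![1, 0, 0, 0, 0, 0; 0, 1, o, 0, 0, 0; 0, 0, 1, 0, 0, 0; 0, 0, 0, 1, o, 0; 0, 0, 0, 0, 1, 0; 0, 0, 0, 0, 0, 1])], root := 6, par := o }]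

/-- Part 7 of the chains. -/
def g2Certs7 : List (Cert 6) := [
  { ts := [o, 0, 0, o, o], c := 1, xm := !![o2, 0, 0, o2, o, 0; 0, 0, o, 0, 0, o; 0, o, o, 0, 0, o2; o, 0, 0, o, o, 0; 1, 0, 0, o, 0, 0; 0, 1, o, 0, 0, o2],
    startX := false, steps := [(some 5, !![1, 0, 0, 1, 1, 0; 0, 1, 0, 0, 0, 1; 0, 0, 1, 0, 0, 1; 0, 0, 0, 1, 0, 0; 0, 0, 0, 0, 1, 0; 0, 0, 0, 0, 0, 1]),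
      (some 1, !![0, 0, 0, 1, 1, 0; 0, 1, 1, 0, 0, 1; 0, 0, 0, 0, 0, 1; 1, 0, 0, 0, 1, 0; 0, 0, 0, 0, 1, 0; 0, 0, 1, 0, 0, 0]),
      (none, !![1, 0, 0, 0, 0, 0; 0, 1, 0, 0, 0, 0; 0, o, 1, 0, 0, 0; 0, 0, 0, 1, 0, 0; 0, 0, 0, o, 1, 0; 0, 0, 0, 0, 0, 1])], root := 5, par := o },
  { ts := [o, 0, 0, o, o], c := o, xm := !![o, 0, 0, 1, o2, 0; 0, o2, o2, 0, 0, o2; 0, o2, 0, 0, 0, 1; o2, 0, 0, 0, o2, 0; o, 0, 0, o2, o2, 0; 0, o, o2, 0, 0, o],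
    startX := false, steps := [(some 0, !![0, 0, 0, 0, 1, 0; 0, 0, 0, 0, 0, 1; 0, 0, 1, 0, 0, 0; 0, 0, 0, 1, 0, 0; 1, 0, 0, 0, 0, 0; 0, 1, 0, 0, 0, 0]),
      (some 1, !![0, 0, 0, 0, 1, 0; 0, 0, 1, 0, 0, 1; 0, 0, 1, 0, 0, 0; 1, 0, 0, 1, 1, 0; 1, 0, 0, 0, 0, 0; 0, 1, 1, 0, 0, 0]),
      (none, !![1, 0, 0, 0, 0, 0; 0, 1, 0, 0, 0, 0; 0, o2, 1, 0, 0, 0; 0, 0, 0, 1, 0, 0; 0, 0, 0, o2, 1, 0; 0, 0, 0, 0, 0, 1])], root := 5, par := o2 },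
  { ts := [o, 0, 0, o, o], c := o2, xm := !![0, 0, 0, o, 1, 0; 0, o, 1, 0, 0, 1; 0, 1, o2, 0, 0, o; 1, 0, 0, o2, 1, 0; o2, 0, 0, 1, o, 0; 0, o2, 1, 0, 0, 0],
    startX := true, steps := [(some 0, !![1, 0, 0, o, 1, 0; 0, o2, 1, 0, 0, 1; 0, o2, o2, 0, 0, o; 0, 0, 0, o2, 1, 0; 0, 0, 0, o2, o2, 0; 0, 0, 0, 0, 0, 1]),
      (some 11, !![1, 0, 0, 1, o2, 0; 0, o2, 1, 0, 0, o2; 0, o2, o2, 0, 0, 1; 0, 0, 0, o2, 1, 0; 0, 0, 0, o2, o2, 0; 0, 0, 0, 0, 0, 1]),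
      (none, !![1, 0, 0, 0, 0, 0; 0, 1, 0, 0, 0, 0; 0, 0, 1, 0, 0, 0; o, 0, 0, 1, 0, 0; 0, 0, 0, 0, 1, 0; 0, 0, o, 0, 0, 1])], root := 1, par := o },
  { ts := [o, 0, o, 0, 0], c := 1, xm := !![1, o2, 1, 1, o, 0; o2, 1, 0, 0, 0, o; o, 0, 1, 0, 0, 1; o, 0, 0, 1, 0, 1; 1, 0, 0, 0, 1, o2; 0, 1, o, o, o2, 1],
    startX := true, steps := [(some 0, !![o2, o2, 1, 1, o, 0; o2, o2, 0, 0, 0, o; o, 1, 1, 0, 0, 1; o, 1, 0, 1, 0, 1; o2, 0, 1, 1, o2, o2; 0, o2, o, o, o2, o2]),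
      (some 6, !![o2, o2, o, 1, o2, 0; 1, o, o2, 0, 0, o2; o, 1, 0, 0, 0, 1; 1, 1, 0, 0, o2, o; o2, 0, 1, 1, o, o2; 0, o2, 1, o, 1, o2]),
      (some 5, !![o2, 1, o, o, o2, 0; 1, 1, o2, 0, 0, o2; o2, 0, o2, 0, 0, o; 1, 1, 0, o2, o2, o; o, 0, 1, 0, 1, 1; 0, o, 1, o2, 1, o2]),
      (none, !![1, 0, 0, 0, 0, 0; 0, 1, 0, 0, 0, 0; 0, 0, 1, 0, 0, 0; o, 0, 0, 1, 0, 0; 0, 0, 0, 0, 1, 0; 0, 0, o, 0, 0, 1])], root := 1, par := o },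
  { ts := [o, 0, o, 0, 0], c := o, xm := !![1, 1, o, o, o2, 0; 1, 1, 0, 0, 0, o2; o2, 0, 1, 0, 0, o; o2, 0, 0, 1, 0, o; o, 0, 0, 0, 1, 1; 0, o, o2, o2, 1, 1],
    startX := true, steps := [(some 1, !![o2, 1, o, o, o2, 0; 1, 1, o2, 0, 0, o2; o2, 0, o2, 0, 0, o; 1, 1, 0, o2, o2, o; o, 0, 1, 0, 1, 1; 0, o, 1, o2, 1, o2]),
      (some 8, !![0, 1, 1, o, o, 0; o2, 1, 1, 0, 0, o; o2, 0, 0, 0, 0, o; 1, o2, 0, 0, 1, 1; o, 0, o2, 0, 1, 1; 0, o, 1, o2, o2, 0]),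
      (none, !![1, 0, 0, 0, 0, 0; 0, 1, o2, 0, 0, 0; 0, 0, 1, 0, 0, 0; o2, 0, 0, 1, o2, 0; 0, 0, 0, 0, 1, 0; 0, 0, o2, 0, 0, 1]),
      (some 0, !![1, 0, 0, 0, 0, 0; 0, 1, o2, 0, 0, 0; 0, 0, 1, 0, 0, 0; 0, 0, 0, 1, o2, 0; 0, 0, 0, 0, 1, 0; 0, 0, 0, 0, 0, 1])], root := 6, par := o2 },
  { ts := [o, 0, o, 0, 0], c := o2, xm := !![1, o, o2, o2, 1, 0; o, 1, 0, 0, 0, 1; 1, 0, 1, 0, 0, o2; 1, 0, 0, 1, 0, o2; o2, 0, 0, 0, 1, o; 0, o2, 1, 1, o, 1],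
    startX := true, steps := [(some 1, !![o, o, o2, o2, 1, 0; o, 1, 1, 0, 0, 1; 1, 0, o, 0, 0, o2; o, o, 0, o, 1, o2; o2, 0, o, 0, 1, o; 0, o2, o, 1, o, o]),
      (some 5, !![o, 1, o2, o, 1, 0; o, 0, 1, 0, 0, 1; o2, o, o2, 0, 0, o; o, o, 0, o2, 1, o2; 1, 0, o, o, 0, 1; 0, 1, o, o2, o, o]),
      (some 6, !![o, 1, o, o, o2, 0; 1, o, 0, 0, 0, o2; o2, o, 1, 0, 0, o; o2, o, 0, 1, 0, o; 1, 0, o, o, o, 1; 0, 1, o2, o2, 1, o]),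
      (none, !![1, 0, 0, 0, 0, 0; 0, 1, 0, 0, 0, 0; 0, 0, 1, 0, 0, 0; 0, 0, 0, 1, 0, 0; o2, 0, 0, 0, 1, 0; 0, o2, 0, 0, 0, 1])], root := 0, par := o2 },
  { ts := [o, 0, o, 0, o], c := 1, xm := !![o2, o2, 1, 1, 1, 0; o2, o2, o2, o2, 0, 1; o, 0, 1, 0, o2, 1; o, 0, 0, 1, o2, 1; 1, 0, 0, 0, o2, o2; 0, 1, o, o, o2, o2],
    startX := true, steps := [(some 8, !![1, o2, 1, 1, 1, 0; o, o2, 1, o2, 0, 1; o, 0, o2, 0, o2, 1; o, 1, 0, o2, 1, 1; 1, 0, 1, 0, o2, o2; 0, 1, o, o, o, 1]),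
      (none, !![o2, 1, o, o, o, 0; o, o, 0, 1, 0, o; o2, 0, 0, 0, 1, o; o, o2, 0, 0, 0, o; o, 0, o2, 0, o, 1; 0, o, o, o2, o, o2]),
      (some 8, !![0, 1, o, o, o, 0; 0, o, o2, 1, 0, o; o2, 0, o2, 0, 1, o; o, 1, 0, o2, o2, o; o, 0, 1, 0, o, 1; 0, o, o, o2, 0, 0]),
      (none, !![1, 0, 0, 0, 0, 0; 0, 1, 0, 0, 0, 0; 0, 0, 1, 0, 0, 0; o, 0, 0, 1, 0, 0; 0, 0, 0, 0, 1, 0; 0, 0, o, 0, 0, 1])], root := 1, par := o },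
  { ts := [o, 0, o, 0, o], c := o, xm := !![o, 1, o, o, o, 0; 1, o, 1, 1, 0, o; o2, 0, 1, 0, 1, o; o2, 0, 0, 1, 1, o; o, 0, 0, 0, o, 1; 0, o, o2, o2, 1, o],
    startX := true, steps := [(some 1, !![0, 1, o, o, o, 0; 0, o, o2, 1, 0, o; o2, 0, o2, 0, 1, o; o, 1, 0, o2, o2, o; o, 0, 1, 0, o, 1; 0, o, o, o2, 0, 0]),
      (some 8, !![o2, 1, o, o, o, 0; o, o, 0, 1, 0, o; o2, 0, 0, 0, 1, o; o, o2, 0, 0, 0, o; o, 0, o2, 0, o, 1; 0, o, o, o2, o, o2]),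
      (none, !![1, 0, 0, 0, 0, 0; 0, 1, 0, 0, 0, 0; 0, 0, 1, 0, 0, 0; o2, 0, 0, 1, 0, 0; 0, 0, 0, 0, 1, 0; 0, 0, o2, 0, 0, 1])], root := 1, par := o2 }]

/-- Part 8 of the chains. -/
def g2Certs8 : List (Cert 6) := [
  { ts := [o, 0, o, 0, o], c := o2, xm := !![0, o, o2, o2, o2, 0; o, 0, o, o, 0, o2; 1, 0, 1, 0, o, o2; 1, 0, 0, 1, o, o2; o2, 0, 0, 0, 0, o; 0, o2, 1, 1, o, 0],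
    startX := true, steps := [(some 8, !![1, o, o2, o2, o2, 0; 1, 0, o2, o, 0, o2; 1, 0, 0, 0, o, o2; 1, o2, 0, 0, o2, o2; o2, 0, o2, 0, 0, o; 0, o2, 1, 1, 1, 1]),
      (none, !![1, 0, 0, 0, 0, 0; 0, 1, 0, 0, 0, 0; 0, 0, 1, 0, 0, 0; o, 0, 0, 1, 0, 0; 0, 0, 0, 0, 1, 0; 0, 0, o, 0, 0, 1])], root := 1, par := o },
  { ts := [o, 0, o, o, 0], c := 1, xm := !![1, o2, 1, 1, o, 0; o2, o, 1, 0, 0, o; o, o, o, 0, 0, 1; o, 0, 0, o, 1, 1; 1, 0, 0, o, o, o2; 0, 1, o, o, o2, 1],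
    startX := true, steps := [(some 3, !![0, 1, 1, 1, o, 0; o, o, 1, o, 0, o; 0, o2, o2, 0, o, 1; o, 1, 0, o2, 1, 1; o2, 0, 1, o2, o, 1; 0, o2, o, 0, o, 0]),
      (some 6, !![0, 1, 0, 1, o2, 0; o, 1, o2, o, 0, o2; 0, o2, 0, 0, o, 1; 1, 1, 0, 0, o2, 0; o2, 0, 1, o2, 1, 1; 0, o2, 1, 0, o, 0]),
      (some 7, !![o, o, o2, 0, o2, 0; o, o2, o2, 1, 0, o2; 1, o2, 0, 0, 1, 0; 1, 0, 0, 0, o2, o2; o2, 0, 0, o2, o2, o; 0, o2, 1, 1, o, o]),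
      (none, !![1, 0, 0, o, 0, 0; 0, 1, 0, 0, 0, 0; 0, 0, 1, 0, 0, o; 0, 0, 0, 1, 0, 0; 0, 0, 0, 0, 1, 0; 0, 0, 0, 0, 0, 1])], root := 10, par := o },
  { ts := [o, 0, o, o, 0], c := o, xm := !![1, 1, o, o, o2, 0; 1, 0, o, 0, 0, o2; o2, o2, 0, 0, 0, o; o2, 0, 0, 0, o, o; o, 0, 0, o2, 0, 1; 0, o, o2, o2, 1, 1],
    startX := false, steps := [(none, !![o2, o, o2, 0, 1, 0; o, 1, 0, o2, 0, 1; 1, 1, o2, 0, o2, 0; 1, 0, 0, o2, 0, o2; o2, 0, 0, 1, 1, o; 0, o2, 1, 1, o, o2]),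
      (some 4, !![1, o, o2, 0, 1, 0; o, o2, 0, o2, 0, 1; 0, 1, o2, 0, o2, 0; 1, 1, 0, o2, 0, o2; o2, 0, 1, 1, o2, o; 0, o2, 1, 0, o, 1]),
      (none, !![1, o, 0, o2, 1, 0; o, o2, o2, o2, 0, 1; 1, 0, o2, 0, o2, o2; 0, 1, 0, o2, o2, 0; o2, 0, 1, 0, o2, o; 0, o2, 0, 1, o, 1]),
      (some 4, !![o2, o, o2, o2, 1, 0; o, 1, o2, 0, 0, 1; 1, 0, o2, 0, 0, o2; 0, 1, 0, o2, o2, o2; o2, 0, 1, 0, 1, o; 0, o2, 0, 1, o, o2]),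
      (none, !![1, 0, 0, 0, 0, 0; 0, 1, 0, 0, 0, 0; 0, 0, 1, 0, 0, 0; 0, 0, 0, 1, 0, 0; o2, 0, 0, 0, 1, 0; 0, o2, 0, 0, 0, 1])], root := 0, par := o2 },
  { ts := [o, 0, o, o, 0], c := o2, xm := !![1, o, o2, o2, 1, 0; o, o2, o2, 0, 0, 1; 1, 1, o2, 0, 0, o2; 1, 0, 0, o2, o2, o2; o2, 0, 0, 1, o2, o; 0, o2, 1, 1, o, 1],
    startX := true, steps := [(some 3, !![o, o2, o2, o2, 1, 0; 1, o2, o2, 1, 0, 1; 0, o, 0, 0, 1, o2; 1, o2, 0, 0, o2, o2; o, 0, o2, o, o2, o2; 0, o, 1, 0, 1, o]),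
      (some 4, !![1, o2, 0, o2, 1, 0; o2, 0, o, o, 0, 1; o, o, 0, 0, o, o2; 0, 1, 0, 0, o, 0; o, 0, 1, o, 0, o2; 0, o, 0, o, o2, 1]),
      (some 11, !![o2, o2, 1, 1, o, 0; o2, o, o, 0, 0, o; o, o, 0, 0, 0, 1; 0, 1, 0, 0, o, 1; o, 0, 1, o, o, o2; 0, o, 0, o, o2, o2]),
      (none, !![1, 0, 0, 0, 0, 0; 0, 1, 0, 0, 0, 0; 0, 0, 1, 0, 0, 0; o2, 0, 0, 1, 0, 0; 0, 0, 0, 0, 1, 0; 0, 0, o2, 0, 0, 1])], root := 1, par := o2 },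
  { ts := [o, 0, o, o, o], c := 1, xm := !![o2, o2, 1, o, 0, 0; o2, 0, o, o2, 0, 0; o, o, o, 0, o2, o; o, 0, 0, o, o, 1; 1, 0, 0, o, 0, o2; 0, 1, o, o, o2, o2],
    startX := true, steps := [(some 3, !![o, o2, 1, o, 0, 0; 1, 0, o, o2, 0, 0; o, o, o2, 0, o2, o; o, o, 0, o2, o, 1; 0, 0, o, o, 0, o2; 0, 0, o, o, 1, o]),
      (none, !![1, 0, 0, 0, 0, 0; 0, 1, 0, 0, 0, 0; 0, 0, 1, 0, 0, 0; o2, 0, 0, 1, 0, 0; 0, 0, 0, 0, 1, 0; 0, 0, o2, 0, 0, 1])], root := 1, par := o2 },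
  { ts := [o, 0, o, o, o], c := o, xm := !![o, 1, o, o2, 0, 0; 1, o2, o2, 1, 0, 0; o2, o2, 0, 0, 1, o2; o2, 0, 0, 0, o2, o; o, 0, 0, o2, o2, 1; 0, o, o2, o2, 1, o],
    startX := true, steps := [(some 0, !![o, 1, o, o2, 0, 0; 1, o2, o2, 1, 0, 0; o, 0, 0, 0, 1, o2; 0, o, 0, 0, o2, o; o2, 0, o, 0, o2, 1; 0, o2, 0, o, 1, o]),
      (some 2, !![o, o, o, o2, 0, 0; 1, o, o2, 1, 0, 0; 1, 0, 1, 0, 1, o2; o2, 0, 0, 1, o2, o; o2, 0, 0, 0, o, o; 0, o2, o2, 1, 1, o]),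
      (none, !![1, 0, 0, 0, 0, 0; 0, 1, 0, 0, 0, 0; 0, o, 1, 0, 0, 0; 0, 0, 0, 1, 0, 0; 0, 0, 0, o, 1, 0; 0, 0, 0, 0, 0, 1])], root := 5, par := o },
  { ts := [o, 0, o, o, o], c := o2, xm := !![0, o, o2, 1, 0, 0; o, o, 1, o, 0, 0; 1, 1, o2, 0, o, 1; 1, 0, 0, o2, 1, o2; o2, 0, 0, 1, o, o; 0, o2, 1, 1, o, 0],
    startX := true, steps := [(some 3, !![o2, o, o2, 1, 0, 0; o2, o, 1, o, 0, 0; 1, 1, 0, 0, o, 1; 1, 1, 0, 0, 1, o2; 0, 0, 1, 1, o, o; 0, 0, 1, 1, o2, o2]),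
      (none, !![o2, 1, o, o2, 0, 0; o2, o2, o2, 1, 0, 0; o2, o2, 1, 0, 1, o2; o, o, 0, 1, o2, o; o2, 0, o, o2, o2, 1; 0, o2, o, o2, o2, o2]),
      (some 3, !![1, 1, o, o2, 0, 0; 0, o2, o2, 1, 0, 0; o2, o2, o2, 0, 1, o2; o, 1, 0, o2, o2, o; 1, 0, 1, o2, o2, 1; 0, 1, o, o2, 0, 1]),
      (none, !![1, 0, 0, 0, 0, 0; 0, 1, 0, 0, 0, 0; 0, 0, 1, 0, 0, 0; o2, 0, 0, 1, 0, 0; 0, 0, 0, 0, 1, 0; 0, 0, o2, 0, 0, 1])], root := 1, par := o2 },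
  { ts := [o, o, 0, 0, 0], c := 1, xm := !![1, 0, 0, 0, 0, 0; o2, 1, 1, 0, 0, 0; 0, 0, 1, 0, 0, 0; o, o, 0, 1, 1, 0; 1, 0, o, 0, 1, 0; 0, 1, o, 0, o2, 1],
    startX := true, steps := [(some 2, !![1, 0, 0, 0, 0, 0; o2, 1, 1, 0, 0, 0; 0, 0, 1, 0, 0, 0; 1, o, 0, 1, 1, 0; 1, 0, o, 0, 1, 0; 0, 1, 1, 0, o2, 1]),
      (some 11, !![0, 0, o, 0, 1, 0; o2, 0, 0, 0, 0, 1; 0, 0, 1, 0, 0, 0; 1, o, 0, 1, 0, o; 1, 0, o, 0, 0, 0; 0, 1, 1, 0, o2, 0]),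
      (none, !![1, 0, 0, 0, 1, 0; 0, 1, o2, 0, 0, 1; 0, 0, 1, 0, 0, 0; 0, 0, 0, 1, o2, 0; 0, 0, 0, 0, 1, 0; 0, 0, 0, 0, 0, 1]),
      (some 10, !![1, 0, 0, 0, o, 0; 0, 1, o2, 0, 0, o; 0, 0, 1, 0, 0, 0; 0, 0, 0, 1, o2, 0; 0, 0, 0, 0, 1, 0; 0, 0, 0, 0, 0, 1]),
      (none, !![o2, 0, o2, 0, o, 0; 1, o2, o, 0, 0, o; 0, 0, 1, 0, 0, 0; 0, o2, 0, 1, o, o2; o, 0, o2, 0, o2, 0; 0, o, 0, 0, 1, o2]),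
      (some 4, !![o2, 0, o2, 0, o, 0; 1, o2, 1, 0, 0, o; 0, 0, 1, 0, 0, 0; o2, o2, 0, 1, 1, o2; o, 0, o2, 0, o2, 0; 0, o, o2, 0, 1, o2]),
      (none, !![1, 0, 0, 0, o, 0; 0, 1, 0, 0, 0, o; 0, 0, 1, 0, 0, 0; 0, 0, 0, 1, 0, 0; 0, 0, 0, 0, 1, 0; 0, 0, 0, 0, 0, 1])], root := 11, par := o }]

/-- Part 9 of the chains. -/
def g2Certs9 : List (Cert 6) := [
  { ts := [o, o, 0, 0, 0], c := o, xm := !![1, 0, 0, 0, 0, 0; 1, 1, o, 0, 0, 0; 0, 0, 1, 0, 0, 0; o2, o2, 0, 1, o, 0; o, 0, o2, 0, 1, 0; 0, o, o2, 0, 1, 1],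
    startX := true, steps := [(some 0, !![1, 0, 0, 0, 0, 0; 1, 1, o, 0, 0, 0; 0, 0, 1, 0, 0, 0; 1, o2, 0, 1, o, 0; o, 0, o2, 0, 1, 0; 0, o, 1, 0, 1, 1]),
      (some 9, !![1, o, 1, o, 0, 0; 0, o, o, o2, 0, 0; o, 0, o, 0, o2, o; 1, o2, 0, o, o, 1; o, 0, o2, 0, o, o; 0, o, 1, o, 0, 1]),
      (some 3, !![0, o, 1, o, 0, 0; o, o, o, o2, 0, 0; 0, 1, o2, 0, o2, o; 1, 1, 0, o2, o, 1; o2, 0, 1, 1, o, o; 0, o2, 1, 0, o, 0]),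
      (some 11, !![o2, o, 0, o2, 1, 0; o, 1, o2, o2, 0, 1; 0, 1, o2, 0, o2, o2; 1, 1, 0, o2, o2, 0; o2, 0, 1, 1, 1, o; 0, o2, 1, 0, o, o2]),
      (none, !![1, 0, 0, o2, 0, 0; 0, 1, 0, 0, 0, 0; 0, 0, 1, 0, 0, o2; 0, 0, 0, 1, 0, 0; 0, 0, 0, 0, 1, 0; 0, 0, 0, 0, 0, 1])], root := 10, par := o2 },
  { ts := [o, o, 0, 0, 0], c := o2, xm := !![1, 0, 0, 0, 0, 0; o, 1, o2, 0, 0, 0; 0, 0, 1, 0, 0, 0; 1, 1, 0, 1, o2, 0; o2, 0, 1, 0, 1, 0; 0, o2, 1, 0, o, 1],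
    startX := true, steps := [(some 5, !![1, 0, 0, 0, 0, 0; o, o, o2, 0, 0, 0; o, o2, o, 0, 0, 0; 1, 1, 0, o, o2, 0; o, 0, 1, o2, o, 0; 0, o, 1, o, o, 1]),
      (some 6, !![1, 0, 0, 0, 0, 0; 0, 1, 0, 0, 0, 0; o, o2, 1, 0, 0, 0; o2, 1, 0, 1, 0, 0; o, 0, 1, o2, 1, 0; 0, o, o2, o, 0, 1]),
      (none, !![1, 0, 0, 0, 0, 0; o, o2, 1, 0, 0, 0; o2, o2, o2, 0, 0, 0; o, o2, 0, o2, 1, 0; o, 0, o2, o2, o2, 0; 0, o, o, o2, o, 1]),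
      (some 3, !![1, 0, 0, 0, 0, 0; o2, o2, 1, 0, 0, 0; 1, o2, o2, 0, 0, 0; o, o, 0, o2, 1, 0; o, 0, o, o2, o2, 0; 0, o, o, 1, o2, 1]),
      (none, !![1, 0, 0, 0, 0, 0; 0, 1, 0, 0, 0, 0; 0, o2, 1, 0, 0, 0; 0, 0, 0, 1, 0, 0; 0, 0, 0, o2, 1, 0; 0, 0, 0, 0, 0, 1])], root := 5, par := o2 },
  { ts := [o, o, 0, 0, o], c := 1, xm := !![o2, 0, o2, 0, o2, 0; o2, o2, o, 0, 0, o2; 0, 0, 1, 0, 0, 0; o, o, 0, 1, o, o2; 1, 0, o, 0, o2, 0; 0, 1, o, 0, o2, o2],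
    startX := true, steps := [(some 0, !![0, 0, o2, 0, o2, 0; o2, 0, o, 0, 0, o2; 0, 0, 1, 0, 0, 0; 0, 1, 0, 1, o, o2; o, 0, 1, 0, 0, 0; 0, o, 0, 0, o2, 0]),
      (some 1, !![0, 0, o2, 0, o2, 0; o2, 0, 1, 0, 0, o2; 0, 0, 1, 0, 0, 0; 1, 1, 0, 1, 1, o2; o, 0, 1, 0, 0, 0; 0, o, 1, 0, o2, 0]),
      (none, !![1, 0, o, 0, o, 0; o, 1, 0, 0, 0, o; 0, 0, 1, 0, 0, 0; o, 0, 0, 1, 0, o; 0, 0, 0, 0, 1, 0; 0, 0, o, 0, o, 1]),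
      (some 2, !![1, 0, 0, 0, o, 0; 0, 1, 0, 0, 0, o; 0, 0, 1, 0, 0, 0; 0, 0, 0, 1, 0, 0; 0, 0, 0, 0, 1, 0; 0, 0, 0, 0, 0, 1])], root := 11, par := o },
  { ts := [o, o, 0, 0, o], c := o, xm := !![o, 0, 1, 0, 1, 0; 1, o, o2, 0, 0, 1; 0, 0, 1, 0, 0, 0; o2, o2, 0, 1, o2, 1; o, 0, o2, 0, o, 0; 0, o, o2, 0, 1, o],
    startX := true, steps := [(some 1, !![o, 0, 1, 0, 1, 0; 1, o, o, 0, 0, 1; 0, 0, 1, 0, 0, 0; 0, o2, 0, 1, o, 1; o, 0, o2, 0, o, 0; 0, o, 0, 0, 1, o]),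
      (some 8, !![o, 0, o, 0, 1, 0; o2, o, o, 0, 0, 1; 0, 0, 1, 0, 0, 0; 0, 1, 0, 1, o, o; o, 0, 1, 0, o, 0; 0, o, 0, 0, o2, o]),
      (some 11, !![0, 0, o2, 0, o2, 0; o2, 0, o, 0, 0, o2; 0, 0, 1, 0, 0, 0; 0, 1, 0, 1, o, o2; o, 0, 1, 0, 0, 0; 0, o, 0, 0, o2, 0]),
      (none, !![1, 0, 0, 0, 0, 0; 0, 1, 0, 0, 0, 0; 0, 0, 1, 0, 0, 0; 0, 0, 0, 1, 0, 0; o2, 0, 0, 0, 1, 0; 0, o2, 0, 0, 0, 1])], root := 0, par := o2 },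
  { ts := [o, o, 0, 0, o], c := o2, xm := !![0, 0, o, 0, o, 0; o, 0, 1, 0, 0, o; 0, 0, 1, 0, 0, 0; 1, 1, 0, 1, 1, o; o2, 0, 1, 0, 0, 0; 0, o2, 1, 0, o, 0],
    startX := true, steps := [(some 9, !![0, o2, o2, o2, o2, 0; o2, 1, 1, 0, 0, o2; o2, 0, 0, 0, 0, o2; 1, 1, 0, 0, 1, o2; o2, 0, 1, 0, 1, o2; 0, o2, 1, o2, o2, 0]),
      (some 1, !![o2, o2, o2, o2, o2, 0; o2, 1, o, 0, 0, o2; o2, 0, o2, 0, 0, o2; o, o, 0, o2, o, o2; o2, 0, o, 0, 1, o2; 0, o2, o, o2, o2, o2]),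
      (none, !![1, 0, 0, 0, 0, 0; 0, 1, 0, 0, 0, 0; 0, o, 1, 0, 0, 0; 0, 0, 0, 1, 0, 0; 0, 0, 0, o, 1, 0; 0, 0, 0, 0, 0, 1])], root := 5, par := o },
  { ts := [o, o, 0, o, 0], c := 1, xm := !![1, o2, 1, 0, o, 0; o2, o, 0, 1, 0, o; 0, o, o, 0, 1, 0; o, o, 0, o, 0, 1; 1, 0, o, o, o, o2; 0, 1, o, 0, o2, 1],
    startX := true, steps := [(some 0, !![o2, o2, 1, 0, o, 0; o2, 0, 0, 1, 0, o; 1, o, o, 0, 1, 0; o, o2, 0, o, 0, 1; 0, 0, o2, o, 0, o2; 0, 0, o, 1, o2, o2]),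
      (some 4, !![0, o2, 1, 0, o, 0; o2, o2, 0, 1, 0, o; o2, o, o, 0, 1, 0; o, 1, 0, o, 0, 1; 0, 0, 1, o, o2, o2; 0, 0, o, o2, o2, 0]),
      (none, !![1, 0, 0, 0, 0, 0; 0, 1, 0, 0, 0, 0; 0, 0, 1, 0, 0, 0; 0, 0, 0, 1, 0, 0; o2, 0, 0, 0, 1, 0; 0, o2, 0, 0, 0, 1])], root := 0, par := o2 },
  { ts := [o, o, 0, o, 0], c := o, xm := !![1, 1, o, 0, o2, 0; 1, 0, 0, o, 0, o2; 0, o2, 0, 0, o, 0; o2, o2, 0, 0, 0, o; o, 0, o2, o2, 0, 1; 0, o, o2, 0, 1, 1],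
    startX := true, steps := [(some 4, !![0, 1, o, 0, o2, 0; 1, 1, 0, o, 0, o2; o2, o2, 0, 0, o, 0; o2, 0, 0, 0, 0, o; o, 0, 0, o2, 1, 1; 0, o, o2, o2, 1, 0]),
      (none, !![1, 0, 0, 0, 0, 0; 0, 1, 0, 0, 0, 0; 0, 0, 1, 0, 0, 0; 0, 0, 0, 1, 0, 0; o, 0, 0, 0, 1, 0; 0, o, 0, 0, 0, 1])], root := 0, par := o },
  { ts := [o, o, 0, o, 0], c := o2, xm := !![1, o, o2, 0, 1, 0; o, o2, 0, o2, 0, 1; 0, 1, o2, 0, o2, 0; 1, 1, 0, o2, 0, o2; o2, 0, 1, 1, o2, o; 0, o2, 1, 0, o, 1],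
    startX := true, steps := [(some 4, !![o2, o, o2, 0, 1, 0; o, 1, 0, o2, 0, 1; 1, 1, o2, 0, o2, 0; 1, 0, 0, o2, 0, o2; o2, 0, 0, 1, 1, o; 0, o2, 1, 1, o, o2]),
      (none, !![0, o2, 1, 0, o, 0; o2, o2, 0, 1, 0, o; o2, o, o, 0, 1, 0; o, 1, 0, o, 0, 1; 0, 0, 1, o, o2, o2; 0, 0, o, o2, o2, 0]),
      (some 4, !![o2, o2, 1, 0, o, 0; o2, 0, 0, 1, 0, o; 1, o, o, 0, 1, 0; o, o2, 0, o, 0, 1; 0, 0, o2, o, 0, o2; 0, 0, o, 1, o2, o2]),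
      (none, !![1, 0, 0, 0, 0, 0; 0, 1, 0, 0, 0, 0; 0, 0, 1, 0, 0, 0; 0, 0, 0, 1, 0, 0; o, 0, 0, 0, 1, 0; 0, o, 0, 0, 0, 1])], root := 0, par := o }]

/-- Part 10 of the chains. -/
def g2Certs10 : List (Cert 6) := [
  { ts := [o, o, 0, o, o], c := 1, xm := !![o2, o2, o, o2, 0, 0; o2, 0, o2, 1, 0, 0; 0, o, o, 0, 1, o2; o, o, 0, o, o2, o; 1, 0, o, o, 0, o2; 0, 1, o, 0, o2, o2],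
    startX := true, steps := [(some 2, !![o2, 0, o, o2, 0, 0; o2, 1, o2, 1, 0, 0; o2, o, o2, 0, 1, o2; o2, 1, 0, o2, o2, o; 1, 0, 1, o, 1, 0; 0, 1, o2, o2, o2, o2]),
      (none, !![1, 0, 0, 0, 0, 0; 0, 1, 0, 0, 0, 0; 0, o, 1, 0, 0, 0; 0, 0, 0, 1, 0, 0; o, 0, 0, o, 1, 0; 0, o, 0, 0, 0, 1]),
      (some 1, !![1, 0, 0, 0, 0, 0; 0, 1, 0, 0, 0, 0; 0, o, 1, 0, 0, 0; 0, 0, 0, 1, 0, 0; 0, 0, 0, o, 1, 0; 0, 0, 0, 0, 0, 1])], root := 5, par := o },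
  { ts := [o, o, 0, o, o], c := o, xm := !![o, 1, o2, 1, 0, 0; 1, o2, 1, o, 0, 0; 0, o2, 0, 0, o, 1; o2, o2, 0, 0, 1, o2; o, 0, o2, o2, o2, 1; 0, o, o2, 0, 1, o],
    startX := true, steps := [(some 1, !![o2, 1, o2, 1, 0, 0; o2, o2, 1, o, 0, 0; 0, o2, 1, 0, o, 1; 0, o, 0, 1, 1, o2; 1, 0, o, o2, o2, 1; 0, 1, 0, 0, o2, o2]),
      (some 2, !![o2, 0, o2, 1, 0, 0; o2, 1, 1, o, 0, 0; 1, o2, o2, 0, o, 1; 0, o, 0, o2, 1, o2; 1, 0, o, o2, 1, 0; 0, 1, 0, 1, o2, o2]),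
      (none, !![1, 1, o, o2, 0, 0; 0, o2, o2, 1, 0, 0; o2, o2, o2, 0, 1, o2; o, 1, 0, o2, o2, o; 1, 0, 1, o2, o2, 1; 0, 1, o, o2, 0, 1]),
      (some 3, !![o2, 1, o, o2, 0, 0; o2, o2, o2, 1, 0, 0; o2, o2, 1, 0, 1, o2; o, o, 0, 1, o2, o; o2, 0, o, o2, o2, 1; 0, o2, o, o2, o2, o2]),
      (none, !![1, 0, 0, 0, 0, 0; 0, 1, 0, 0, 0, 0; 0, o2, 1, 0, 0, 0; 0, 0, 0, 1, 0, 0; 0, 0, 0, o2, 1, 0; 0, 0, 0, 0, 0, 1])], root := 5, par := o2 },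
  { ts := [o, o, 0, o, o], c := o2, xm := !![0, o, 1, o, 0, 0; o, o, o, o2, 0, 0; 0, 1, o2, 0, o2, o; 1, 1, 0, o2, o, 1; o2, 0, 1, 1, o, o; 0, o2, 1, 0, o, 0],
    startX := true, steps := [(some 3, !![1, o, 1, o, 0, 0; 0, o, o, o2, 0, 0; o, 0, o, 0, o2, o; 1, o2, 0, o, o, 1; o, 0, o2, 0, o, o; 0, o, 1, o, 0, 1]),
      (none, !![1, 0, 0, 0, 0, 0; 0, 1, 0, 0, 0, 0; 0, 0, 1, 0, 0, 0; o2, 0, 0, 1, 0, 0; o2, 0, 0, 0, 1, 0; 0, o2, o2, 0, 0, 1]),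
      (some 5, !![1, 0, 0, 0, 0, 0; 0, 1, 0, 0, 0, 0; 0, 0, 1, 0, 0, 0; o2, 0, 0, 1, 0, 0; 0, 0, 0, 0, 1, 0; 0, 0, o2, 0, 0, 1])], root := 1, par := o2 },
  { ts := [o, o, o, 0, 0], c := 1, xm := !![o, o2, 0, 1, 0, 0; 0, 1, 0, 0, 0, 0; o, 0, o, 0, 0, 1; o, o, 0, o, 0, 0; 1, 0, o, 0, 1, o2; 0, 1, o, o, 0, o],
    startX := true, steps := [(some 0, !![o, o2, 0, 1, 0, 0; 0, 1, 0, 0, 0, 0; o, 1, o, 0, 0, 1; o, o, 0, o, 0, 0; o, 0, o, 1, 1, o2; 0, o, o, o, 0, o]),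
      (some 10, !![0, 1, 0, o2, 0, 0; 0, 1, 0, 0, 0, 0; o, o2, 0, 0, 0, o2; o, o, 0, 0, 0, 0; o, 0, o, o2, 1, 1; 0, o, o, o, 0, 0]),
      (none, !![1, 0, 0, 0, 0, 0; 0, 1, 0, 0, 0, 0; o2, o2, 1, 0, 0, 0; o2, o2, 0, 1, 0, 0; 0, 0, o2, o2, 1, 0; 0, 0, o2, o2, 0, 1]),
      (some 4, !![1, 0, 0, 0, 0, 0; 0, 1, 0, 0, 0, 0; 0, o2, 1, 0, 0, 0; 0, 0, 0, 1, 0, 0; 0, 0, 0, o2, 1, 0; 0, 0, 0, 0, 0, 1])], root := 5, par := o2 },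
  { ts := [o, o, o, 0, 0], c := o, xm := !![0, 1, 0, o, 0, 0; 0, 1, 0, 0, 0, 0; o2, 0, 0, 0, 0, o; o2, o2, 0, 0, 0, 0; o, 0, o2, 0, 1, 1; 0, o, o2, o2, 0, 0],
    startX := true, steps := [(some 4, !![1, 1, o, o, 0, 0; 0, 0, o, o, 0, 0; o2, 0, 0, 0, o, o; o2, o2, 0, 0, o, o; o, 0, o2, 0, 0, 1; 0, o, o2, o2, 0, 1]),
      (none, !![1, 0, 0, 0, o2, 0; 0, 1, 0, 0, 0, o2; 0, 0, 1, 0, 0, 0; 0, 0, 0, 1, 0, 0; 0, 0, 0, 0, 1, 0; 0, 0, 0, 0, 0, 1])], root := 11, par := o2 },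
  { ts := [o, o, o, 0, 0], c := o2, xm := !![o2, o, 0, o2, 0, 0; 0, 1, 0, 0, 0, 0; 1, 0, o2, 0, 0, o2; 1, 1, 0, o2, 0, 0; o2, 0, 1, 0, 1, o; 0, o2, 1, 1, 0, o2],
    startX := true, steps := [(some 4, !![1, o, o2, o2, 0, 0; 0, o2, o2, o2, 0, 0; 1, 0, o2, 0, o2, o2; 1, 1, 0, o2, o2, o2; o2, 0, 1, 0, o2, o; 0, o2, 1, 1, 0, 1]),
      (some 11, !![o, o, o, o2, 1, 0; 0, 0, o, o, 0, 1; 1, 0, o2, 0, o, o2; 1, 1, 0, o2, o, o; o2, 0, 1, 0, 0, o; 0, o2, 1, 1, 0, o]),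
      (none, !![1, 0, 0, 0, o, 0; 0, 1, 0, 0, 0, o; 0, 0, 1, 0, 0, 0; 0, 0, 0, 1, 0, 0; 0, 0, 0, 0, 1, 0; 0, 0, 0, 0, 0, 1])], root := 11, par := o },
  { ts := [o, o, o, 0, o], c := 1, xm := !![0, o2, o2, 1, o, 0; 0, o2, o2, o2, 0, o; o, 0, o, 0, o2, 1; o, o, 0, o, o2, o2; 1, 0, o, 0, o2, o2; 0, 1, o, o, 0, 0],
    startX := true, steps := [(some 4, !![o2, o2, o, 1, o, 0; 0, 0, o, o, 0, o; o, 0, o, 0, o, 1; o, o, 0, o, o, o; 1, 0, o, 0, 0, o2; 0, 1, o, o, 0, o2]),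
      (none, !![o2, o, 0, o2, 0, 0; 0, 1, 0, 0, 0, 0; 1, 0, o2, 0, 0, o2; 1, 1, 0, o2, 0, 0; o2, 0, 1, 0, 1, o; 0, o2, 1, 1, 0, o2]),
      (some 4, !![1, o, o2, o2, 0, 0; 0, o2, o2, o2, 0, 0; 1, 0, o2, 0, o2, o2; 1, 1, 0, o2, o2, o2; o2, 0, 1, 0, o2, o; 0, o2, 1, 1, 0, 1]),
      (none, !![1, 0, 0, 0, o2, 0; 0, 1, 0, 0, 0, o2; 0, 0, 1, 0, 0, 0; 0, 0, 0, 1, 0, 0; 0, 0, 0, 0, 1, 0; 0, 0, 0, 0, 0, 1])], root := 11, par := o2 },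
  { ts := [o, o, o, 0, o], c := o, xm := !![o2, 1, 1, o, o2, 0; 0, o, 1, 1, 0, o2; o2, 0, 0, 0, 1, o; o2, o2, 0, 0, 1, 1; o, 0, o2, 0, o, 1; 0, o, o2, o2, 0, o2],
    startX := true, steps := [(some 4, !![o, 1, o2, o, o2, 0; 0, o2, o2, o2, 0, o2; o2, 0, 0, 0, o2, o; o2, o2, 0, 0, o2, o2; o, 0, o2, 0, o2, 1; 0, o, o2, o2, 0, o]),
      (none, !![1, 0, 0, 0, o2, 0; 0, 1, 0, 0, 0, o2; 0, 0, 1, 0, 0, 0; 0, 0, 0, 1, 0, 0; 0, 0, 0, 0, 1, 0; 0, 0, 0, 0, 0, 1])], root := 11, par := o2 }]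

/-- Part 11 of the chains. -/
def g2Certs11 : List (Cert 6) := [
  { ts := [o, o, o, 0, o], c := o2, xm := !![o, o, o, o2, 1, 0; 0, 0, o, o, 0, 1; 1, 0, o2, 0, o, o2; 1, 1, 0, o2, o, o; o2, 0, 1, 0, 0, o; 0, o2, 1, 1, 0, o],
    startX := true, steps := [(some 8, !![o2, o, o, o2, 1, 0; o2, 0, 0, o, 0, 1; 1, 0, o, 0, o, o2; 1, o, 0, o, 0, o; o2, 0, o, 0, 0, o; 0, o2, 1, 1, o2, o2]),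
      (none, !![1, 0, 0, 0, 0, 0; 0, 1, 0, 0, 0, 0; 0, 0, 1, 0, 0, 0; o, 0, 0, 1, 0, 0; 0, 0, 0, 0, 1, 0; 0, 0, o, 0, 0, 1])], root := 1, par := o },
  { ts := [o, o, o, o, 0], c := 1, xm := !![o, 0, 1, 1, o, 0; 0, o, 1, 1, 0, o; o, o, 1, 0, 1, 1; o, o, 0, 1, 1, 1; 1, 0, o, o, o, 0; 0, 1, o, o, 0, o],
    startX := true, steps := [(some 1, !![o2, 0, 1, 1, o, 0; 1, o, o2, 1, 0, o; o, o, 0, 0, 1, 1; 0, o, 0, 0, o2, 1; o2, 0, o, o, o, 0; 0, o2, 0, o, 1, o2]),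
      (some 10, !![o2, o, 1, o, 1, 0; 1, o, o2, 0, 0, 1; o, 1, 0, 0, 0, o; 0, o, 0, 0, o2, 1; o2, 0, o, 1, o, o; 0, o2, 0, o, 1, o2]),
      (none, !![1, 0, 0, 0, 0, 0; o, 1, o, 0, 0, 0; 0, 0, 1, 0, 0, 0; 0, o, 0, 1, o, 0; o, 0, o, 0, 1, 0; 0, o, 0, 0, o, 1]),
      (some 3, !![1, 0, 0, 0, 0, 0; 0, 1, o, 0, 0, 0; 0, 0, 1, 0, 0, 0; 0, 0, 0, 1, o, 0; 0, 0, 0, 0, 1, 0; 0, 0, 0, 0, 0, 1])], root := 6, par := o },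
  { ts := [o, o, o, o, 0], c := o, xm := !![0, 0, o, o, o2, 0; 0, 0, o, o, 0, o2; o2, o2, 1, 0, o, o; o2, o2, 0, 1, o, o; o, 0, o2, o2, 0, 0; 0, o, o2, o2, 0, 0],
    startX := true, steps := [(some 0, !![o2, 0, o, o, o2, 0; 0, o2, o, o, 0, o2; 1, 1, 1, 0, o, o; 1, 1, 0, 1, o, o; 1, 0, 1, 1, o2, 0; 0, 1, 1, 1, 0, o2]),
      (some 2, !![o2, o, 1, o, o2, 0; o2, 1, o, o, 0, o2; o2, 1, o2, 0, o, o; 0, 1, 0, o2, o, 1; o, 0, 1, 1, 1, o; 0, o, 0, o2, o2, o2]),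
      (some 8, !![0, o2, o, o, o, 0; 1, 1, o, o2, 0, o; o2, 1, 0, 0, o2, o; 0, o2, 0, 0, o, o; o, 0, o2, 1, 1, o2; 0, o, 0, o2, 1, 0]),
      (some 10, !![0, 0, o, o, 0, 0; 1, 1, o, o, 0, 0; o2, o2, 0, 0, o, o; 0, o2, 0, 0, o, o; o, 0, o2, o2, 1, 0; 0, o, 0, o2, 1, 0]),
      (none, !![1, 0, 0, 0, 0, 0; 0, 1, o, 0, 0, 0; 0, 0, 1, 0, 0, 0; 0, 0, 0, 1, o, 0; 0, 0, 0, 0, 1, 0; 0, 0, 0, 0, 0, 1])], root := 6, par := o },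
  { ts := [o, o, o, o, 0], c := o2, xm := !![o2, 0, o2, o2, 1, 0; 0, o2, o2, o2, 0, 1; 1, 1, 1, 0, o2, o2; 1, 1, 0, 1, o2, o2; o2, 0, 1, 1, o2, 0; 0, o2, 1, 1, 0, o2],
    startX := true, steps := [(some 0, !![o, 0, o2, o2, 1, 0; 0, o, o2, o2, 0, 1; o, o, 1, 0, o2, o2; o, o, 0, 1, o2, o2; o, 0, o, o, o, 0; 0, o, o, o, 0, o]),
      (some 6, !![o, 0, o2, o2, o, 0; o, 0, o, o2, 0, o; o, o, o2, 0, o2, o2; 0, o, 0, o2, o, o2; o, 0, o, o, 0, 0; 0, o, 0, o, o, o]),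
      (some 7, !![0, 0, 1, 1, o, 0; o, o, o, 1, 0, o; o, o, o2, 0, 1, 1; 0, o, 0, o2, o, 1; o, 0, o, o, o, 0; 0, o, 0, o, o, 0]),
      (none, !![1, 0, 0, 0, 0, 0; 0, 1, 0, 0, 0, 0; 0, 0, 1, 0, 0, 0; o2, 0, 0, 1, 0, 0; 0, 0, 0, 0, 1, 0; 0, 0, o2, 0, 0, 1])], root := 1, par := o2 },
  { ts := [o, o, o, o, o], c := 1, xm := !![0, 0, o, o, 1, 0; 0, 0, o, o, 0, 1; o, o, 1, 0, o, o; o, o, 0, 1, o, o; 1, 0, o, o, 0, 0; 0, 1, o, o, 0, 0],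
    startX := true, steps := [(some 4, !![0, 0, 0, o, 1, 0; 0, 0, 0, 0, 0, 1; 0, o, 1, 0, 0, o; 0, 0, 0, 1, 0, 0; 1, 0, 0, o, 0, 0; 0, 1, 0, 0, 0, 0]),
      (some 5, !![0, 0, 0, o2, 1, 0; 0, 0, 0, 0, 0, 1; 0, o2, 1, 0, 0, o2; 0, 0, 0, 1, 0, 0; 1, 0, 0, o2, 0, 0; 0, 1, 0, 0, 0, 0]),
      (none, !![1, 0, 0, o2, 0, 0; 0, 1, 0, 0, 0, 0; 0, o2, 1, 0, 0, o2; 0, 0, 0, 1, 0, 0; 0, 0, 0, o2, 1, 0; 0, 0, 0, 0, 0, 1]),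
      (some 0, !![1, 0, 0, o2, 0, 0; 0, 1, 0, 0, 0, 0; 0, 0, 1, 0, 0, o2; 0, 0, 0, 1, 0, 0; 0, 0, 0, 0, 1, 0; 0, 0, 0, 0, 0, 1])], root := 10, par := o2 },
  { ts := [o, o, o, o, o], c := o, xm := !![o2, 0, o2, o2, o, 0; 0, o2, o2, o2, 0, o; o2, o2, 1, 0, o2, o2; o2, o2, 0, 1, o2, o2; o, 0, o2, o2, o2, 0; 0, o, o2, o2, 0, o2],
    startX := true, steps := [(some 4, !![o2, 0, 0, o2, o, 0; 0, o2, 0, 0, 0, o; 0, o2, 1, 0, 0, o2; 0, 0, 0, 1, 0, 0; o, 0, 0, o2, o2, 0; 0, o, 0, 0, 0, o2]),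
      (none, !![1, 0, 0, o2, 0, 0; 0, 1, 0, 0, 0, 0; 0, o2, 1, 0, 0, o2; 0, 0, 0, 1, 0, 0; 0, 0, 0, o2, 1, 0; 0, 0, 0, 0, 0, 1]),
      (some 0, !![1, 0, 0, o2, 0, 0; 0, 1, 0, 0, 0, 0; 0, 0, 1, 0, 0, o2; 0, 0, 0, 1, 0, 0; 0, 0, 0, 0, 1, 0; 0, 0, 0, 0, 0, 1])], root := 10, par := o2 },
  { ts := [o, o, o, o, o], c := o2, xm := !![o, 0, 1, 1, o2, 0; 0, o, 1, 1, 0, o2; 1, 1, 1, 0, 1, 1; 1, 1, 0, 1, 1, 1; o2, 0, 1, 1, o, 0; 0, o2, 1, 1, 0, o],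
    startX := true, steps := [(some 1, !![o2, 0, 1, 1, o2, 0; 1, o, o, 1, 0, o2; 1, 1, 0, 0, 1, 1; o2, 1, 0, 0, o, 1; o, 0, 1, 1, o, 0; 0, o, o2, 1, 1, o2]),
      (some 3, !![o, o2, 1, 1, o2, 0; o2, o, o, o, 0, o2; o2, o2, 1, 0, o, 1; o2, o2, 0, 1, o, 1; 0, 0, o2, o2, o, o2; 0, 0, o2, o2, o2, o]),
      (some 2, !![o, o, o, 1, o2, 0; 0, 0, o, o, 0, o2; o, o2, o2, 0, o, 1; o, o, 0, o2, o, o; 1, 0, o, o2, 0, o; 0, 1, o, o, 0, o]),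
      (none, !![1, 0, 0, o, 0, 0; 0, 1, 0, 0, 0, 0; 0, 0, 1, 0, 0, o; 0, 0, 0, 1, 0, 0; 0, 0, 0, 0, 1, 0; 0, 0, 0, 0, 0, 1])], root := 10, par := o }]

/-- All chains. -/
def g2Certs : List (Cert 6) :=
  g2Certs0 ++ g2Certs1 ++ g2Certs2 ++ g2Certs3 ++ g2Certs4 ++ g2Certs5 ++ g2Certs6 ++ g2Certs7 ++ g2Certs8 ++ g2Certs9 ++ g2Certs10 ++ g2Certs11

end Cfsg.Agent.Lie.SubMax.Small
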