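import Cfsg.Agent.Lib.Lie.SubMax.SmallModel
import Cfsg.Agent.Lib.Lie.SubMax.SmallDataG2

/-!
Chains of type G2 over the field with four elements, checked.
-/

set_option autoImplicit false
set_option maxRecDepth 100000

namespace Cfsg.Agent.Lie.SubMax

open Cfsg.Lie

namespace Small

theorem g2Certs6_ok : g2Certs6.all (chk chevG2 gmG2) = true := by decide +kernel

theorem g2Certs7_ok : g2Certs7.all (chk chevG2 gmG2) = true := by decide +kernel

theorem g2Certs8_ok : g2Certs8.all (chk chevG2 gmG2) = true := by decide +kernel

theorem g2Certs9_ok : g2Certs9.all (chk chevG2 gmG2) = true := by decide +kernel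

theorem g2Certs10_ok : g2Certs10.all (chk chevG2 gmG2) = true := by decide +kernel

theorem g2Certs11_ok : g2Certs11.all (chk chevG2 gmG2) = true := by decide +kernel

end Small

end Cfsg.Agent.Lie.SubMax
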