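import Cfsg.Agent.Lib.Lie.SubMax.SmallModel
import Cfsg.Agent.Lib.Lie.SubMax.SmallG2Lo
import Cfsg.Agent.Lib.Lie.SubMax.SmallG2Hi
import Cfsg.Agent.Lib.Lie.SubMax.GTwo

/-!
Type G2 over the field with four elements.
-/

set_option autoImplicit false
set_option maxRecDepth 100000

namespace Cfsg.Agent.Lie.SubMax

open Cfsg.Lie

namespace Small

theorem g2Certs_ok : g2Certs.all (chk chevG2 gmG2) = true := by
  simp only [g2Certs, List.all_append, g2Certs0_ok, g2Certs1_ok, g2Certs2_ok, g2Certs3_ok, g2Certs4_ok, g2Certs5_ok, g2Certs6_ok, g2Certs7_ok, g2Certs8_ok, g2Certs9_ok, g2Certs10_ok, g2Certs11_ok, Bool.and_self]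

theorem g2Certs_cover : cover chevG2 g2Certs = true := by decide +kernel

end Small

theorem lowRational_gTwo_two {F : Type*} [Field F] [Fintype F] (hF : Facts chevG2) (hR : okRad chevG2 = true)
    {K₀ : Subfield F} (h01 : ∀ k ∈ K₀, k = 0 ∨ k = 1)
    (h4 : ∀ H : Subgroup (GL chevG2.Idx F), Thin hF K₀ H → ∀ (t : ℕ → F) (z c : F), c ≠ 0 →
      low hF t z c ∈ H → (∀ r ∈ q1 chevG2, t r ^ 4 = t r) ∧ z ^ 4 = z ∧ c ^ 4 = c) : LowRational hF K₀ := by
  have h2 := Small.two_eq_zero_of_small h01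
  haveI : CharP F 2 := CharTwo.of_one_ne_zero_of_two_eq_zero one_ne_zero h2
  by_cases hroot : ∃ a : F, a * a = a + 1
  · obtain ⟨a, ha⟩ := hroot
    obtain ⟨f⟩ := Small.exists_hom_of_root ha
    obtain ⟨M⟩ := Small.exists_modelG2 hF f
    exact Small.lowRational hF hR M h01 h4 Small.g2Certs_ok Small.g2Certs_cover
  · rw [not_exists] at hroot
    intro H T t z c hc hlow
    obtain ⟨ht, hz, hc'⟩ := h4 H T t z c hc hlow
    have key : ∀ v : F, v ^ 4 = v → v ∈ K₀ := fun v hv => by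
      rcases Small.zero_one_of_pow_four h2 hroot hv with rfl | rfl
      exacts [zero_mem _, one_mem _]
    exact ⟨fun r hr => key _ (ht r hr), key z hz, key c hc'⟩

end Cfsg.Agent.Lie.SubMax
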