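import Cfsg.Agent.Lib.Lie.SubMax.Fval
import Cfsg.Agent.Lib.Lie.SubMax.SmallG2
import Cfsg.Agent.Lib.Lie.FieldFix
import Cfsg.Agent.Lib.Lie.TorusCerts

/-!
Type G2 over the field with two elements: the coordinates lie in the field with four elements.
-/

set_option autoImplicit false
set_option maxRecDepth 100000

namespace Cfsg.Agent.Lie.SubMax.GTwoF

open Cfsg.Lie Matrix Fval
open scoped MatrixGroups

variable {F : Type*} [Field F]

/-- Signs vanish in characteristic two. -/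
theorem neg_two (h2 : (2 : F) = 0) (x : F) : -x = x := by linear_combination (-x) * h2

/-- The generators over the prime field. -/
def gen0 (r : ℕ) : Matrix (Fin 6) (Fin 6) (ZMod 2) := g2Six r 1

theorem w52 : weights gen0 5 1 [[], [5]] = dirac 5 2 := by decide +kernel
theorem w53 : weights gen0 5 1 [[4], [3], [1], [3, 6], [3, 4], [0, 11], [0, 1], [0, 3], [0, 8], [2, 9], [1, 3],
    [3, 2]] = dirac 5 3 := by decide +kernel
theorem w42 : weights gen0 5 1 [[5], [4], [3], [1], [2], [5, 4], [3, 6], [3, 4], [0, 11], [0, 1], [0, 3], [0, 8],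
    [2, 9], [1, 3], [2, 4], [3, 2]] = dirac 4 2 := by decide +kernel
theorem w43 : weights gen0 5 1 [[], [4], [2], [2, 4]] = dirac 4 3 := by decide +kernel
theorem wz : weights gen0 5 1 [[4], [1], [2], [3, 4], [0, 11], [0, 1], [0, 3], [0, 8], [2, 9], [1, 3], [2, 4],
    [3, 2]] = dirac 3 3 + dirac 4 4 := by decide +kernel

section Action

theorem act0 (t : F) (v : Fin 6 → F) (h2 : (2 : F) = 0) :
    g2Six 0 t *ᵥ v = ![v 0, v 1, v 2, v 3, v 4 + t * v 0, v 5 + t * v 1] := by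
  ext i
  fin_cases i <;> simp [Matrix.mulVec, dotProduct, Fin.sum_univ_six, g2Six, g2Rep, g2Ent, evL, Tm.ev,
    matUnit_apply, Matrix.one_apply, Fin.succAbove, neg_two h2, h2, add_comm]

theorem act6 (t : F) (v : Fin 6 → F) (h2 : (2 : F) = 0) :
    g2Six 6 t *ᵥ v = ![v 0, v 1 + t * v 2, v 2, v 3 + t * v 4, v 4, v 5] := by
  ext i
  fin_cases i <;> simp [Matrix.mulVec, dotProduct, Fin.sum_univ_six, g2Six, g2Rep, g2Ent, evL, Tm.ev,
    matUnit_apply, Matrix.one_apply, Fin.succAbove, neg_two h2, h2]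

theorem act8 (t : F) (v : Fin 6 → F) (h2 : (2 : F) = 0) :
    g2Six 8 t *ᵥ v = ![v 0 + t * v 2, v 1 + t ^ 2 * v 4, v 2, v 3 + t * v 5, v 4, v 5] := by
  ext i
  fin_cases i <;> simp [Matrix.mulVec, dotProduct, Fin.sum_univ_six, g2Six, g2Rep, g2Ent, evL, Tm.ev,
    matUnit_apply, Matrix.one_apply, Fin.succAbove, neg_two h2, h2]

theorem act9 (t : F) (v : Fin 6 → F) (h2 : (2 : F) = 0) :
    g2Six 9 t *ᵥ v = ![v 0 + t ^ 2 * v 5, v 1 + t * v 3, v 2 + t * v 4, v 3, v 4, v 5] := by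
  ext i
  fin_cases i <;> simp [Matrix.mulVec, dotProduct, Fin.sum_univ_six, g2Six, g2Rep, g2Ent, evL, Tm.ev,
    matUnit_apply, Matrix.one_apply, Fin.succAbove, neg_two h2, h2]

theorem act10 (t : F) (v : Fin 6 → F) (h2 : (2 : F) = 0) :
    g2Six 10 t *ᵥ v = ![v 0 + t * v 3, v 1, v 2 + t * v 5, v 3, v 4, v 5] := by
  ext i
  fin_cases i <;> simp [Matrix.mulVec, dotProduct, Fin.sum_univ_six, g2Six, g2Rep, g2Ent, evL, Tm.ev,
    matUnit_apply, Matrix.one_apply, Fin.succAbove, neg_two h2, h2]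

theorem act11 (t : F) (v : Fin 6 → F) (h2 : (2 : F) = 0) :
    g2Six 11 t *ᵥ v = ![v 0 + t * v 4, v 1 + t * v 5, v 2, v 3, v 4, v 5] := by
  ext i
  fin_cases i <;> simp [Matrix.mulVec, dotProduct, Fin.sum_univ_six, g2Six, g2Rep, g2Ent, evL, Tm.ev,
    matUnit_apply, Matrix.one_apply, Fin.succAbove, neg_two h2, h2]

end Action

theorem coeff (h2 : (2 : F) = 0) {φ : chevG2.SteinbergGroup F →* GL (Fin 6) F}
    (hφ : ∀ r t, (φ (chevG2.stGen F r t) : Matrix (Fin 6) (Fin 6) F) = g2Six r t) : Coeff φ 5 1 0 := by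
  have hpos : ∀ r ∈ Facts.posL chevG2, r = 6 ∨ r = 7 ∨ r = 8 ∨ r = 9 ∨ r = 10 ∨ r = 11 := by
    intro r hr
    have := Facts.mem_posL.1 hr
    rw [show chevG2.nroots = 12 from rfl] at this
    omega
  refine ⟨by decide, fun r hr t k => ?_, fun r hr t k => ?_, fun r hr t k hk => ?_, fun β hβ d => ?_⟩
  all_goals simp only [hφ]
  · rcases hpos r hr with rfl | rfl | rfl | rfl | rfl | rfl <;> fin_cases k <;>
      simp [g2Six, g2Rep, g2Ent, evL, Tm.ev, matUnit_apply, Matrix.one_apply, Fin.succAbove]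
  · rcases hpos r hr with rfl | rfl | rfl | rfl | rfl | rfl <;> fin_cases k <;>
      simp [g2Six, g2Rep, g2Ent, evL, Tm.ev, matUnit_apply, Matrix.one_apply, Fin.succAbove]
  · rcases hpos r hr with rfl | rfl | rfl | rfl | rfl | rfl <;> fin_cases k <;>
      first
        | exact absurd rfl hk
        | simp [g2Six, g2Rep, g2Ent, evL, Tm.ev, matUnit_apply, Matrix.one_apply, Fin.succAbove]
  · have hl : ∀ β < 12, lg chevG2 β = true → β = 0 ∨ β = 1 ∨ β = 5 ∨ β = 6 ∨ β = 10 ∨ β = 11 := by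
      decide +kernel
    have hn : chevG2.neg (top chevG2) = 0 := by decide +kernel
    have hlt : β < 12 := by
      simp only [lg, Bool.and_eq_true, decide_eq_true_eq] at hβ; exact hβ.1
    rcases hl β hlt hβ with rfl | rfl | rfl | rfl | rfl | rfl <;>
      simp [g2Six, g2Rep, g2Ent, evL, Tm.ev, matUnit_apply, Matrix.one_apply, Fin.succAbove, hn,
        neg_two h2]

variable [Fintype F]

theorem proj_injective (hF : Facts chevG2) : Function.Injective (hF.proj F) := by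
  rw [injective_iff_map_eq_one]
  intro g hg
  have hH : StHyp chevG2 := stHyp_of_mem (by simp)
  exact hF.H0_torus hH (hF.H_le_H0 hH (hF.ker_le_H hH (MonoidHom.mem_ker.2 hg)))
    (Cfsg.Agent.Lie.torus_injective hF kerCertG2) hg

theorem coords_four (hF : Facts chevG2) {K₀ : Subfield F} (h01 : ∀ k ∈ K₀, k = 0 ∨ k = 1)
    (H : Subgroup (GL chevG2.Idx F)) (T : Thin hF K₀ H) (t : ℕ → F) (z c : F) (hc : c ≠ 0)
    (hlow : low hF t z c ∈ H) : (∀ r ∈ q1 chevG2, t r ^ 4 = t r) ∧ z ^ 4 = z ∧ c ^ 4 = c := by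
  have h2 := Small.two_eq_zero_of_small h01
  have hR := okG2.2
  have hC := okG2.1
  haveI : CharP F 2 := CharTwo.of_one_ne_zero_of_two_eq_zero one_ne_zero h2
  have hlt : lg chevG2 (top chevG2) = true := by
    have := hC; simp only [okClimb, Bool.and_eq_true] at this; exact this.1
  have hq : q1 chevG2 = [6, 8, 9, 10] := by decide +kernel
  have h6 : (6 : ℕ) ∈ q1 chevG2 := by simp [hq]
  have l6 : lg chevG2 6 = true := by decide +kernel
  have o6 : opp chevG2 6 = 10 := by decide +kernel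
  have O6 := oppData okOppG2 h6 l6
  have hone : ∀ x ∈ K₀, x ^ 4 = x := fun x hx => by rcases h01 x hx with rfl | rfl <;> simp
  have h4 : ∀ (t : ℕ → F) (z c : F), c ≠ 0 → low hF t z c ∈ H → c ^ 4 = c := fun t z c hc hl => by
    by_cases ha : t (opp chevG2 6) ∈ K₀
    · exact hone _ (T.c_mem hF hR hlt h6 O6 ha hl)
    · exact (T.long_four hF hR hlt h6 l6 O6 hc hl ha).2.2.2
  have hc4 := h4 t z c hc hlow
  obtain ⟨φ, hφ⟩ := exists_g2Six (F := F)
  set ι : ZMod 2 →+* F := ZMod.castHom dvd_rfl F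
  have hgen : ∀ r, (φ (chevG2.stGen F r 1) : Matrix (Fin 6) (Fin 6) F) = ι.mapMatrix (gen0 r) := fun r => by
    rw [hφ, RingHom.mapMatrix_apply, gen0, g2Six_map, map_one]
  set W := chevG2.stGen F 6 (t 6) * chevG2.stGen F 8 (t 8) * chevG2.stGen F 9 (t 9) * chevG2.stGen F 10 (t 10) *
    chevG2.stGen F 11 z
  set X := W * chevG2.stGen F 0 c * W⁻¹ with hXdef
  have htop : top chevG2 = 11 := rfl
  have hn : chevG2.neg (top chevG2) = 0 := by decide +kernel
  have hpX : hF.proj F X = low hF t z c := by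
    simp [X, W, low, htop, hn, map_mul, map_inv, hF.proj_x, qE, lineWord, hq, hF.wg_cons, hF.wg_nil, mul_assoc,
      show chevG2.neg 11 = 0 by decide +kernel]
  obtain ⟨m, hm, e, he, hconj⟩ := long_conj hF hC K₀ (top chevG2) hlt
  have he' : e * e = 1 := he
  have hgG : qE hF t * hF.xg (top chevG2) z * m ∈ chevG2.group F := by
    refine mul_mem (mul_mem ?_ (hF.xg_mem_group _ _)) (rat_le_group hF (K₀ := K₀) hm)
    simp only [qE, lineWord, hq, List.map_cons, List.map_nil, hF.wg_cons, hF.wg_nil, mul_one]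
    exact mul_mem (hF.xg_mem_group _ _) (mul_mem (hF.xg_mem_group _ _)
      (mul_mem (hF.xg_mem_group _ _) (hF.xg_mem_group _ _)))
  have hconjX : hF.proj F X = qE hF t * hF.xg (top chevG2) z * m * hF.xg (top chevG2) (e * c) *
      (qE hF t * hF.xg (top chevG2) z * m)⁻¹ := by
    have h := hconj (e * c)
    rw [← mul_assoc, he', one_mul] at h
    rw [hpX, low, ← h]; group
  have hec : e * c ≠ 0 := mul_ne_zero (fun h => by simp [h] at he') hc
  have key : ∀ {Cw} (L : List (List ℕ)), weights gen0 5 1 L = Cw →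
      (wsum ι Cw (φ X : Matrix (Fin 6) (Fin 6) F)) ^ 4 = wsum ι Cw (φ X : Matrix (Fin 6) (Fin 6) F) :=
    fun L hL => wsum_four hF hR hC (proj_injective hF) (coeff h2 hφ) h4 T.le h2 ι hgen
      (by rw [hpX]; exact hlow) hgG hec hconjX L hL
  have hneg : ∀ x : F, -x = x := fun x => neg_two h2 x
  have hWinv : W⁻¹ = chevG2.stGen F 11 z * chevG2.stGen F 10 (t 10) * chevG2.stGen F 9 (t 9) *
      chevG2.stGen F 8 (t 8) * chevG2.stGen F 6 (t 6) := by
    simp only [W, _root_.mul_inv_rev, stGen_inv hF, hneg, mul_assoc]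
  have hval : ∀ i j, (φ X : Matrix (Fin 6) (Fin 6) F) i j =
      (g2Six 6 (t 6) *ᵥ (g2Six 8 (t 8) *ᵥ (g2Six 9 (t 9) *ᵥ (g2Six 10 (t 10) *ᵥ (g2Six 11 z *ᵥ (g2Six 0 c *ᵥ
        (g2Six 11 z *ᵥ (g2Six 10 (t 10) *ᵥ (g2Six 9 (t 9) *ᵥ (g2Six 8 (t 8) *ᵥ (g2Six 6 (t 6) *ᵥ
          Pi.single j 1))))))))))) i := by
    intro i j
    simp only [Matrix.mulVec_mulVec]
    rw [Matrix.mulVec_single_one, Matrix.col_apply]
    rw [hXdef, hWinv]
    simp only [W, map_mul, Units.val_mul, hφ, mul_assoc]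
  have k52 := key _ w52
  have k53 := key _ w53
  have k42 := key _ w42
  have k43 := key _ w43
  have kz := key _ wz
  rw [wsum_dirac] at k52 k53 k42 k43
  rw [wsum_add, wsum_dirac, wsum_dirac] at kz
  simp only [hval, act0 _ _ h2, act6 _ _ h2, act8 _ _ h2, act9 _ _ h2, act10 _ _ h2, act11 _ _ h2] at k52 k53 k42 k43
  simp at k52 k53 k42 k43
  have hdiv : ∀ x : F, (x * c) ^ 4 = x * c → x ^ 4 = x := fun x h => by
    rw [_root_.mul_pow, hc4] at h
    exact mul_right_cancel₀ hc h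
  have t6 : t 6 ^ 4 = t 6 := hdiv _ (by ring_nf at k52 ⊢; simpa [h2] using k52)
  have t9 : t 9 ^ 4 = t 9 := hdiv _ (by ring_nf at k53 ⊢; simpa [h2] using k53)
  have t8 : t 8 ^ 4 = t 8 := hdiv _ (by ring_nf at k42 ⊢; simpa [h2] using k42)
  have t10 : t 10 ^ 4 = t 10 := hdiv _ (by ring_nf at k43 ⊢; simpa [h2] using k43)
  have vz : (φ X : Matrix (Fin 6) (Fin 6) F) 3 3 + (φ X : Matrix (Fin 6) (Fin 6) F) 4 4 =
      (t 8 * t 9 + z) * c := by
    simp only [hval, act0 _ _ h2, act6 _ _ h2, act8 _ _ h2, act9 _ _ h2, act10 _ _ h2, act11 _ _ h2]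
    simp
    ring_nf
    simp [h2, show (4 : F) = 0 by linear_combination (2 : F) * h2]
  rw [vz] at kz
  have hz : (t 8 * t 9 + z) ^ 4 = t 8 * t 9 + z := hdiv _ kz
  refine ⟨fun r hr => ?_, ?_, hc4⟩
  · rw [hq] at hr
    simp only [List.mem_cons, List.not_mem_nil, or_false] at hr
    rcases hr with rfl | rfl | rfl | rfl <;> assumption
  · rw [add_pow_four h2, _root_.mul_pow, t8, t9] at hz
    exact add_left_cancel hz

end Cfsg.Agent.Lie.SubMax.GTwoF
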