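import Cfsg.Agent.Lib.Lie.SubMax.FastTables
import Cfsg.Agent.Lib.Lie.FactsF4
import Cfsg.Agent.Lib.Lie.FactsE6
import Cfsg.Agent.Lib.Lie.FactsE7
import Cfsg.Agent.Lib.Lie.FactsE8

/-!
The tables of the large types, evaluated through the certificates.
-/

set_option autoImplicit false
set_option maxRecDepth 100000

namespace Cfsg.Agent.Lie.SubMax

open Cfsg.Lie

theorem okClimbF4_fast : okClimbG chevF4 (fastOps certF4 chevF4) = true := by decide +kernel

theorem okRadF4_fast : okRadG chevF4 (fastOps certF4 chevF4) = true := by decide +kernel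

theorem okOppF4_fast : okOppG chevF4 (fastOps certF4 chevF4) = true := by decide +kernel

theorem okEdgeF4_fast : okEdgeG chevF4 (fastOps certF4 chevF4) = true := by decide +kernel

theorem okTorusF4_fast : okTorusG chevF4 (fastOps certF4 chevF4) = true := by decide +kernel

theorem okGenF4_fast : okGenG chevF4 (fastOps certF4 chevF4) = true := by decide +kernel

theorem okF4 : okClimb chevF4 = true ∧ okRad chevF4 = true :=
  ⟨(ok_of_fast certF4_okShape certF4_okChain).1 okClimbF4_fast, (ok_of_fast certF4_okShape certF4_okChain).2.1 okRadF4_fast⟩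

theorem okOppF4 : okOpp chevF4 = true := (ok_of_fast certF4_okShape certF4_okChain).2.2.1 okOppF4_fast

theorem okEdgeF4 : okEdge chevF4 = true := (ok_of_fast certF4_okShape certF4_okChain).2.2.2.1 okEdgeF4_fast

theorem okTorusF4 : okTorus chevF4 = true := (ok_of_fast certF4_okShape certF4_okChain).2.2.2.2.1 okTorusF4_fast

theorem okGenF4 : okGen chevF4 = true := (ok_of_fast certF4_okShape certF4_okChain).2.2.2.2.2 okGenF4_fast

theorem okTopE6 : okTopG chevE6 (fastOps certE6 chevE6) = true := by decide +kernel

theorem okAscentE6 : okAscentG chevE6 (fastOps certE6 chevE6) = true := by decide +kernel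

theorem okClimbE6_fast : okClimbG chevE6 (longOps certE6 chevE6) = true := by decide +kernel

theorem okRadE6_fast : okRadG chevE6 (longOps certE6 chevE6) = true := by decide +kernel

theorem okOppE6_fast : okOppG chevE6 (longOps certE6 chevE6) = true := by decide +kernel

theorem okEdgeE6_fast : okEdgeG chevE6 (longOps certE6 chevE6) = true := by decide +kernel

theorem okTorusE6_fast : okTorusG chevE6 (longOps certE6 chevE6) = true := by decide +kernel

theorem okGenE6_fast : okGenG chevE6 (longOps certE6 chevE6) = true := by decide +kernel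

theorem okE6 : okClimb chevE6 = true ∧ okRad chevE6 = true :=
  ⟨(ok_of_long factsE6 certE6_okShape certE6_okChain okTopE6 okAscentE6).1 okClimbE6_fast, (ok_of_long factsE6 certE6_okShape certE6_okChain okTopE6 okAscentE6).2.1 okRadE6_fast⟩

theorem okOppE6 : okOpp chevE6 = true := (ok_of_long factsE6 certE6_okShape certE6_okChain okTopE6 okAscentE6).2.2.1 okOppE6_fast

theorem okEdgeE6 : okEdge chevE6 = true := (ok_of_long factsE6 certE6_okShape certE6_okChain okTopE6 okAscentE6).2.2.2.1 okEdgeE6_fast

theorem okTorusE6 : okTorus chevE6 = true := (ok_of_long factsE6 certE6_okShape certE6_okChain okTopE6 okAscentE6).2.2.2.2.1 okTorusE6_fast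

theorem okGenE6 : okGen chevE6 = true := (ok_of_long factsE6 certE6_okShape certE6_okChain okTopE6 okAscentE6).2.2.2.2.2 okGenE6_fast

theorem okTopE7 : okTopG chevE7 (fastOps certE7 chevE7) = true := by decide +kernel

theorem okAscentE7 : okAscentG chevE7 (fastOps certE7 chevE7) = true := by decide +kernel

theorem okClimbE7_fast : okClimbG chevE7 (longOps certE7 chevE7) = true := by decide +kernel

theorem okRadE7_fast : okRadG chevE7 (longOps certE7 chevE7) = true := by decide +kernel

theorem okOppE7_fast : okOppG chevE7 (longOps certE7 chevE7) = true := by decide +kernel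

theorem okEdgeE7_fast : okEdgeG chevE7 (longOps certE7 chevE7) = true := by decide +kernel

theorem okTorusE7_fast : okTorusG chevE7 (longOps certE7 chevE7) = true := by decide +kernel

theorem okGenE7_fast : okGenG chevE7 (longOps certE7 chevE7) = true := by decide +kernel

theorem okE7 : okClimb chevE7 = true ∧ okRad chevE7 = true :=
  ⟨(ok_of_long factsE7 certE7_okShape certE7_okChain okTopE7 okAscentE7).1 okClimbE7_fast, (ok_of_long factsE7 certE7_okShape certE7_okChain okTopE7 okAscentE7).2.1 okRadE7_fast⟩

theorem okOppE7 : okOpp chevE7 = true := (ok_of_long factsE7 certE7_okShape certE7_okChain okTopE7 okAscentE7).2.2.1 okOppE7_fast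

theorem okEdgeE7 : okEdge chevE7 = true := (ok_of_long factsE7 certE7_okShape certE7_okChain okTopE7 okAscentE7).2.2.2.1 okEdgeE7_fast

theorem okTorusE7 : okTorus chevE7 = true := (ok_of_long factsE7 certE7_okShape certE7_okChain okTopE7 okAscentE7).2.2.2.2.1 okTorusE7_fast

theorem okGenE7 : okGen chevE7 = true := (ok_of_long factsE7 certE7_okShape certE7_okChain okTopE7 okAscentE7).2.2.2.2.2 okGenE7_fast

theorem okTopE8 : okTopG chevE8 (fastOps certE8 chevE8) = true := by decide +kernel

theorem okAscentE8 : okAscentG chevE8 (fastOps certE8 chevE8) = true := by decide +kernel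

theorem okClimbE8_fast : okClimbG chevE8 (longOps certE8 chevE8) = true := by decide +kernel

theorem okRadE8_fast : okRadG chevE8 (longOps certE8 chevE8) = true := by decide +kernel

theorem okOppE8_fast : okOppG chevE8 (longOps certE8 chevE8) = true := by decide +kernel

theorem okEdgeE8_fast : okEdgeG chevE8 (longOps certE8 chevE8) = true := by decide +kernel

theorem okTorusE8_fast : okTorusG chevE8 (longOps certE8 chevE8) = true := by decide +kernel

theorem okGenE8_fast : okGenG chevE8 (longOps certE8 chevE8) = true := by decide +kernel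

theorem okE8 : okClimb chevE8 = true ∧ okRad chevE8 = true :=
  ⟨(ok_of_long factsE8 certE8_okShape certE8_okChain okTopE8 okAscentE8).1 okClimbE8_fast, (ok_of_long factsE8 certE8_okShape certE8_okChain okTopE8 okAscentE8).2.1 okRadE8_fast⟩

theorem okOppE8 : okOpp chevE8 = true := (ok_of_long factsE8 certE8_okShape certE8_okChain okTopE8 okAscentE8).2.2.1 okOppE8_fast

theorem okEdgeE8 : okEdge chevE8 = true := (ok_of_long factsE8 certE8_okShape certE8_okChain okTopE8 okAscentE8).2.2.2.1 okEdgeE8_fast

theorem okTorusE8 : okTorus chevE8 = true := (ok_of_long factsE8 certE8_okShape certE8_okChain okTopE8 okAscentE8).2.2.2.2.1 okTorusE8_fast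

theorem okGenE8 : okGen chevE8 = true := (ok_of_long factsE8 certE8_okShape certE8_okChain okTopE8 okAscentE8).2.2.2.2.2 okGenE8_fast

theorem fastLongE6 : (q1G chevE6 (longOps certE6 chevE6)).all (longOps certE6 chevE6).long = true ∧
    46 ∈ q1G chevE6 (longOps certE6 chevE6) := by decide +kernel

theorem allLongE6 : (q1 chevE6).all (lg chevE6) = true ∧ (46 : ℕ) ∈ q1 chevE6 := by
  have := fastLongE6
  rwa [longOps_eq factsE6 certE6_okShape certE6_okChain okTopE6 okAscentE6] at this

theorem fastLongE7 : (q1G chevE7 (longOps certE7 chevE7)).all (longOps certE7 chevE7).long = true ∧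
    93 ∈ q1G chevE7 (longOps certE7 chevE7) := by decide +kernel

theorem allLongE7 : (q1 chevE7).all (lg chevE7) = true ∧ (93 : ℕ) ∈ q1 chevE7 := by
  have := fastLongE7
  rwa [longOps_eq factsE7 certE7_okShape certE7_okChain okTopE7 okAscentE7] at this

theorem fastLongE8 : (q1G chevE8 (longOps certE8 chevE8)).all (longOps certE8 chevE8).long = true ∧
    120 ∈ q1G chevE8 (longOps certE8 chevE8) := by decide +kernel

theorem allLongE8 : (q1 chevE8).all (lg chevE8) = true ∧ (120 : ℕ) ∈ q1 chevE8 := by
  have := fastLongE8
  rwa [longOps_eq factsE8 certE8_okShape certE8_okChain okTopE8 okAscentE8] at this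

end Cfsg.Agent.Lie.SubMax
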