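import Cfsg.Agent.Lib.Lie.SubMax.Rational

/-!
Two long roots of level one exclude irrational long coordinates.
-/

set_option autoImplicit false

namespace Cfsg.Agent.Lie.SubMax

open Cfsg.Lie Matrix
open scoped MatrixGroups

/-- The table of pairs of long roots of level one. -/
def okEdge (D : ChevalleyDatum) : Bool :=
  ((q1 D).filter (lg D)).all fun b => ((q1 D).filter (lg D)).any fun e =>
    e != b && e != opp D b && (D.commTerms b (D.neg (opp D e))).isEmpty &&
      (D.commTerms e (D.neg (opp D b))).isEmpty &&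
      (D.commTerms (D.neg (opp D b)) (D.neg (opp D e))).isEmpty

theorem edge_spec {D : ChevalleyDatum} (h : okEdge D = true) {b : ℕ} (hb : b ∈ q1 D) (hl : lg D b = true) :
    ∃ e ∈ q1 D, lg D e = true ∧ e ≠ b ∧ e ≠ opp D b ∧ D.commTerms b (D.neg (opp D e)) = [] ∧
      D.commTerms e (D.neg (opp D b)) = [] ∧ D.commTerms (D.neg (opp D b)) (D.neg (opp D e)) = [] := by
  simp only [okEdge, List.all_eq_true, List.any_eq_true, Bool.and_eq_true, bne_iff_ne, List.isEmpty_iff] at h
  obtain ⟨e, he, ⟨⟨⟨h1, h2⟩, h3⟩, h4⟩, h5⟩ := h b (List.mem_filter.2 ⟨hb, hl⟩)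
  exact ⟨e, (List.mem_filter.1 he).1, (List.mem_filter.1 he).2, h1, h2, h3, h4, h5⟩

variable {D : ChevalleyDatum} {F : Type*} [Field F] (hF : Facts D) (hR : okRad D = true)
variable {K₀ : Subfield F} {H : Subgroup (GL D.Idx F)} {t : ℕ → F} {z c : F}

include hF hR in
/-- No long coordinate is irrational when there are two suitable long roots. -/
theorem Thin.edge [Fintype F] (T : Thin hF K₀ H) (hlt : lg D (top D) = true) (hO : okOpp D = true)
    (hE : okEdge D = true) {b : ℕ} (hb : b ∈ q1 D) (hbl : lg D b = true)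
    (hc : c ≠ 0) (hlow : low hF t z c ∈ H) : t (opp D b) ∈ K₀ := by
  by_contra ha
  obtain ⟨e, he, hel, hne, hne', hbe, heb, hgg⟩ := edge_spec hE hb hbl
  have Ob := oppData hO hb hbl
  have Oe := oppData hO he hel
  obtain ⟨N, hN1, hN⟩ := Ob.toTop
  obtain ⟨M, hM1, hM⟩ := Oe.toTop
  obtain ⟨Nu, Nd, P⟩ := planeData (F := F) hF hR hb Ob
  obtain ⟨Mu, Md, Q⟩ := planeData (F := F) hF hR he Oe
  obtain ⟨hbn, hgn, -, -, -, -, -⟩ := opp_side hF hR hb Ob
  obtain ⟨hen, hfn, -, -, -, -, -⟩ := opp_side hF hR he Oe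
  set u := qE hF t * hF.xg (top D) z with hu
  set S := seen u H with hS
  set g := D.neg (opp D b) with hg
  set f := D.neg (opp D e) with hf
  have hne_opp : opp D e ≠ b := fun h => hne' (by rw [← h, Oe.invol])
  have cbe : ∀ x y : F, Commute (hF.xg b x) (hF.xg e y) :=
    xg_commute hF hbn hen (ne_neg_of_pos hF (q1_pos hb) (q1_pos he)) (Ob.other e he hne hne')
  have cbf : ∀ x y : F, Commute (hF.xg b x) (hF.xg f y) :=
    xg_commute hF hbn hfn (fun h => hne_opp (by
      have := congrArg D.neg h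
      rwa [hf, hF.neg_neg (q1_pos Oe.mem).2, hF.neg_neg hbn] at this)) hbe
  have ceg : ∀ x y : F, Commute (hF.xg e x) (hF.xg g y) :=
    xg_commute hF hen hgn (fun h => hne' (by
      have := congrArg D.neg h
      rw [hg, hF.neg_neg (q1_pos Ob.mem).2, hF.neg_neg hen] at this
      exact this.symm)) heb
  have cgf : ∀ x y : F, Commute (hF.xg g x) (hF.xg f y) :=
    xg_commute hF hgn hfn (fun h => ne_neg_of_pos hF (q1_pos Oe.mem) (q1_pos Ob.mem) (by
      rw [hg, hF.neg_neg (q1_pos Ob.mem).2] at h; exact h.symm)) hgg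
  obtain ⟨hsmall, K₁, hK₁, haK, hcK, hdec⟩ := T.long_irrational hF hR hlt hb hbl Ob hc hlow ha
  have hcast : ∀ n : ℤ, (n : F) ∈ K₁ := intCast_mem K₁
  -- the lifts
  have hline : ∀ μ ∈ K₁, ∃ s, hF.xg (top D) μ * hF.xg b s ∈ S := fun μ hμ => by
    obtain ⟨x, hx, hy⟩ := hdec μ hμ
    refine ⟨(N : F) * x, ?_⟩
    rw [(P.ctb μ _).eq, hS, hu, root_seen_iff hF hR hb Ob.part hN]
    exact T.le (mul_mem (xg_mem_rat hF K₀ _ (mul_mem (natAbs_one_mem K₀) hx)) (xg_mem_rat hF K₀ _ (by
      rwa [show μ - (N : F) * ((N : F) * x) * t (opp D b) = μ - (N : F) * N * x * t (opp D b) by ring,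
        natAbs_one_cast hN1, one_mul])))
  by_cases ha' : t (opp D e) ∈ K₀
  · have h1 := T.pure_mem hF hR (z := z) he Oe.part ha' (one_mem K₀)
    have h2 := mul_mem (mul_mem (bot_seen hF hlow) h1) (inv_mem (bot_seen hF hlow))
    rw [Q.cd, mul_one] at h2
    have h3 := (Subgroup.mul_mem_cancel_left _ h1).1 h2
    refine ha ?_
    have key : ∀ μ ∈ K₁, (Mu : F) * μ * ((Md : F) * c) ∈ K₀ := fun μ hμ => by
      obtain ⟨s, hs⟩ := hline μ hμ
      have h4 := mul_mem (mul_mem hs h3) (inv_mem hs)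
      have e1 : hF.xg (top D) μ * hF.xg b s * hF.xg f ((Md : F) * c) * (hF.xg (top D) μ * hF.xg b s)⁻¹ =
          hF.xg f ((Md : F) * c) * hF.xg e ((Mu : F) * μ * ((Md : F) * c)) := by
        rw [mul_assoc (hF.xg (top D) μ), (cbf s _).eq, ← Q.cu]
        group
        rfl
      rw [e1] at h4
      exact T.pure_rational hF hR hlt he Oe ((Subgroup.mul_mem_cancel_left _ h3).1 h4)
    have hne0 : (Mu : F) * ((Md : F) * c) ≠ 0 :=
      mul_ne_zero (intCast_ne_zero_of_natAbs_one Q.nu F) (mul_ne_zero (intCast_ne_zero_of_natAbs_one Q.nd F) hc)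
    have h5 := key (t (opp D b) * ((Mu : F) * ((Md : F) * c))⁻¹)
      (mul_mem haK (inv_mem (mul_mem (hcast _) (mul_mem (hcast _) hcK))))
    rwa [show (Mu : F) * (t (opp D b) * ((Mu : F) * ((Md : F) * c))⁻¹) * ((Md : F) * c) =
      t (opp D b) * (((Mu : F) * ((Md : F) * c))⁻¹ * ((Mu : F) * ((Md : F) * c))) by ring,
      inv_mul_cancel₀ hne0, mul_one] at h5
  · have heK : t (opp D e) ∈ K₁ := by
      obtain ⟨h2, -, hsq, -⟩ := T.long_four hF hR hlt hb hbl Ob hc hlow ha
      obtain ⟨-, -, hsq', -⟩ := T.long_four hF hR hlt he hel Oe hc hlow ha'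
      have h0 : (t (opp D e) - t (opp D b)) * (t (opp D e) + t (opp D b) - 1) = 0 := by
        linear_combination hsq' - hsq
      rcases mul_eq_zero.1 h0 with h | h
      · rw [sub_eq_zero.1 h]; exact haK
      · rw [show t (opp D e) = 1 - t (opp D b) by linear_combination h]
        exact sub_mem (one_mem _) haK
    obtain ⟨x, hx, hy⟩ := hdec (t (opp D e)) heK
    obtain rfl | rfl := hsmall x hx
    · exact ha' (by simpa using hy)
    rw [one_mul] at hy
    have hb1 : hF.xg b (N : F) * hF.xg (top D) (t (opp D b)) ∈ S := by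
      rw [hS, hu, root_seen_iff hF hR hb Ob.part hN,
        natAbs_one_cast hN1, one_mul, sub_self, hF.xg_zero, mul_one]
      exact T.le (xg_mem_rat hF K₀ _ (natAbs_one_mem K₀))
    have he1 : hF.xg e (M : F) * hF.xg (top D) (t (opp D e)) ∈ S := by
      rw [hS, hu, root_seen_iff hF hR he Oe.part hM,
        natAbs_one_cast hM1, one_mul, sub_self, hF.xg_zero, mul_one]
      exact T.le (xg_mem_rat hF K₀ _ (natAbs_one_mem K₀))
    have hE1 : hF.xg b (N : F) * hF.xg e (-(M : F)) ∈ S := by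
      have h1 := mul_mem (mul_mem hb1 (inv_mem he1)) (top_seen hF hR (t := t) (z := z) T.le hy)
      convert h1 using 1
      rw [_root_.mul_inv_rev, ← hF.xg_neg, ← hF.xg_neg, ← mul_assoc, mul_assoc (hF.xg b (N : F)) (hF.xg (top D) _),
        ← hF.xg_add, mul_assoc (hF.xg b (N : F)) (hF.xg (top D) _) (hF.xg e _), (Q.ctb _ _).eq,
        mul_assoc (hF.xg b (N : F)), mul_assoc (hF.xg e _), ← hF.xg_add,
        show t (opp D b) + -t (opp D e) + (t (opp D e) - t (opp D b)) = 0 by ring, hF.xg_zero, mul_one]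
    have hW : hF.xg g ((Nd : F) * c * N) * hF.xg f ((Md : F) * c * -(M : F)) ∈ S := by
      have h2 := mul_mem (mul_mem (bot_seen hF hlow) hE1) (inv_mem (bot_seen hF hlow))
      have e1 : hF.xg (D.neg (top D)) c * (hF.xg b (N : F) * hF.xg e (-(M : F))) * (hF.xg (D.neg (top D)) c)⁻¹ =
          hF.xg b (N : F) * hF.xg e (-(M : F)) *
            (hF.xg g ((Nd : F) * c * N) * hF.xg f ((Md : F) * c * -(M : F))) := by
        rw [← conj_mul, P.cd, Q.cd, mul_assoc (hF.xg b (N : F)), ← mul_assoc (hF.xg g _), ← (ceg _ _).eq]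
        simp only [mul_assoc]
        rfl
      rw [e1] at h2
      exact (Subgroup.mul_mem_cancel_left _ hE1).1 h2
    have key : ∀ μ ∈ K₁, (Nu : F) * μ * ((Nd : F) * c * N) ∈ K₀ := fun μ hμ => by
      obtain ⟨s, hs⟩ := hline μ hμ
      set A := (Nu : F) * μ * ((Nd : F) * c * N)
      set B := (Mu : F) * μ * ((Md : F) * c * -(M : F))
      have h4 := mul_mem (mul_mem hs hW) (inv_mem hs)
      have e1 : hF.xg (top D) μ * hF.xg b s * (hF.xg g ((Nd : F) * c * N) * hF.xg f ((Md : F) * c * -(M : F))) *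
            (hF.xg (top D) μ * hF.xg b s)⁻¹ =
          hF.xg g ((Nd : F) * c * N) * hF.xg f ((Md : F) * c * -(M : F)) * (hF.xg b A * hF.xg e B) := by
        rw [mul_assoc (hF.xg (top D) μ), ((P.cbg s _).mul_right (cbf s _)).eq, ← mul_assoc,
          _root_.mul_inv_rev, ← mul_assoc, mul_inv_cancel_right, ← conj_mul, P.cu, Q.cu,
          mul_assoc (hF.xg g _), ← mul_assoc (hF.xg b A), (cbf A _).eq]
        simp only [mul_assoc, B]
      rw [e1] at h4
      have h5 := (Subgroup.mul_mem_cancel_left _ hW).1 h4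
      rw [hS, hu, mem_seen, ← conj_mul, frame_conj hF hR hb Ob.part hN, frame_conj hF hR he Oe.part hM] at h5
      set C1 := -((N : F) * A * t (opp D b))
      set C2 := -((M : F) * B * t (opp D e))
      rw [mul_assoc (hF.xg b A), ← mul_assoc (hF.xg (top D) C1), (Q.ctb C1 B).eq, mul_assoc (hF.xg e B),
        ← hF.xg_add] at h5
      have hgn' := (q1_pos Ob.mem).2
      have hg1 : hF.xg (opp D b) (1 : F) ∈ H := T.le (xg_mem_rat hF K₀ _ (one_mem _))
      have c1 : Commute (hF.xg e B) (hF.xg (opp D b) (1 : F)) :=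
        xg_commute hF hen hgn' (ne_neg_of_pos hF (q1_pos he) (q1_pos Ob.mem))
          (Oe.other _ Ob.mem (fun h => hne' h.symm) (fun h => hne (by rw [← Oe.invol, ← h, Ob.invol]))) B 1
      have c2 := top_central hF hR (List.mem_cons_of_mem _ Ob.mem) (1 : F) (C1 + C2)
      have hswap := swap_one hF hbn hgn' Ob.ne (ne_neg_of_pos hF (q1_pos hb) (q1_pos Ob.mem)) hN A (1 : F)
      set w := hF.xg e B * hF.xg (top D) (C1 + C2) with hw
      have c3 : Commute (hF.xg (opp D b) (1 : F)) w := c1.symm.mul_right c2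
      set W := hF.xg (top D) (-((N : F) * A * 1))
      have c4 : Commute w W := ((Q.ctb _ B).symm).mul_left (xg_self_commute hF (top D) _ _)
      have h6 : hF.xg (opp D b) (1 : F) * (hF.xg b A * w) * (hF.xg (opp D b) 1)⁻¹ = hF.xg b A * w * W := by
        have c5 : Commute (hF.xg (opp D b) (1 : F)) W := top_central hF hR (List.mem_cons_of_mem _ Ob.mem) _ _
        rw [← mul_assoc (hF.xg (opp D b) (1 : F)), hswap, mul_assoc (hF.xg b A) (hF.xg (opp D b) 1), c5.eq,
          mul_assoc (hF.xg b A) (_ * _) w, mul_assoc W, c3.eq, ← mul_assoc W w, ← c4.eq]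
        group
      have h7 := mul_mem (mul_mem hg1 h5) (inv_mem hg1)
      rw [h6] at h7
      have h8 := mul_mem (natAbs_one_mem K₀ (N := N)) (neg_mem (T.long _ hlt _ ((Subgroup.mul_mem_cancel_left _ h5).1 h7)))
      rwa [neg_neg, mul_one, ← mul_assoc, natAbs_one_cast hN1, one_mul] at h8
    have hne0 : (Nu : F) * ((Nd : F) * c * N) ≠ 0 := mul_ne_zero (intCast_ne_zero_of_natAbs_one P.nu F)
      (mul_ne_zero (mul_ne_zero (intCast_ne_zero_of_natAbs_one P.nd F) hc) (intCast_ne_zero_of_natAbs_one hN1 F))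
    refine ha ?_
    have h5 := key (t (opp D b) * ((Nu : F) * ((Nd : F) * c * N))⁻¹)
      (mul_mem haK (inv_mem (mul_mem (hcast _) (mul_mem (mul_mem (hcast _) hcK) (hcast _)))))
    rwa [show (Nu : F) * (t (opp D b) * ((Nu : F) * ((Nd : F) * c * N))⁻¹) * ((Nd : F) * c * N) =
      t (opp D b) * (((Nu : F) * ((Nd : F) * c * N))⁻¹ * ((Nu : F) * ((Nd : F) * c * N))) by ring,
      inv_mul_cancel₀ hne0, mul_one] at h5

end Cfsg.Agent.Lie.SubMax
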