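import Cfsg.Agent.Lib.Lie.SubMax.Short
import Cfsg.Agent.Lib.Lie.SubMax.Edge
import Cfsg.Agent.Lib.Lie.SubMax.Centralizer

/-!
The remaining tables, evaluated.
-/

set_option autoImplicit false
set_option maxRecDepth 100000

namespace Cfsg.Agent.Lie.SubMax

open Cfsg.Lie

theorem okShortF4 : okShort chevF4 = true := by decide +kernel

theorem okEdgeD4 : okEdge chevD4 = true := by decide +kernel

theorem okGenG2 : okGen chevG2 = true := by decide +kernel
theorem okGenB2 : okGen chevB2 = true := by decide +kernel
theorem okGenD4 : okGen chevD4 = true := by decide +kernel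

theorem okTorusG2 : okTorus chevG2 = true := by decide +kernel
theorem okTorusB2 : okTorus chevB2 = true := by decide +kernel
theorem okTorusD4 : okTorus chevD4 = true := by decide +kernel

end Cfsg.Agent.Lie.SubMax
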