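import Cfsg.Agent.Lib.Lie.SubMax.EdgeTypes
import Cfsg.Agent.Lib.Lie.SubMax.GTwoFour
import Cfsg.Agent.Lib.Lie.SubMax.BTwoFour
import Cfsg.Agent.Lib.Lie.SubMax.TablesShort
import Cfsg.Agent.Lib.Lie.SubMax.TablesLarge
import Cfsg.Agent.Lib.Lie.AllFacts

/-!
The hypotheses of the overgroup theorem for the seven types.
-/

set_option autoImplicit false

namespace Cfsg.Agent.Lie.SubMax

open Cfsg.Lie

set_option maxRecDepth 100000

theorem allLongD4 : (q1 chevD4).all (lg chevD4) = true ∧ (14 : ℕ) ∈ q1 chevD4 := by decide +kernel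
theorem someLongF4 : (24 : ℕ) ∈ q1 chevF4 ∧ lg chevF4 24 = true := by decide +kernel

theorem lt_top_of_climb {D : ChevalleyDatum} (h : okClimb D = true) : lg D (top D) = true := by
  simp only [okClimb, Bool.and_eq_true] at h
  exact h.1

theorem lowRational_allLong {D : ChevalleyDatum} {F : Type*} [Field F] [Fintype F] (hF : Facts D)
    (hR : okRad D = true) (hC : okClimb D = true) (hO : okOpp D = true) (hE : okEdge D = true) {b : ℕ}
    (hb : (q1 D).all (lg D) = true ∧ b ∈ q1 D) {K₀ : Subfield F} : LowRational hF K₀ :=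
  lowRational_of_edge hF hR (lt_top_of_climb hC) hO hE hb.2 (List.all_eq_true.1 hb.1 b hb.2)
    (Or.inl (List.all_eq_true.1 hb.1))

theorem lowRational_gTwo {F : Type*} [Field F] [Fintype F] (hF : Facts chevG2) (K₀ : Subfield F) :
    LowRational hF K₀ := by
  by_cases hbig : ∃ k ∈ K₀, k ≠ 0 ∧ k ≠ 1
  · exact lowRational_gTwo_big hF okG2.2 okG2.1 hbig
  have h01 : ∀ k ∈ K₀, k = 0 ∨ k = 1 := fun k hk => by
    by_contra h; rw [not_or] at h; exact hbig ⟨k, hk, h⟩
  exact lowRational_gTwo_two hF okG2.2 h01 (GTwoF.coords_four hF h01)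

theorem lowRational_bTwo {F : Type*} [Field F] [Fintype F] (hF : Facts chevB2) (K₀ : Subfield F) :
    LowRational hF K₀ := by
  by_cases hbig : ∃ k ∈ K₀, k ≠ 0 ∧ k ≠ 1
  · exact lowRational_bTwo_big hF okB2.2 hbig
  have h01 : ∀ k ∈ K₀, k = 0 ∨ k = 1 := fun k hk => by
    by_contra h; rw [not_or] at h; exact hbig ⟨k, hk, h⟩
  exact lowRational_bTwo_two hF okB2.2 h01 (BTwoF.coords_four hF h01)

/-- The tables and the rationality of the normal forms. -/
theorem ready_of_mem {D : ChevalleyDatum} (hD : D ∈ [chevG2, chevB2, chevD4, chevF4, chevE6, chevE7, chevE8])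
    {F : Type*} [Field F] [Fintype F] (hF : Facts D) :
    okRad D = true ∧ okClimb D = true ∧ okGen D = true ∧ okTorus D = true ∧
      ∀ K₀ : Subfield F, LowRational hF K₀ := by
  simp only [List.mem_cons, List.not_mem_nil, or_false] at hD
  rcases hD with rfl | rfl | rfl | rfl | rfl | rfl | rfl
  · exact ⟨okG2.2, okG2.1, okGenG2, okTorusG2, lowRational_gTwo hF⟩
  · exact ⟨okB2.2, okB2.1, okGenB2, okTorusB2, lowRational_bTwo hF⟩
  · exact ⟨okD4.2, okD4.1, okGenD4, okTorusD4,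
      fun _ => lowRational_allLong hF okD4.2 okD4.1 okOppD4 okEdgeD4 allLongD4⟩
  · exact ⟨okF4.2, okF4.1, okGenF4, okTorusF4, fun _ => lowRational_of_edge hF okF4.2 (lt_top_of_climb okF4.1) okOppF4
      okEdgeF4 someLongF4.1 someLongF4.2 (Or.inr ⟨okPartF4, okShortF4⟩)⟩
  · exact ⟨okE6.2, okE6.1, okGenE6, okTorusE6,
      fun _ => lowRational_allLong hF okE6.2 okE6.1 okOppE6 okEdgeE6 allLongE6⟩
  · exact ⟨okE7.2, okE7.1, okGenE7, okTorusE7,
      fun _ => lowRational_allLong hF okE7.2 okE7.1 okOppE7 okEdgeE7 allLongE7⟩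
  · exact ⟨okE8.2, okE8.1, okGenE8, okTorusE8,
      fun _ => lowRational_allLong hF okE8.2 okE8.1 okOppE8 okEdgeE8 allLongE8⟩

end Cfsg.Agent.Lie.SubMax
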