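import Cfsg.Agent.Lib.Lie.SubMax.BTwoOdd

/-!
Type B2 in characteristic two.
-/

set_option autoImplicit false

namespace Cfsg.Agent.Lie.SubMax

open Cfsg.Lie Matrix
open scoped MatrixGroups

/-- A family of sums of an element and its square. -/
theorem mem_of_family {F : Type*} [Field F] {K₀ : Subfield F} (hk : ∃ k ∈ K₀, k ≠ 0 ∧ k ≠ 1)
    {y : F} (h : ∀ j ∈ K₀, j * y + j ^ 2 * y ^ 2 ∈ K₀) : y ∈ K₀ := by
  obtain ⟨k, hk, hk0, hk1⟩ := hk
  have h1 := sub_mem (h k hk) (mul_mem (pow_mem hk 2) (h 1 (one_mem _)))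
  rw [show k * y + k ^ 2 * y ^ 2 - k ^ 2 * (1 * y + 1 ^ 2 * y ^ 2) = (k * (1 - k)) * y by ring] at h1
  have hne : k * (1 - k) ≠ 0 := mul_ne_zero hk0 (sub_ne_zero.2 fun e => hk1 e.symm)
  have h3 := mul_mem (inv_mem (mul_mem hk (sub_mem (one_mem _) hk))) h1
  rwa [← mul_assoc, inv_mul_cancel₀ hne, one_mul] at h3

namespace BTwo

variable {F : Type*} [Field F] (hF : Facts chevB2)
variable {K₀ : Subfield F} {H : Subgroup (GL chevB2.Idx F)} {t : ℕ → F} {z c : F}

/-- The product of a short and a long root element of level one and two. -/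
noncomputable def tTwo (hF : Facts chevB2) (w w' : F) : GL chevB2.Idx F := hF.xg 5 w * hF.xg 7 w'

include hF in
theorem two_comm (h2 : (2 : F) = 0) {r s k : ℕ} {N : ℤ} (hr : r < 8) (hs : s < 8) (h1 : s ≠ r)
    (h1' : s ≠ chevB2.neg r) (h : chevB2.commTerms r s = [(k, N, 1, 1)]) (hN : N.natAbs = 2) (x y : F) :
    Commute (hF.xg r x) (hF.xg s y) := by
  have e := swap_one hF hr hs h1 h1' h x y
  have hN0 : (N : F) = 0 := by
    rcases Int.natAbs_eq N with e | e <;> rw [e, hN] <;> simp [h2]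
  rw [hN0, zero_mul, zero_mul, neg_zero, hF.xg_zero, mul_one] at e
  exact e.symm

include hF in
/-- The main identity: the two parameters are tied. -/
theorem tie (T : Thin hF K₀ H) (h2 : (2 : F) = 0) {w w' : F} (h : tTwo hF w w' ∈ H) : w' + w ^ 2 ∈ K₀ := by
  have hneg : ∀ x : F, -x = x := fun x => by linear_combination (-x) * h2
  have c56 := two_comm hF h2 (r := 5) (s := 6) (k := 7) (N := 2) (by decide) (by decide) (by decide)
    (by decide +kernel) (by decide +kernel) rfl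
  have c36 : ∀ x y : F, hF.xg 3 y * hF.xg 6 x * (hF.xg 3 y)⁻¹ = hF.xg 6 x * (hF.xg 5 (y * x) * hF.xg 7 (y * x ^ 2)) :=
    fun x y => by
      rw [conj_word hF (by decide) (by decide) (by decide) (by decide +kernel)]
      simp [ChevalleyDatum.commWord, show chevB2.commTerms 3 6 = [(5, 1, 1, 1), (7, 1, 1, 2)] by decide +kernel,
        hF.wg_cons, hF.wg_nil]
  have c45 : ∀ x y : F, hF.xg 4 y * hF.xg 5 x * (hF.xg 4 y)⁻¹ = hF.xg 5 x * (hF.xg 6 (y * x) * hF.xg 7 (y * x ^ 2)) :=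
    fun x y => by
      rw [conj_word hF (by decide) (by decide) (by decide) (by decide +kernel)]
      simp [ChevalleyDatum.commWord, show chevB2.commTerms 4 5 = [(6, 1, 1, 1), (7, -1, 1, 2)] by decide +kernel,
        hF.wg_cons, hF.wg_nil, hneg]
  have c47 := cm hF (F := F) (r := 4) (s := 7) (by decide) (by decide) (by decide +kernel)
  have c37 := cm hF (F := F) (r := 3) (s := 7) (by decide) (by decide) (by decide +kernel)
  have c57 := cm hF (F := F) (r := 5) (s := 7) (by decide) (by decide) (by decide +kernel)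
  have g4 : hF.xg 4 (1 : F) ∈ H := T.le (xg_mem_rat hF K₀ _ (one_mem _))
  have g3 : hF.xg 3 (1 : F) ∈ H := T.le (xg_mem_rat hF K₀ _ (one_mem _))
  have h1 := mul_mem (inv_mem h) (mul_mem (mul_mem g4 h) (inv_mem g4))
  rw [tTwo, ← conj_mul, c45, (c47 1 w').eq, mul_inv_cancel_right, one_mul, one_mul,
    mul_assoc (hF.xg 5 w) (_ * _) (hF.xg 7 w'),
    (((cm hF (r := 6) (s := 7) (by decide) (by decide) (by decide +kernel)) _ w').mul_left
      (xg_self_commute hF 7 _ w')).eq, ← mul_assoc (hF.xg 5 w), inv_mul_cancel_left] at h1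
  have h1' := mul_mem (inv_mem h1) (mul_mem (mul_mem g3 h1) (inv_mem g3))
  rw [← conj_mul, c36, (c37 1 _).eq, mul_inv_cancel_right, one_mul, one_mul,
    mul_assoc (hF.xg 6 w) (_ * _) (hF.xg 7 (w ^ 2)),
    ((c57 _ (w ^ 2)).mul_left (xg_self_commute hF 7 _ (w ^ 2))).eq, ← mul_assoc (hF.xg 6 w), inv_mul_cancel_left] at h1'
  have h3 := mul_mem (inv_mem h1') h
  rw [tTwo, _root_.mul_inv_rev, mul_assoc, inv_mul_cancel_left, ← hF.xg_neg, ← hF.xg_add, hneg, add_comm] at h3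
  exact T.long 7 (by decide +kernel) _ h3

include hF in
theorem raise_six (h2 : (2 : F) = 0) {G : Subgroup (GL chevB2.Idx F)} {m : F} (hm : hF.xg 6 m ∈ G) {w w' : F}
    (h : hF.xg 5 w * hF.xg 3 w' ∈ G) : tTwo hF (w' * m) (w' * m ^ 2) ∈ G := by
  have hneg : ∀ x : F, -x = x := fun x => by linear_combination (-x) * h2
  have c56 := two_comm hF h2 (r := 5) (s := 6) (k := 7) (N := 2) (by decide) (by decide) (by decide)
    (by decide +kernel) (by decide +kernel) rfl
  have c67 := cm hF (F := F) (r := 6) (s := 7) (by decide) (by decide) (by decide +kernel)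
  have h1 := mul_mem (inv_mem h) (mul_mem (mul_mem hm h) (inv_mem hm))
  have e : hF.xg 6 m * (hF.xg 5 w * hF.xg 3 w') * (hF.xg 6 m)⁻¹ =
      hF.xg 5 w * hF.xg 3 w' * tTwo hF (w' * m) (w' * m ^ 2) := by
    have e3 : hF.xg 6 m * hF.xg 3 w' * (hF.xg 6 m)⁻¹ = hF.xg 3 w' * tTwo hF (w' * m) (w' * m ^ 2) := by
      rw [conj_word' hF (by decide) (by decide) (by decide) (by decide +kernel)]
      have hw : hF.wg (chevB2.commWord F 3 6 w' m) = tTwo hF (w' * m) (w' * m ^ 2) := by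
        simp [ChevalleyDatum.commWord, show chevB2.commTerms 3 6 = [(5, 1, 1, 1), (7, 1, 1, 2)] by decide +kernel,
          hF.wg_cons, hF.wg_nil, tTwo, hneg]
      rw [hw, tTwo, ← conj_mul (a := hF.xg 5 (w' * m)), ← (c56 _ m).eq, (c67 m _).eq, mul_inv_cancel_right,
        mul_inv_cancel_right]
    rw [← conj_mul, ← (c56 w m).eq, mul_inv_cancel_right, e3, ← mul_assoc]
  rwa [e, inv_mul_cancel_left] at h1

include hF in
theorem seen_pure (hR : okRad chevB2 = true) (T : Thin hF K₀ H) (h2 : (2 : F) = 0) {b : ℕ} (hb : b ∈ q1 chevB2)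
    {k : F} (hk : k ∈ K₀) : hF.xg b k ∈ seen (qE hF t * hF.xg (top chevB2) z) H := by
  have hb' := hb
  rw [q1_eq] at hb'
  obtain ⟨N, hN, hN2⟩ : ∃ N : ℤ, chevB2.commTerms b (opp chevB2 b) = [(top chevB2, N, 1, 1)] ∧ (N : F) = 0 := by
    simp only [List.mem_cons, List.not_mem_nil, or_false] at hb'
    rcases hb' with rfl | rfl
    · exact ⟨2, by decide +kernel, by simp [h2]⟩
    · exact ⟨-2, by decide +kernel, by simp [h2]⟩
  rw [← mul_one (hF.xg b k), ← hF.xg_zero (F := F) (top chevB2), root_seen_iff hF hR hb (partData okPartB2 hb) hN,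
    hN2, zero_mul, zero_mul, sub_zero, hF.xg_zero, mul_one]
  exact T.le (xg_mem_rat hF K₀ _ hk)

include hF in
theorem word_seen (h2 : (2 : F) = 0) (hR : okRad chevB2 = true) (T : Thin hF K₀ H) (hlow : low hF t z c ∈ H)
    {k : F} (hk : k ∈ K₀) :
    hF.xg 1 (c * k) * hF.xg 3 (c * k ^ 2) ∈ seen (qE hF t * hF.xg (top chevB2) z) H := by
  have hneg : ∀ x : F, -x = x := fun x => by linear_combination (-x) * h2
  have hP := bot_seen hF hlow
  simp only [top_eq, neg_top_eq] at hP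
  have h5 := seen_pure hF hR T h2 (t := t) (z := z) (show (5 : ℕ) ∈ q1 chevB2 by simp [q1_eq]) hk
  simp only [top_eq] at h5
  have h1 := mul_mem (inv_mem (mul_mem hP h5)) (mul_mem h5 hP)
  rw [xg_swap hF (r := 0) (s := 5) (by decide) (by decide) (by decide) (by decide +kernel) c k,
    inv_mul_cancel_left] at h1
  simpa [ChevalleyDatum.commWord, show chevB2.commTerms 0 5 = [(1, 1, 1, 1), (3, -1, 1, 2)] by decide +kernel,
    hF.wg_cons, hF.wg_nil, top_eq, hneg] using h1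

include hF in
theorem conj_seven (h2 : (2 : F) = 0) (j q q' : F) :
    hF.xg 7 j * (hF.xg 1 q * hF.xg 3 q') * (hF.xg 7 j)⁻¹ =
      hF.xg 1 q * hF.xg 3 q' * (hF.xg 5 (j * q) * hF.xg 3 (j * q ^ 2)) := by
  have hneg : ∀ x : F, -x = x := fun x => by linear_combination (-x) * h2
  have c73 := cm hF (F := F) (r := 7) (s := 3) (by decide) (by decide) (by decide +kernel)
  have c53 := cm hF (F := F) (r := 5) (s := 3) (by decide) (by decide) (by decide +kernel)
  rw [← conj_mul, (c73 j q').eq, mul_inv_cancel_right, conj_word hF (by decide) (by decide) (by decide) (by decide +kernel)]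
  have hw : hF.wg (chevB2.commWord F 7 1 (-j) q) = hF.xg 5 (j * q) * hF.xg 3 (j * q ^ 2) := by
    simp [ChevalleyDatum.commWord, show chevB2.commTerms 7 1 = [(5, 1, 1, 1), (3, 1, 1, 2)] by decide +kernel,
      hF.wg_cons, hF.wg_nil]
  rw [hw, mul_assoc (hF.xg 1 q), ((c53 (j * q) q').mul_left (xg_self_commute hF 3 (j * q ^ 2) q')).eq, ← mul_assoc]

include hF in
/-- The square of the scalar gives a family of rational sums. -/
theorem c_family (hR : okRad chevB2 = true) (T : Thin hF K₀ H) (h2 : (2 : F) = 0) (hlow : low hF t z c ∈ H) :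
    ∀ j ∈ K₀, j * c ^ 2 + j ^ 2 * (c ^ 2) ^ 2 ∈ K₀ := by
    intro j hj
    have hW := word_seen hF h2 hR T hlow (one_mem K₀)
    have hj' := top_seen hF hR (t := t) (z := z) T.le hj
    simp only [top_eq] at hj' hW
    have h1 := mul_mem (inv_mem hW) (mul_mem (mul_mem hj' hW) (inv_mem hj'))
    rw [conj_seven hF h2, inv_mul_cancel_left] at h1
    have h6 := seen_pure hF hR T h2 (t := t) (z := z) (show (6 : ℕ) ∈ q1 chevB2 by simp [q1_eq]) (one_mem K₀)
    simp only [top_eq] at h6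
    have hT := raise_six hF h2 h6 h1
    rw [mem_seen] at hT
    have c56 := two_comm hF h2 (r := 5) (s := 6) (k := 7) (N := 2) (by decide) (by decide) (by decide)
      (by decide +kernel) (by decide +kernel) rfl
    have c57 := cm hF (F := F) (r := 5) (s := 7) (by decide) (by decide) (by decide +kernel)
    have c67 := cm hF (F := F) (r := 6) (s := 7) (by decide) (by decide) (by decide +kernel)
    set w := j * (c * 1) ^ 2 * 1
    set w' := j * (c * 1) ^ 2 * 1 ^ 2
    have e : Commute (qE hF t * hF.xg 7 z) (tTwo hF w w') := by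
      rw [qE_eq, tTwo]
      exact (((xg_self_commute hF 5 _ _).mul_right (c57 _ _)).mul_left
        (((c56 _ _).symm).mul_right (c67 _ _))).mul_left ((c57 _ _).symm.mul_right (xg_self_commute hF 7 _ _))
    rw [e.eq, mul_inv_cancel_right] at hT
    have := tie hF T h2 hT
    simp only [w, w'] at this
    convert this using 1
    ring

include hF in
/-- The scalar is rational in characteristic two. -/
theorem c_mem_even [Fintype F] (hR : okRad chevB2 = true) (hbig : ∃ k ∈ K₀, k ≠ 0 ∧ k ≠ 1)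
    (T : Thin hF K₀ H) (h2 : (2 : F) = 0) (hlow : low hF t z c ∈ H) : c ∈ K₀ :=
  sq_cancel h2 (mem_of_family hbig (c_family hF hR T h2 hlow))

include hF in
/-- The second coordinate is rational in characteristic two. -/
theorem six_mem_even [Fintype F] (hR : okRad chevB2 = true) (hbig : ∃ k ∈ K₀, k ≠ 0 ∧ k ≠ 1)
    (T : Thin hF K₀ H) (h2 : (2 : F) = 0) (hc : c ≠ 0) (hlow : low hF t z c ∈ H) : t 6 ∈ K₀ := by
  set b := t 6
  by_cases hb : b = 0
  · rw [hb]; exact zero_mem _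
  have hneg : ∀ x : F, -x = x := fun x => by linear_combination (-x) * h2
  have hcK := c_mem_even hF hR hbig T h2 hlow
  have c56 := two_comm hF h2 (r := 5) (s := 6) (k := 7) (N := 2) (by decide) (by decide) (by decide)
    (by decide +kernel) (by decide +kernel) rfl
  have c15 := (two_comm hF h2 (r := 5) (s := 1) (k := 3) (N := 2) (by decide) (by decide) (by decide)
    (by decide +kernel) (by decide +kernel) rfl)
  have c67 := cm hF (F := F) (r := 6) (s := 7) (by decide) (by decide) (by decide +kernel)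
  have c73 := cm hF (F := F) (r := 7) (s := 3) (by decide) (by decide) (by decide +kernel)
  have c53 := cm hF (F := F) (r := 5) (s := 3) (by decide) (by decide) (by decide +kernel)
  have c57 := cm hF (F := F) (r := 5) (s := 7) (by decide) (by decide) (by decide +kernel)
  have c10 := cm hF (F := F) (r := 1) (s := 0) (by decide) (by decide) (by decide +kernel)
  have c30 := cm hF (F := F) (r := 3) (s := 0) (by decide) (by decide) (by decide +kernel)
  have c13 := cm hF (F := F) (r := 1) (s := 3) (by decide) (by decide) (by decide +kernel)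
  -- x_{-2e₂}(1) is seen
  set S := seen (qE hF t * hF.xg (top chevB2) z) H
  have h3S : hF.xg 3 (1 : F) ∈ S := by
    have hW := word_seen hF h2 hR T hlow (one_mem K₀)
    have hj' := top_seen hF hR (t := t) (z := z) T.le (inv_mem (pow_mem hcK 2))
    simp only [top_eq] at hj' hW
    have h1 := mul_mem (inv_mem hW) (mul_mem (mul_mem hj' hW) (inv_mem hj'))
    rw [conj_seven hF h2, inv_mul_cancel_left] at h1
    have h5 := seen_pure hF hR T h2 (t := t) (z := z) (show (5 : ℕ) ∈ q1 chevB2 by simp [q1_eq])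
      (mul_mem (inv_mem (pow_mem hcK 2)) (mul_mem hcK (one_mem K₀)))
    simp only [top_eq] at h5
    have h3 := (Subgroup.mul_mem_cancel_left _ h5).1 h1
    rwa [mul_one, inv_mul_cancel₀ (pow_ne_zero 2 hc)] at h3
  have hY : hF.xg 5 b * hF.xg 7 (b ^ 2) ∈ H := by
    rw [mem_seen, qE_eq, top_eq] at h3S
    have e6 : hF.xg 6 b * hF.xg 3 1 * (hF.xg 6 b)⁻¹ = hF.xg 3 1 * (hF.xg 5 b * hF.xg 7 (b ^ 2)) := by
      rw [conj_word' hF (by decide) (by decide) (by decide) (by decide +kernel)]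
      have hw : hF.wg (chevB2.commWord F 3 6 1 b) = hF.xg 5 b * hF.xg 7 (b ^ 2) := by
        simp [ChevalleyDatum.commWord, show chevB2.commTerms 3 6 = [(5, 1, 1, 1), (7, 1, 1, 2)] by decide +kernel,
          hF.wg_cons, hF.wg_nil, hneg]
      rw [hw, ← conj_mul, ← (c56 b b).eq, (c67 b _).eq, mul_inv_cancel_right, mul_inv_cancel_right]
    have hcomm : Commute (hF.xg 5 (t 5)) (hF.xg 3 1 * (hF.xg 5 b * hF.xg 7 (b ^ 2))) :=
      (c53 _ _).mul_right ((xg_self_commute hF 5 _ _).mul_right (c57 _ _))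
    rw [show hF.xg 5 (t 5) * hF.xg 6 b * hF.xg 7 z * hF.xg 3 1 * (hF.xg 5 (t 5) * hF.xg 6 b * hF.xg 7 z)⁻¹ =
      hF.xg 5 (t 5) * (hF.xg 6 b * (hF.xg 7 z * hF.xg 3 1 * (hF.xg 7 z)⁻¹) * (hF.xg 6 b)⁻¹) * (hF.xg 5 (t 5))⁻¹ by group,
      (c73 z 1).eq, mul_inv_cancel_right, e6, hcomm.eq, mul_inv_cancel_right] at h3S
    exact (Subgroup.mul_mem_cancel_left _ (T.le (xg_mem_rat hF K₀ _ (one_mem _)))).1 h3S
  -- reflect to the lowest root
  have g0 : hF.xg 0 (1 : F) ∈ H := T.le (xg_mem_rat hF K₀ _ (one_mem _))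
  have g7 : hF.xg 7 (1 : F) ∈ H := T.le (xg_mem_rat hF K₀ _ (one_mem _))
  have hn : hF.xg 7 (1 : F) * hF.xg 0 1 * hF.xg 7 1 ∈ H := mul_mem (mul_mem g7 g0) g7
  have h1 := mul_mem (mul_mem hn hY) (inv_mem hn)
  have e5 : hF.xg 7 (1 : F) * hF.xg 0 1 * hF.xg 7 1 * hF.xg 5 b * (hF.xg 7 1 * hF.xg 0 1 * hF.xg 7 1)⁻¹ =
      hF.xg 1 b := by
    have ea : hF.xg 0 (1 : F) * hF.xg 5 b * (hF.xg 0 1)⁻¹ = hF.xg 5 b * (hF.xg 1 b * hF.xg 3 (b ^ 2)) := by
      rw [conj_word hF (by decide) (by decide) (by decide) (by decide +kernel)]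
      simp [ChevalleyDatum.commWord, show chevB2.commTerms 0 5 = [(1, 1, 1, 1), (3, -1, 1, 2)] by decide +kernel,
        hF.wg_cons, hF.wg_nil, hneg]
    have eb := conj_seven hF h2 (1 : F) b (b ^ 2)
    rw [one_mul, one_mul] at eb
    calc hF.xg 7 (1 : F) * hF.xg 0 1 * hF.xg 7 1 * hF.xg 5 b * (hF.xg 7 1 * hF.xg 0 1 * hF.xg 7 1)⁻¹
        = hF.xg 7 1 * (hF.xg 0 1 * (hF.xg 7 1 * hF.xg 5 b * (hF.xg 7 1)⁻¹) * (hF.xg 0 1)⁻¹) * (hF.xg 7 1)⁻¹ := by group
      _ = hF.xg 7 1 * hF.xg 5 b * (hF.xg 7 1)⁻¹ * (hF.xg 7 1 * (hF.xg 1 b * hF.xg 3 (b ^ 2)) * (hF.xg 7 1)⁻¹) := by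
          rw [show hF.xg 0 (1 : F) * (hF.xg 7 1 * hF.xg 5 b * (hF.xg 7 1)⁻¹) * (hF.xg 0 1)⁻¹ =
            hF.xg 5 b * (hF.xg 1 b * hF.xg 3 (b ^ 2)) by rw [← (c57 b 1).eq, mul_inv_cancel_right, ea]]
          group
      _ = hF.xg 5 b * (hF.xg 1 b * hF.xg 3 (b ^ 2) * (hF.xg 5 b * hF.xg 3 (b ^ 2))) := by
          rw [← (c57 b 1).eq, mul_inv_cancel_right, eb]
      _ = hF.xg 1 b * (hF.xg 5 b * hF.xg 5 b) * (hF.xg 3 (b ^ 2) * hF.xg 3 (b ^ 2)) := by
          rw [← mul_assoc (hF.xg 5 b), ← mul_assoc (hF.xg 5 b), (c15 b b).eq]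
          simp only [mul_assoc]
          rw [← mul_assoc (hF.xg 3 (b ^ 2)) (hF.xg 5 b), ← (c53 b (b ^ 2)).eq, mul_assoc]
      _ = _ := by
          rw [← hF.xg_add, ← hF.xg_add, show b + b = 0 by linear_combination b * h2,
            show b ^ 2 + b ^ 2 = 0 by linear_combination b ^ 2 * h2, hF.xg_zero, hF.xg_zero, mul_one, mul_one]
  obtain ⟨φ, -, hφ⟩ := hF.exists_sl2Hom (F := F) 7 (by decide)
  rw [neg_top_eq] at hφ
  have e7 : hF.xg 7 (1 : F) * hF.xg 0 1 * hF.xg 7 1 * hF.xg 7 (b ^ 2) * (hF.xg 7 1 * hF.xg 0 1 * hF.xg 7 1)⁻¹ =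
      hF.xg 0 (b ^ 2) := by
    have ea : (upS (1 : F) * loS 1 * upS 1) * upS (b ^ 2) = loS (b ^ 2) * (upS (1 : F) * loS 1 * upS 1) := by
      apply Subtype.ext
      show !![1, 1; 0, 1] * !![1, 0; 1, 1] * !![1, 1; 0, 1] * !![1, b ^ 2; 0, 1] =
        (!![1, 0; b ^ 2, 1] * (!![1, 1; 0, 1] * !![1, 0; 1, 1] * !![1, 1; 0, 1]) : Matrix (Fin 2) (Fin 2) F)
      have h11 : (1 : F) + 1 = 0 := by rw [one_add_one_eq_two, h2]
      ext i j
      fin_cases i <;> fin_cases j <;> simp [Matrix.mul_fin_two, h11]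
    have := congrArg φ ea
    simp only [map_mul, (hφ _).1, (hφ _).2] at this
    rw [this, mul_inv_cancel_right]
  rw [← conj_mul, e5, e7] at h1
  have h4 := mul_mem h1 (T.le (xg_mem_rat hF K₀ 3 (one_mem K₀)))
  set q : ℕ → F := fun s => if s = 5 then b⁻¹ else 0
  have eL : low hF q 0 (b ^ 2) = hF.xg 1 b * hF.xg 0 (b ^ 2) * hF.xg 3 1 := by
    rw [low, hF.xg_zero, mul_one, top_eq, neg_top_eq, qE_eq, show q 5 = b⁻¹ from rfl,
      show q 6 = 0 from rfl, hF.xg_zero, mul_one,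
      conj_word' hF (by decide) (by decide) (by decide) (by decide +kernel)]
    have hw : hF.wg (chevB2.commWord F 0 5 (b ^ 2) b⁻¹) = hF.xg 1 b * hF.xg 3 1 := by
      simp [ChevalleyDatum.commWord, show chevB2.commTerms 0 5 = [(1, 1, 1, 1), (3, -1, 1, 2)] by decide +kernel,
        hF.wg_cons, hF.wg_nil, hneg]
      congr 1 <;> congr 1 <;> field_simp
    rw [hw, ((c15 b⁻¹ b).mul_right (c53 b⁻¹ 1)).eq, mul_inv_cancel_right, ← mul_assoc, (c10 b (b ^ 2)).eq]
  exact sq_cancel h2 (c_mem_even hF hR hbig T h2 (eL ▸ h4))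

end BTwo

end Cfsg.Agent.Lie.SubMax
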