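import Cfsg.Agent.Lib.Lie.SubMax.Rational
import Cfsg.Agent.Lib.Lie.SubMax.Main
import Cfsg.Agent.Lib.Lie.SubMax.Short
import Cfsg.Agent.Lib.Lie.SubMax.TablesData

/-!
Type B2: commutator tables and the case of odd characteristic.
-/

set_option autoImplicit false

namespace Cfsg.Agent.Lie.SubMax

open Cfsg.Lie Matrix
open scoped MatrixGroups

namespace BTwo

theorem top_eq : top chevB2 = 7 := rfl
theorem neg_top_eq : chevB2.neg 7 = 0 := by decide +kernel
theorem q1_eq : q1 chevB2 = [5, 6] := by decide +kernel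
theorem opp_five : opp chevB2 5 = 6 := by decide +kernel
theorem opp_six : opp chevB2 6 = 5 := by decide +kernel

variable {F : Type*} [Field F] (hF : Facts chevB2)

include hF in
/-- A root element conjugated by another. -/
theorem conj_word {r s : ℕ} (hr : r < 8) (hs : s < 8) (h1 : s ≠ r) (h2 : s ≠ chevB2.neg r) (t u : F) :
    hF.xg r t * hF.xg s u * (hF.xg r t)⁻¹ = hF.xg s u * hF.wg (chevB2.commWord F r s (-t) u) := by
  have e := xg_swap hF hr hs h1 h2 (-t) u
  rw [hF.xg_neg] at e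
  rw [mul_assoc, e]; group

include hF in
theorem conj_word' {r s : ℕ} (hr : r < 8) (hs : s < 8) (h1 : s ≠ r) (h2 : s ≠ chevB2.neg r) (t u : F) :
    hF.xg s u * hF.xg r t * (hF.xg s u)⁻¹ =
      hF.xg r t * (hF.xg s u * hF.wg (chevB2.commWord F r s t u) * (hF.xg s u)⁻¹) := by
  rw [xg_swap hF hr hs h1 h2 t u]; group

include hF in
theorem cm {r s : ℕ} (hr : r < 8) (hs : s < 8) (h : comm0 chevB2 r s = true) (t u : F) :
    Commute (hF.xg r t) (hF.xg s u) := comm0_spec hF hr hs h t u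

include hF in
/-- A square of a representative acts by signs. -/
theorem ng_sq_conj {r s : ℕ} (hr : r < 8) (hs : s < 8) {t : F} (ht : t ≠ 0) (u : F) :
    hF.ng r t * hF.ng r t * hF.xg s u * (hF.ng r t * hF.ng r t)⁻¹ =
      hF.xg s ((-1) ^ chevB2.pairing r s * u) := by
  have e : hF.ng r t * hF.ng r t = hF.hg r t * (hF.hg r (-t))⁻¹ := by
    have hneg : ∀ v : F, hF.ng r (-v) = (hF.ng r v)⁻¹ := fun v => by
      rw [hF.ng_eq, hF.ng_eq, _root_.mul_inv_rev, _root_.mul_inv_rev, ← hF.xg_neg, ← hF.xg_neg]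
      simp [inv_neg, mul_assoc]
    rw [hF.hg_eq, hF.hg_eq, hneg t]; group
  have h2 := hg_conj hF hr hs (neg_ne_zero.2 ht) (((-t) ^ chevB2.pairing r s)⁻¹ * u)
  rw [← mul_assoc, mul_inv_cancel₀ (zpow_ne_zero _ (neg_ne_zero.2 ht)), one_mul] at h2
  rw [e, _root_.mul_inv_rev, inv_inv]
  calc hF.hg r t * (hF.hg r (-t))⁻¹ * hF.xg s u * (hF.hg r (-t) * (hF.hg r t)⁻¹)
      = hF.hg r t * ((hF.hg r (-t))⁻¹ * hF.xg s u * hF.hg r (-t)) * (hF.hg r t)⁻¹ := by group
    _ = hF.hg r t * hF.xg s (((-t) ^ chevB2.pairing r s)⁻¹ * u) * (hF.hg r t)⁻¹ := by rw [← h2]; group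
    _ = _ := by
      rw [hg_conj hF hr hs ht]
      congr 1
      rw [← mul_assoc, neg_eq_neg_one_mul t, _root_.mul_zpow, _root_.mul_inv_rev, ← mul_assoc,
        mul_inv_cancel₀ (zpow_ne_zero _ ht), one_mul]
      congr 1
      rcases Int.even_or_odd (chevB2.pairing r s) with h | h
      · rw [h.neg_one_zpow, inv_one]
      · rw [h.neg_one_zpow, inv_neg, inv_one]

variable {K₀ : Subfield F} {H : Subgroup (GL chevB2.Idx F)} {t : ℕ → F} {z c : F}

include hF in
theorem qE_eq (t : ℕ → F) : qE hF t = hF.xg 5 (t 5) * hF.xg 6 (t 6) := by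
  simp [qE, lineWord, q1_eq, hF.wg_cons, hF.wg_nil]

include hF in
/-- With the other coordinate zero, the scalar is rational in odd characteristic. -/
theorem c_mem_odd (hR : okRad chevB2 = true) (T : Thin hF K₀ H) (h2 : (2 : F) ≠ 0)
    (hlow : low hF t z c ∈ H) (h6 : t 6 ∈ K₀) : c ∈ K₀ := by
  obtain ⟨z', hz'⟩ := low_shift hF hR T.le hlow (k := fun s => if s = 6 then -(t 6) else 0) (by
    intro s _
    split_ifs
    exacts [neg_mem h6, zero_mem _])
  set t' : ℕ → F := fun r => (if r = 6 then -(t 6) else 0) + t r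
  have e6 : t' 6 = 0 := by simp [t']
  have P5 := partData okPartB2 (show (5 : ℕ) ∈ q1 chevB2 by simp [q1_eq])
  set S := seen (qE hF t' * hF.xg (top chevB2) z') H
  have hP : hF.xg 0 c ∈ S := by
    have := bot_seen hF hz'
    rwa [top_eq, neg_top_eq] at this
  have hW : ∀ k ∈ K₀, hF.xg 1 (-(c * k)) * hF.xg 3 (c * k ^ 2) ∈ S := fun k hk => by
    have h5 := T.pure_mem hF hR (z := z') (t := t') (show (5 : ℕ) ∈ q1 chevB2 by simp [q1_eq]) P5
      (by rw [opp_five, e6]; exact zero_mem _) hk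
    have h1 := mul_mem (inv_mem (mul_mem hP h5)) (mul_mem h5 hP)
    rw [xg_swap hF (r := 0) (s := 5) (by decide) (by decide) (by decide) (by decide +kernel) c k,
      inv_mul_cancel_left] at h1
    simpa [ChevalleyDatum.commWord, show chevB2.commTerms 0 5 = [(1, 1, 1, 1), (3, -1, 1, 2)] by decide +kernel,
      hF.wg_cons, hF.wg_nil] using h1
  have h1 := mul_mem (hW 1 (one_mem _)) (hW (-1) (neg_mem (one_mem _)))
  have c13 := cm hF (F := F) (r := 1) (s := 3) (by decide) (by decide) (by decide +kernel)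
  rw [mul_assoc, ← mul_assoc (hF.xg 3 _), ← (c13 _ _).eq, ← mul_assoc, ← mul_assoc, ← hF.xg_add, mul_assoc,
    ← hF.xg_add, show -(c * 1) + -(c * -1) = 0 by ring, hF.xg_zero, one_mul,
    show c * 1 ^ 2 + c * (-1) ^ 2 = 2 * c by ring, mem_seen, qE_eq, e6, hF.xg_zero, mul_one, top_eq] at h1
  have c73 := cm hF (F := F) (r := 7) (s := 3) (by decide) (by decide) (by decide +kernel)
  have c53 := cm hF (F := F) (r := 5) (s := 3) (by decide) (by decide) (by decide +kernel)
  rw [((c53 _ _).mul_left (c73 _ _)).eq, mul_inv_cancel_right] at h1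
  have h3 := T.long 3 (by decide +kernel) _ h1
  have h4 := mul_mem (inv_mem (show (2 : F) ∈ K₀ by rw [← one_add_one_eq_two]; exact add_mem (one_mem _) (one_mem _))) h3
  rwa [← mul_assoc, inv_mul_cancel₀ h2, one_mul] at h4

include hF in
/-- A rational scalar makes the coordinates rational in odd characteristic. -/
theorem coord_mem_odd (hR : okRad chevB2 = true) (T : Thin hF K₀ H) (h2 : (2 : F) ≠ 0) (hc : c ≠ 0)
    (hcK : c ∈ K₀) (hlow : low hF t z c ∈ H) : t 5 ∈ K₀ ∧ t 6 ∈ K₀ := by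
  set S := seen (qE hF t * hF.xg (top chevB2) z) H
  have hP : hF.xg 0 c ∈ S := by
    have := bot_seen hF hlow
    rwa [top_eq, neg_top_eq] at this
  set t₀ := -c⁻¹ with ht₀
  have ht₀K : t₀ ∈ K₀ := neg_mem (inv_mem hcK)
  have htop : ∀ k ∈ K₀, hF.xg 7 k ∈ S := fun k hk => top_seen hF hR T.le hk
  have hn : hF.ng 7 t₀ ∈ S := by
    rw [hF.ng_eq, neg_top_eq, show -t₀⁻¹ = c by rw [ht₀, inv_neg, inv_inv, neg_neg]]
    exact mul_mem (mul_mem (htop _ ht₀K) hP) (htop _ ht₀K)
  have key : ∀ (b : ℕ), b ∈ q1 chevB2 → chevB2.pairing 7 b = 1 → t (opp chevB2 b) ∈ K₀ := by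
    intro b hb hpair
    obtain ⟨N, hN0, hN3, hN⟩ := (partData okPartB2 hb).toTop
    have hX : hF.xg b 1 * hF.xg 7 ((N : F) * 1 * t (opp chevB2 b)) ∈ S := by
      have := (root_seen_iff hF hR (H := H) (t := t) (z := z) hb (partData okPartB2 hb) hN 1
        ((N : F) * 1 * t (opp chevB2 b))).2 (by
          rw [sub_self, hF.xg_zero, mul_one]; exact T.le (xg_mem_rat hF K₀ _ (one_mem _)))
      exact this
    have hX' := mul_mem (mul_mem (mul_mem hn hn) hX) (inv_mem (mul_mem hn hn))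
    have hbn := (q1_pos hb).2
    have ht₀0 : t₀ ≠ 0 := neg_ne_zero.2 (inv_ne_zero hc)
    rw [← conj_mul, ng_sq_conj hF (by decide) hbn ht₀0, ng_sq_conj hF (by decide) (by decide) ht₀0, hpair,
      show chevB2.pairing 7 7 = 2 by decide +kernel, zpow_one, neg_one_mul, show ((-1 : F) ^ (2 : ℤ)) = 1 by norm_num,
      one_mul] at hX'
    have h1 := mul_mem hX hX'
    have cb := top_central hF (F := F) hR (List.mem_cons_of_mem _ hb)
    simp only [top_eq] at cb
    set w := (N : F) * 1 * t (opp chevB2 b)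
    rw [mul_assoc, ← mul_assoc (hF.xg 7 w), ← (cb (-1) w).eq, ← mul_assoc, ← mul_assoc, ← hF.xg_add,
      add_neg_cancel, hF.xg_zero, one_mul, ← hF.xg_add, mem_seen] at h1
    have e7 := frame_top hF hR t z (w + w)
    simp only [top_eq] at e7 h1
    rw [e7] at h1
    have h3 := T.long 7 (by decide +kernel) _ h1
    have hne : (2 : F) * (N : F) ≠ 0 := by
      refine mul_ne_zero h2 ?_
      have hN2 : (N : F) = 2 ∨ (N : F) = -2 := by
        have hmem : chevB2.commTerms b (opp chevB2 b) = [(7, N, 1, 1)] := hN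
        rw [q1_eq] at hb
        simp only [List.mem_cons, List.not_mem_nil, or_false] at hb
        rcases hb with rfl | rfl
        · rw [opp_five, show chevB2.commTerms 5 6 = [(7, 2, 1, 1)] by decide +kernel] at hmem
          simp at hmem; subst hmem; simp
        · rw [opp_six, show chevB2.commTerms 6 5 = [(7, -2, 1, 1)] by decide +kernel] at hmem
          simp at hmem; subst hmem; simp
      rcases hN2 with e | e <;> rw [e]
      exacts [h2, neg_ne_zero.2 h2]
    have hK : (2 : F) * (N : F) ∈ K₀ := mul_mem (by rw [← one_add_one_eq_two]; exact add_mem (one_mem _) (one_mem _))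
      (intCast_mem K₀ N)
    have h4 := mul_mem (inv_mem hK) h3
    rwa [show w + w = 2 * (N : F) * t (opp chevB2 b) by simp only [w]; ring, ← mul_assoc,
      inv_mul_cancel₀ hne, one_mul] at h4
  exact ⟨opp_six ▸ key 6 (by simp [q1_eq]) (by decide +kernel), opp_five ▸ key 5 (by simp [q1_eq]) (by decide +kernel)⟩

include hF in
/-- Moving the coordinates by the long root of level zero. -/
theorem translate (hR : okRad chevB2 = true) (hle : rat hF K₀ ≤ H) (hlow : low hF t z c ∈ H) {k : F}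
    (hk : k ∈ K₀) : ∃ t' z', t' 5 = t 5 ∧ t' 6 = t 6 + k * t 5 ∧ low hF t' z' c ∈ H := by
  refine ⟨fun r => if r = 6 then t 6 + k * t 5 else t r, z + -(k * t 5 ^ 2), by simp, by simp, ?_⟩
  have h1 := mul_mem (mul_mem (hle (xg_mem_rat hF K₀ 4 hk)) hlow) (inv_mem (hle (xg_mem_rat hF K₀ 4 hk)))
  convert h1 using 1
  have c46 := cm hF (F := F) (r := 4) (s := 6) (by decide) (by decide) (by decide +kernel)
  have c47 := cm hF (F := F) (r := 4) (s := 7) (by decide) (by decide) (by decide +kernel)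
  have c40 := cm hF (F := F) (r := 4) (s := 0) (by decide) (by decide) (by decide +kernel)
  have c67 := cm hF (F := F) (r := 6) (s := 7) (by decide) (by decide) (by decide +kernel)
  have e : hF.xg 4 k * (qE hF t * hF.xg (top chevB2) z) * (hF.xg 4 k)⁻¹ =
      qE hF (fun r => if r = 6 then t 6 + k * t 5 else t r) * hF.xg (top chevB2) (z + -(k * t 5 ^ 2)) := by
    have hw : hF.wg (chevB2.commWord F 4 5 (-k) (t 5)) = hF.xg 6 (k * t 5) * hF.xg 7 (-(k * t 5 ^ 2)) := by
      simp [ChevalleyDatum.commWord, show chevB2.commTerms 4 5 = [(6, 1, 1, 1), (7, -1, 1, 2)] by decide +kernel,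
        hF.wg_cons, hF.wg_nil]
    simp only [top_eq, qE_eq, if_pos, if_neg (show (5 : ℕ) ≠ 6 by decide)]
    rw [← conj_mul, ← conj_mul, conj_word hF (by decide) (by decide) (by decide) (by decide +kernel), hw,
      (c46 k _).eq, (c47 k _).eq, mul_inv_cancel_right, mul_inv_cancel_right, hF.xg_add, hF.xg_add]
    simp only [mul_assoc]
    congr 1
    rw [← mul_assoc (hF.xg 7 (-(k * t 5 ^ 2))), ← (c67 (t 6) _).eq]
    simp only [mul_assoc]
    rw [← mul_assoc (hF.xg 6 (k * t 5)), (xg_self_commute hF 6 (k * t 5) (t 6)).eq, mul_assoc,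
      (xg_self_commute hF 7 (-(k * t 5 ^ 2)) z).eq]
  simp only [low]
  rw [← e, top_eq, neg_top_eq]
  calc hF.xg 4 k * (qE hF t * hF.xg 7 z) * (hF.xg 4 k)⁻¹ * hF.xg 0 c *
        (hF.xg 4 k * (qE hF t * hF.xg 7 z) * (hF.xg 4 k)⁻¹)⁻¹
      = hF.xg 4 k * (qE hF t * hF.xg 7 z) * ((hF.xg 4 k)⁻¹ * (hF.xg 0 c * hF.xg 4 k)) *
          (qE hF t * hF.xg 7 z)⁻¹ * (hF.xg 4 k)⁻¹ := by group
    _ = _ := by rw [← (c40 k c).eq]; group

end BTwo

end Cfsg.Agent.Lie.SubMax
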