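import Cfsg.Agent.Lib.Lie.Bruhat
import Cfsg.Agent.Lib.Lie.SL2Hom
import Cfsg.Agent.Lib.Lie.AllFacts

/-!
Root elements of the highest root: the tables used for the maximality of subfield subgroups.
-/

set_option autoImplicit false

namespace Cfsg.Agent.Lie.SubMax

open Cfsg.Lie

/-- The highest root. -/
def top (D : ChevalleyDatum) : ℕ := D.nroots - 1

/-- Long roots: no other root pairs with absolute value at least two. -/
def lg (D : ChevalleyDatum) (r : ℕ) : Bool :=
  decide (r < D.nroots) && (List.range D.nroots).all fun s =>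
    s == r || s == D.neg r || decide ((D.pairing r s).natAbs ≤ 1)

/-- The level with respect to the highest root. -/
def lev (D : ChevalleyDatum) (r : ℕ) : ℤ := D.pairing (top D) r

/-- The roots of level one. -/
def q1 (D : ChevalleyDatum) : List ℕ := (Facts.posL D).filter fun r => decide (lev D r = 1)

/-- The positive roots of level zero. -/
def l0 (D : ChevalleyDatum) : List ℕ := (Facts.posL D).filter fun r => decide (lev D r = 0)

/-- The unipotent radical of the highest root. -/
def qAll (D : ChevalleyDatum) : List ℕ := top D :: q1 D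

theorem mem_q1 {D : ChevalleyDatum} {r : ℕ} :
    r ∈ q1 D ↔ (D.nroots / 2 ≤ r ∧ r < D.nroots) ∧ lev D r = 1 := by
  simp [q1, Facts.mem_posL]

theorem mem_l0 {D : ChevalleyDatum} {r : ℕ} :
    r ∈ l0 D ↔ (D.nroots / 2 ≤ r ∧ r < D.nroots) ∧ lev D r = 0 := by
  simp [l0, Facts.mem_posL]

/-- The table for climbing to the lowest root. -/
def okClimb (D : ChevalleyDatum) : Bool :=
  lg D (top D) && (List.range D.nroots).all fun r => !(lg D r) || r == D.neg (top D) ||
    (List.range D.rank).any fun i =>
      decide (0 < D.cartan i r) && (r == D.simple i || (D.commTerms (D.simple i) r).isEmpty)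

/-- The table for the radical of the highest root. -/
def okRad (D : ChevalleyDatum) : Bool :=
  decide (0 < D.nroots) && decide (lev D (top D) = 2) &&
  (Facts.posL D).all (fun r => r == top D || decide (lev D r = 0) || decide (lev D r = 1)) &&
  (l0 D).all (fun r => (D.commTerms r (D.neg (top D))).isEmpty &&
    (qAll D).all fun s => (D.commTerms r s).all fun c => (qAll D).contains c.1) &&
  (q1 D).all (fun r => (D.commTerms r (top D)).isEmpty && (D.commTerms (top D) r).isEmpty &&
    (q1 D).all fun s => s == r || (D.commTerms r s).all fun c => c.1 == top D) &&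
  (l0 D).all (fun r => (D.commTerms (top D) r).isEmpty)

variable {D : ChevalleyDatum}

theorem top_lt (h : okRad D = true) : top D < D.nroots := by
  simp only [okRad, Bool.and_eq_true, decide_eq_true_eq] at h
  have := h.1.1.1.1.1
  unfold top; omega

theorem pos_cases (h : okRad D = true) {r : ℕ} (hr : r ∈ Facts.posL D) :
    r = top D ∨ r ∈ l0 D ∨ r ∈ q1 D := by
  simp only [okRad, Bool.and_eq_true, decide_eq_true_eq, List.all_eq_true, Bool.or_eq_true, beq_iff_eq] at h
  rcases h.1.1.1.2 r hr with (h1 | h1) | h1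
  · exact Or.inl h1
  · exact Or.inr (Or.inl (mem_l0.2 ⟨Facts.mem_posL.1 hr, h1⟩))
  · exact Or.inr (Or.inr (mem_q1.2 ⟨Facts.mem_posL.1 hr, h1⟩))

theorem l0_lowest (h : okRad D = true) {r : ℕ} (hr : r ∈ l0 D) :
    D.commTerms r (D.neg (top D)) = [] ∧ D.commTerms (top D) r = [] := by
  simp only [okRad, Bool.and_eq_true, List.all_eq_true, List.isEmpty_iff] at h
  exact ⟨(h.1.1.2 r hr).1, h.2 r hr⟩

theorem l0_closed (h : okRad D = true) {r s : ℕ} (hr : r ∈ l0 D) (hs : s ∈ qAll D) {c : ℕ × ℤ × ℕ × ℕ}
    (hc : c ∈ D.commTerms r s) : c.1 ∈ qAll D := by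
  simp only [okRad, Bool.and_eq_true, List.all_eq_true, List.contains_iff_mem] at h
  exact (h.1.1.2 r hr).2 s hs c hc

theorem q1_top (h : okRad D = true) {r : ℕ} (hr : r ∈ q1 D) :
    D.commTerms r (top D) = [] ∧ D.commTerms (top D) r = [] := by
  simp only [okRad, Bool.and_eq_true, List.all_eq_true, List.isEmpty_iff] at h
  exact (h.1.2 r hr).1

theorem q1_comm (h : okRad D = true) {r s : ℕ} (hr : r ∈ q1 D) (hs : s ∈ q1 D) (hne : s ≠ r)
    {c : ℕ × ℤ × ℕ × ℕ} (hc : c ∈ D.commTerms r s) : c.1 = top D := by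
  simp only [okRad, Bool.and_eq_true, List.all_eq_true, Bool.or_eq_true, beq_iff_eq] at h
  exact ((h.1.2 r hr).2 s hs).resolve_left hne c hc

theorem q1_pos {r : ℕ} (hr : r ∈ q1 D) : D.nroots / 2 ≤ r ∧ r < D.nroots := (mem_q1.1 hr).1

theorem l0_pos {r : ℕ} (hr : r ∈ l0 D) : D.nroots / 2 ≤ r ∧ r < D.nroots := (mem_l0.1 hr).1

theorem lev_top (h : okRad D = true) : lev D (top D) = 2 := by
  simp only [okRad, Bool.and_eq_true, decide_eq_true_eq] at h
  exact h.1.1.1.1.2

theorem q1_ne_top (h : okRad D = true) {r : ℕ} (hr : r ∈ q1 D) : r ≠ top D := fun e => by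
  have := (mem_q1.1 hr).2
  rw [e, lev_top h] at this
  omega

set_option maxRecDepth 100000 in
theorem okG2 : okClimb chevG2 = true ∧ okRad chevG2 = true := by decide +kernel
set_option maxRecDepth 100000 in
theorem okB2 : okClimb chevB2 = true ∧ okRad chevB2 = true := by decide +kernel
set_option maxRecDepth 100000 in
theorem okD4 : okClimb chevD4 = true ∧ okRad chevD4 = true := by decide +kernel

end Cfsg.Agent.Lie.SubMax
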