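import Cfsg.Agent.Lib.Lie.SubMax.Radical

/-!
Every conjugate of a long root element is conjugate, by a rational element, to one on the lowest root
transformed by the radical of the highest root.
-/

set_option autoImplicit false

namespace Cfsg.Agent.Lie.SubMax

open Cfsg.Lie Matrix
open scoped MatrixGroups

variable {D : ChevalleyDatum} {F : Type*} [Field F] (hF : Facts D)

/-- The subgroup generated by the root elements with rational parameter. -/
noncomputable def rat (hF : Facts D) (K₀ : Subfield F) : Subgroup (GL D.Idx F) :=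
  Subgroup.closure {g | ∃ r t, t ∈ K₀ ∧ hF.xg r t = g}

variable (K₀ : Subfield F)

include hF in
theorem xg_mem_rat (r : ℕ) {t : F} (ht : t ∈ K₀) : hF.xg r t ∈ rat hF K₀ :=
  Subgroup.subset_closure ⟨r, t, ht, rfl⟩

include hF in
theorem ng_mem_rat (r : ℕ) {t : F} (ht : t ∈ K₀) : hF.ng r t ∈ rat hF K₀ := by
  rw [hF.ng_eq]
  exact mul_mem (mul_mem (xg_mem_rat hF K₀ r ht) (xg_mem_rat hF K₀ _ (neg_mem (inv_mem ht))))
    (xg_mem_rat hF K₀ r ht)

include hF in
theorem nS_mem_rat (i : Fin D.rank) : (hF.tsys F).nS i ∈ rat hF K₀ := by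
  rw [hF.tsys_nS]
  exact ng_mem_rat hF K₀ _ (one_mem _)

include hF in
theorem nW_mem_rat (w : hF.weyl) : (hF.tsys F).nW w ∈ rat hF K₀ := by
  show (hF.tsys F).nw _ ∈ rat hF K₀
  apply Subgroup.list_prod_mem
  intro g hg
  obtain ⟨i, -, rfl⟩ := List.mem_map.1 hg
  exact nS_mem_rat hF K₀ i

include hF in
theorem rat_le_group : rat hF K₀ ≤ D.group F :=
  (Subgroup.closure_le _).2 fun _ ⟨r, t, _, h⟩ => h ▸ hF.xg_mem_group r t

include hF in
theorem lg_lt {r : ℕ} (h : lg D r = true) : r < D.nroots := by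
  simp only [lg, Bool.and_eq_true, decide_eq_true_eq] at h
  exact h.1

include hF in
/-- Long roots are permuted by the fundamental reflections. -/
theorem lg_refl {i r : ℕ} (hi : i < D.rank) (h : lg D r = true) : lg D (D.reflectRoot i r) = true := by
  simp only [lg, Bool.and_eq_true, decide_eq_true_eq, List.all_eq_true, List.mem_range, Bool.or_eq_true,
    beq_iff_eq] at h ⊢
  obtain ⟨hr, hs⟩ := h
  refine ⟨hF.refl_lt i hi r hr, fun s hsl => ?_⟩
  rcases hs _ (hF.refl_lt i hi s hsl) with (h | h) | h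
  · exact Or.inl (Or.inl (by rw [← hF.refl_refl i hi s hsl, h]))
  · exact Or.inl (Or.inr (by rw [← hF.refl_refl i hi s hsl, h, hF.refl_neg i hi r hr]))
  · right
    rw [← hF.refl_refl i hi s hsl, hF.pairing_refl hi hr (hF.refl_lt i hi s hsl)]
    exact h

include hF in
theorem lg_weyl (w : hF.weyl) {r : Fin D.nroots} (h : lg D r.val = true) :
    lg D (w • r : Fin D.nroots).val = true := by
  induction w using hF.weyl_induction with
  | one => simpa using h
  | step i w ih =>
    rw [mul_smul, hF.wS_smul]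
    exact lg_refl hF i.isLt ih

variable (hR : okRad D = true) (hC : okClimb D = true)

include hF hR in
theorem US_words {g : GL D.Idx F} (hg : g ∈ (hF.tsys F).US (qAll D)) :
    ∃ w : List (ℕ × F), (∀ p ∈ w, p.1 ∈ qAll D) ∧ g = hF.wg w := by
  induction hg using Subgroup.closure_induction with
  | mem g hg =>
    obtain ⟨r, hr, t, rfl⟩ := hg
    exact ⟨[(r, t)], by simpa using hr, by rw [hF.wg_cons, hF.wg_nil, mul_one]; rfl⟩
  | one => exact ⟨[], by simp, hF.wg_nil.symm⟩
  | mul a b _ _ ha hb =>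
    obtain ⟨w, hw, rfl⟩ := ha
    obtain ⟨v, hv, rfl⟩ := hb
    exact ⟨w ++ v, fun p hp => (List.mem_append.1 hp).elim (hw p) (hv p), (hF.wg_append w v).symm⟩
  | inv a _ ha =>
    obtain ⟨w, hw, rfl⟩ := ha
    refine ⟨(w.map fun p => (p.1, -p.2)).reverse, fun p hp => ?_, ?_⟩
    · obtain ⟨q, hq, rfl⟩ := List.mem_map.1 (List.mem_reverse.1 hp)
      exact hw q hq
    · clear hw
      rename_i hmem
      clear hmem
      induction w with
      | nil => simp [hF.wg_nil]
      | cons p w ih =>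
        rw [hF.wg_cons, _root_.mul_inv_rev, List.map_cons, List.reverse_cons, hF.wg_append, ← ih,
          hF.wg_cons, hF.wg_nil, mul_one, hF.xg_neg]

include hF hR in
/-- Splitting off the part of level zero. -/
theorem U_level {u : GL D.Idx F} (hu : u ∈ (hF.tsys F).U) :
    ∃ q ∈ (hF.tsys F).US (qAll D), ∃ l ∈ (hF.tsys F).US (l0 D), u = q * l := by
  have hnorm : (hF.tsys F).US (l0 D) ≤ Subgroup.normalizer ((hF.tsys F).US (qAll D) : Set (GL D.Idx F)) := by
    refine CommSys.US_le _ fun r hr t => CommSys.x_normalizes _ (l0_pos hr).2 (fun s hs => ?_) t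
    have hsp : D.nroots / 2 ≤ s ∧ s < D.nroots := by
      rcases List.mem_cons.1 hs with rfl | hs
      exacts [top_pos hF hR, q1_pos hs]
    exact ⟨hsp.2, ne_neg_of_pos hF (l0_pos hr) hsp, fun _ c hc => l0_closed hR hr hs hc⟩
  induction hu using Subgroup.closure_induction with
  | mem g hg =>
    obtain ⟨r, hr, t, rfl⟩ := hg
    rcases pos_cases hR hr with h | h | h
    · exact ⟨_, CommSys.x_mem_US _ (h ▸ List.mem_cons_self) t, 1, one_mem _, (mul_one _).symm⟩
    · exact ⟨1, one_mem _, _, CommSys.x_mem_US _ h t, (one_mul _).symm⟩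
    · exact ⟨_, CommSys.x_mem_US _ (List.mem_cons_of_mem _ h) t, 1, one_mem _, (mul_one _).symm⟩
  | one => exact ⟨1, one_mem _, 1, one_mem _, (mul_one _).symm⟩
  | mul a b _ _ ha hb =>
    obtain ⟨q, hq, l, hl, rfl⟩ := ha
    obtain ⟨q', hq', l', hl', rfl⟩ := hb
    refine ⟨q * (l * q' * l⁻¹), mul_mem hq ((Subgroup.mem_normalizer_iff.1 (hnorm hl) q').1 hq'),
      l * l', mul_mem hl hl', by group⟩
  | inv a _ ha =>
    obtain ⟨q, hq, l, hl, rfl⟩ := ha
    refine ⟨l⁻¹ * q⁻¹ * l, (Subgroup.mem_normalizer_iff''.1 (hnorm hl) _).1 (inv_mem hq),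
      l⁻¹, inv_mem hl, by group⟩

/-- The standard form: c on the lowest root, moved by coordinates t and z. -/
noncomputable def low (hF : Facts D) (t : ℕ → F) (z c : F) : GL D.Idx F :=
  qE hF t * hF.xg (top D) z * hF.xg (D.neg (top D)) c * (qE hF t * hF.xg (top D) z)⁻¹

include hF hR in
/-- The standard form of a conjugate on the lowest root. -/
theorem low_of_U {u : GL D.Idx F} (hu : u ∈ (hF.tsys F).U) (c : F) :
    ∃ t z, u * hF.xg (D.neg (top D)) c * u⁻¹ = low hF t z c := by
  obtain ⟨q, hq, l, hl, rfl⟩ := U_level hF hR hu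
  have hcomm : Commute l (hF.xg (D.neg (top D)) c) := by
    have : (hF.tsys F).US (l0 D) ≤ Subgroup.centralizer {hF.xg (D.neg (top D)) c} := by
      refine CommSys.US_le _ fun r hr a => Subgroup.mem_centralizer_singleton_iff.2 ?_
      refine (xg_commute hF (l0_pos hr).2 (hF.neg_lt (top_lt hR)) ?_ (l0_lowest hR hr).1 a c).eq
      intro e
      have e' : top D = r := by
        rw [← hF.neg_neg (top_lt hR), e, hF.neg_neg (l0_pos hr).2]
      have := (mem_l0.1 hr).2
      rw [← e', lev_top hR] at this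
      omega
    exact Subgroup.mem_centralizer_singleton_iff.1 (this hl)
  obtain ⟨w, hw, rfl⟩ := US_words hF hR hq
  obtain ⟨z, hz⟩ := wg_normal hF hR w hw
  refine ⟨coord w, z, ?_⟩
  rw [low, ← hz, mul_assoc (hF.wg w) l, hcomm.eq]
  group

include hF hC in
theorem climb : ∀ β, lg D β = true → ∀ u ∈ (hF.tsys F).U, ∀ c : F, c ≠ 0 →
    ∃ m ∈ rat hF K₀, ∃ u' ∈ (hF.tsys F).U, ∃ c' : F, c' ≠ 0 ∧
      m * (u * hF.xg β c * u⁻¹) * m⁻¹ = u' * hF.xg (D.neg (top D)) c' * u'⁻¹ := by
  intro β
  induction β using Nat.strong_induction_on with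
  | _ β ih =>
    intro hβ u hu c hc
    by_cases hlow : β = D.neg (top D)
    · exact ⟨1, one_mem _, u, hu, c, hc, by simp [hlow]⟩
    have hC' := hC
    simp only [okClimb, Bool.and_eq_true, List.all_eq_true, List.mem_range, Bool.or_eq_true,
      List.any_eq_true, beq_iff_eq, decide_eq_true_eq, Bool.not_eq_true', List.isEmpty_iff] at hC'
    have hlt := lg_lt hF hβ
    obtain ⟨i, hi, hpos, hcase⟩ := (hC'.2 β hlt).resolve_left (by simp [hβ, hlow])
    have hsl := hF.simple_lt i hi
    have hcomm : ∀ a : F, Commute (hF.xg (D.simple i) a) (hF.xg β c) := fun a => by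
      rcases hcase with rfl | hterm
      · exact xg_self_commute hF _ a c
      · refine xg_commute hF hsl hlt (fun e => ?_) hterm a c
        rw [e, hF.cartan_neg i hi _ hsl, hF.cartan_simple i hi] at hpos
        omega
    obtain ⟨v, hv, a, rfl⟩ := (hF.tsys F).U_split ⟨i, hi⟩ hu
    set n := (hF.tsys F).nS ⟨i, hi⟩ with hn
    have hnc := (hF.tsys F).nS_conj ⟨i, hi⟩ (F := F) hlt c
    rw [← hn] at hnc
    have hsmall : D.reflectRoot i β < β := by
      refine hF.lt_of_psi_lt (hF.refl_lt i hi β hlt) ?_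
      rw [TorusSys.psi_comb (hF := hF) (r := β) (s := D.simple i) (k := D.reflectRoot i β) 1 (-D.cartan i β)
        (fun j hj => by rw [hF.cartan_refl i hi β hlt j hj]; ring)]
      have := hF.psi_pos hsl (hF.simple_ge i hi)
      nlinarith
    have hne : hF.sgn F i β * c ≠ 0 := mul_ne_zero (fun e => by
      have := hF.sgn_mul_self (F := F) hi hlt; rw [e, zero_mul] at this; exact zero_ne_one this) hc
    have hu' : n * v * n⁻¹ ∈ (hF.tsys F).U :=
      (hF.tsys F).US_posNe_le_U _ ((hF.tsys F).nS_conj_posNe ⟨i, hi⟩ hv).1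
    obtain ⟨m, hm, u', hu'', c', hc', he⟩ := ih _ hsmall (lg_refl hF hi hβ) _ hu' _ hne
    refine ⟨m * n, mul_mem hm (nS_mem_rat hF K₀ _), u', hu'', c', hc', ?_⟩
    rw [← he]
    have e1 : v * hF.xg (D.simple i) a * hF.xg β c * (v * hF.xg (D.simple i) a)⁻¹ =
        v * hF.xg β c * v⁻¹ := by
      rw [mul_assoc v, (hcomm a).eq]; group
    change m * n * (v * hF.xg (D.simple i) a * hF.xg β c * (v * hF.xg (D.simple i) a)⁻¹) * (m * n)⁻¹ = _
    rw [e1]
    change n * hF.xg β c * n⁻¹ = hF.xg (D.reflectRoot i β) (hF.sgn F i β * c) at hnc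
    rw [← hnc]
    group

include hF hR in
/-- Upper unitriangular elements centralize the highest root group. -/
theorem U_top {u : GL D.Idx F} (hu : u ∈ (hF.tsys F).U) (z : F) : Commute u (hF.xg (top D) z) := by
  have : (hF.tsys F).U ≤ Subgroup.centralizer {hF.xg (top D) z} := by
    refine CommSys.US_le _ fun r hr a => Subgroup.mem_centralizer_singleton_iff.2 ?_
    rcases pos_cases hR hr with h | h | h
    · rw [h]; exact (xg_self_commute hF (top D) a z).eq
    · exact (xg_commute hF (top_lt hR) (l0_pos h).2 (ne_neg_of_pos hF (top_pos hF hR) (l0_pos h))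
        (l0_lowest hR h).2 z a).eq.symm
    · exact (top_central hF hR (List.mem_cons_of_mem _ h) a z).eq
  exact Subgroup.mem_centralizer_singleton_iff.1 (this hu)

include hF hR hC in
/-- The normal form of a conjugate of an element of the highest root group. -/
theorem normal_form {g : GL D.Idx F} (hg : g ∈ D.group F) {t : F} (ht : t ≠ 0) :
    ∃ m ∈ rat hF K₀, ∃ q z c, c ≠ 0 ∧ m * (g * hF.xg (top D) t * g⁻¹) * m⁻¹ = low hF q z c := by
  obtain ⟨b, hb, w, u, hu, rfl⟩ := hF.mem_bnu hg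
  have huU : u ∈ (hF.tsys F).U :=
    CommSys.US_mono _ (fun r hr => Facts.mem_posL.2 ((TorusSys.closed_invList w).mem_pos r hr)) hu
  obtain ⟨v, hv, a, ha, rfl⟩ := (hF.tsys F).mem_B.1 hb
  obtain ⟨e, he, hconj⟩ := hF.nW_conj (F := F) w ⟨top D, top_lt hR⟩
  obtain ⟨⟨d, hd⟩, -⟩ := (hF.tsys F).H_conj_X ha (s := (w • (⟨top D, top_lt hR⟩ : Fin D.nroots)).val)
    (Fin.isLt _) (e * t)
  simp only [hF.tsys_x] at hd
  have key : v * a * (hF.tsys F).nW w * u * hF.xg (top D) t * (v * a * (hF.tsys F).nW w * u)⁻¹ =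
      v * hF.xg (w • (⟨top D, top_lt hR⟩ : Fin D.nroots)).val d * v⁻¹ := by
    have hd' : a * hF.xg (w • (⟨top D, top_lt hR⟩ : Fin D.nroots)).val (e * t) * a⁻¹ =
      hF.xg (w • (⟨top D, top_lt hR⟩ : Fin D.nroots)).val d := hd
    rw [← hd', ← hconj t, mul_assoc (v * a * _) u, (U_top hF hR huU t).eq]
    group
  have hd0 : d ≠ 0 := by
    rintro rfl
    rw [hF.xg_zero, mul_one, mul_inv_cancel] at key
    have h1 : hF.xg (top D) t = 1 := by
      have := congrArg (fun x => (v * a * (hF.tsys F).nW w * u)⁻¹ * x * (v * a * (hF.tsys F).nW w * u)) key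
      simpa [mul_assoc] using this
    exact ht ((hF.x_eq_one (top D) (top_lt hR) t).1 (congrArg Units.val h1))
  have hlg : lg D (top D) = true := by
    have := hC; simp only [okClimb, Bool.and_eq_true] at this; exact this.1
  obtain ⟨m, hm, u', hu', c', hc', he'⟩ := climb hF K₀ hC _ (lg_weyl hF w (r := ⟨top D, top_lt hR⟩) hlg) v hv d hd0
  obtain ⟨q, z, hq⟩ := low_of_U hF hR hu' c'
  exact ⟨m, hm, q, z, c', hc', by rw [key, he', hq]⟩

end Cfsg.Agent.Lie.SubMax
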