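import Cfsg.Agent.Lib.Lie.SubMax.Main
import Cfsg.Agent.Lib.Lie.SubMax.Short
import Cfsg.Agent.Lib.Lie.SubMax.Edge

/-!
Normal forms are rational when there are two suitable long roots of level one.
-/

set_option autoImplicit false

namespace Cfsg.Agent.Lie.SubMax

open Cfsg.Lie Matrix
open scoped MatrixGroups

variable {D : ChevalleyDatum} {F : Type*} [Field F] (hF : Facts D)

include hF in
theorem lowRational_of_edge [Fintype F] (hR : okRad D = true) (hlt : lg D (top D) = true) (hO : okOpp D = true)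
    (hE : okEdge D = true) {b₀ : ℕ} (hb₀ : b₀ ∈ q1 D) (hb₀l : lg D b₀ = true)
    (hS : (∀ s ∈ q1 D, lg D s = true) ∨ (okPart D = true ∧ okShort D = true))
    {K₀ : Subfield F} :
    LowRational hF K₀ := by
  intro H T t z c hc hlow
  have hlong : ∀ s ∈ q1 D, lg D s = true → t s ∈ K₀ := fun s hs hl => by
    have O := oppData hO hs hl
    have := T.edge hF hR hlt hO hE O.mem O.long hc hlow
    rwa [O.invol] at this
  have hall : ∀ s ∈ q1 D, t s ∈ K₀ := by
    rcases hS with h | ⟨hP, hS⟩
    · exact fun s hs => hlong s hs (h s hs)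
    · exact T.short_mem hF hR hlt hO hP hS hlow hc hlong
  have O := oppData hO hb₀ hb₀l
  exact ⟨hall, T.z_mem hF hR hlt hb₀ hb₀l O hall hlow hc, T.c_mem hF hR hlt hb₀ O (hall _ O.mem) hlow⟩

end Cfsg.Agent.Lie.SubMax
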