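import Cfsg.Agent.Lib.Lie.SubMax.Short
import Cfsg.Agent.Lib.Lie.SubMax.Edge
import Cfsg.Agent.Lib.Lie.SubMax.Centralizer
import Cfsg.Agent.Lib.Lie.CertSound

/-!
The tables evaluated through packed certificates.
-/

set_option autoImplicit false

namespace Cfsg.Agent.Lie.SubMax

open Cfsg.Lie

/-- The functions the tables are made of. -/
structure Ops where
  /-- pairing -/
  pair : ℕ → ℕ → ℤ
  /-- negation -/
  neg : ℕ → ℕ
  /-- Cartan integers -/
  car : ℕ → ℕ → ℤ
  /-- chains -/
  entry : ℕ → ℕ → List (ℕ × ℤ)
  /-- long roots -/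
  long : ℕ → Bool

/-- The defining functions. -/
def stdOps (D : ChevalleyDatum) : Ops := ⟨D.pairing, D.neg, D.cartan, D.chainEntry, lg D⟩

/-- The packed functions. -/
noncomputable def fastOps (c : Cert) (D : ChevalleyDatum) : Ops where
  pair r s := if r < c.n ∧ s < c.n then c.cpair r s else D.pairing r s
  neg r := if r < c.n then c.negC r else D.neg r
  car i s := if i < c.l ∧ s < c.n then c.cA i s else D.cartan i s
  entry s v := if s < c.n then c.cE s v else D.chainEntry s v
  long := lg D

/-- The packed functions when all roots are long. -/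
noncomputable def longOps (c : Cert) (D : ChevalleyDatum) : Ops :=
  { fastOps c D with long := fun r => decide (r < D.nroots) }

theorem fastOps_eq {c : Cert} {D : ChevalleyDatum} (h1 : c.okShape D = true) (h2 : c.okChain D = true) :
    fastOps c D = stdOps D := by
  simp only [Cert.okShape, Bool.and_eq_true, allIdx_iff, Nat.zero_add, Nat.beq_eq, Nat.ble_eq,
    Nat.blt_eq, decide_eq_true_eq, beq_iff_eq, nblt] at h1
  obtain ⟨⟨⟨⟨⟨⟨⟨⟨⟨⟨⟨⟨⟨-, hl⟩, -⟩, -⟩, -⟩, -⟩, hnegl⟩, hneg⟩, -⟩, -⟩,
    hcarl⟩, hcar⟩, hcol⟩, hco⟩ := h1
  simp only [Cert.okChain, Bool.and_eq_true, allIdx_iff, Nat.zero_add, Nat.beq_eq, Nat.blt_eq,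
    Nat.ble_eq, allMem_iff, Bool.not_eq_true', nbeq, decide_eq_true_eq,
    decide_eq_false_iff_not] at h2
  obtain ⟨hchl, hch⟩ := h2
  have ecar : ∀ j, j < c.l → ∀ s, s < c.n → D.cartan j s = c.cA j s := by
    intro j hj s hs
    obtain ⟨hlen, hrow⟩ := hcar j (hcarl ▸ hj)
    rw [ChevalleyDatum.cartan, array_getD_eq D.cartanSR _ _ (hcarl ▸ hj),
      array_getD_eq (D.cartanSR.toList[j]'(hcarl ▸ hj)) _ _ (hlen ▸ hs)]
    exact (hrow s (hlen ▸ hs)).1.1
  have eco : ∀ s, s < c.n → ∀ j, j < c.l → co D s j = c.cC s j := by
    intro s hs j hj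
    obtain ⟨⟨⟨hlen, hrow⟩, -⟩, -⟩ := hco s (hcol ▸ hs)
    rw [co, array_getD_eq D.coroot _ _ (hcol ▸ hs), array_getD_eq (D.coroot.toList[s]'(hcol ▸ hs)) _ _ (hlen ▸ hj)]
    exact hrow j (hlen ▸ hj)
  unfold fastOps stdOps
  congr 1
  · funext r s
    by_cases h : r < c.n ∧ s < c.n
    · rw [if_pos h, pairing_eq, Cert.cpair, Cert.sumTo_eq, hl]
      refine Finset.sum_congr rfl fun j hj => ?_
      rw [eco r h.1 j (Finset.mem_range.1 hj), ecar j (Finset.mem_range.1 hj) s h.2]
    · rw [if_neg h]
  · funext r
    by_cases h : r < c.n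
    · rw [if_pos h, ChevalleyDatum.neg, array_getD_eq _ _ _ (hnegl ▸ h)]
      exact (hneg r (hnegl ▸ h)).symm
    · rw [if_neg h]
  · funext i s
    by_cases h : i < c.l ∧ s < c.n
    · rw [if_pos h, ecar i h.1 s h.2]
    · rw [if_neg h]
  · funext s v
    by_cases hs : s < c.n
    swap
    · rw [if_neg hs]
    rw [if_pos hs]
    obtain ⟨⟨hinc, hK⟩, hmem⟩ := hch s (hchl ▸ hs)
    have hrow : D.chainEntry s v = (((D.chain.toList[s]'(hchl ▸ hs)).toList.find? fun e => e.1 = v).map
        fun e => e.2.toList).getD [] := by
      rw [ChevalleyDatum.chainEntry, array_getD_eq _ _ _ (hchl ▸ hs)]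
      cases ((D.chain.toList[s]'(hchl ▸ hs)).toList.find? fun e => e.1 = v) <;> rfl
    have hd := dig_packAt (w := 13 * c.maxlen) (f := fun e : ℕ × Array (ℕ × ℤ) => Cert.encRow e.2.toList)
      v hinc fun e he => by
        have := hmem e he
        exact Cert.encRow_lt (fun a ha => (this.1.1.2 a ha).1) this.1.1.1.2
    rw [hK] at hd
    rw [Cert.cE, hd, hrow]
    generalize hf : ((D.chain.toList[s]'(hchl ▸ hs)).toList.find? fun e => e.1 = v) = o
    cases o with
    | none => exact Cert.decRow_encRow (L := []) (by simp) (by simp)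
    | some e =>
      have := hmem e (List.mem_of_find?_eq_some hf)
      exact Cert.decRow_encRow (fun a ha => (this.1.1.2 a ha).1) this.1.1.1.2

variable (D : ChevalleyDatum) (o : Ops)

/-- The commutator terms. -/
def commG (r s : ℕ) : List (ℕ × ℤ × ℕ × ℕ) :=
  let root := fun r s i => ((o.entry r s)[i - 1]?).map Prod.fst
  let coef := fun r s i => (((o.entry r s)[i - 1]?).map Prod.snd).getD 0
  let rs := root r s 1
  let cands : List (Option ℕ × ℤ × ℕ × ℕ) :=
    [ (root r s 1, coef r s 1, 1, 1), (root r s 2, coef r s 2, 2, 1), (root s r 2, coef s r 2, 1, 2),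
      (root r s 3, coef r s 3, 3, 1), (root s r 3, - coef s r 3, 1, 3),
      ((root r s 3).bind fun k => root k s 1, (rs.map fun k => coef k r 2 / 3).getD 0, 3, 2),
      ((root s r 3).bind fun k => root k r 1, (rs.map fun k => -2 * coef k s 2 / 3).getD 0, 2, 3) ]
  cands.filterMap fun c => c.1.map fun k => (k, c.2)

/-- The reflections. -/
def reflG (i s : ℕ) : ℕ :=
  let p := D.simple i
  let A := o.car i s
  if s = p then o.neg p
  else if s = o.neg p then p
  else if 0 < A then (((o.entry (o.neg p) s)[A.toNat - 1]?).map Prod.fst).getD s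
  else if A < 0 then (((o.entry p s)[(-A).toNat - 1]?).map Prod.fst).getD s
  else s

/-- Every root is carried upwards to the highest one. -/
def okAscentG : Bool :=
  (List.range D.nroots).all fun r => r == top D || (List.range D.rank).any fun i =>
    decide (r < reflG D o i r) && decide (reflG D o i r < D.nroots)

/-- The highest root is long. -/
def okTopG : Bool :=
  decide (top D < D.nroots) && (List.range D.nroots).all fun s =>
    s == top D || s == o.neg (top D) || decide ((o.pair (top D) s).natAbs ≤ 1)

/-- The roots of level one. -/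
def q1G : List ℕ := (Facts.posL D).filter fun r => decide (o.pair (top D) r = 1)

/-- The roots of level zero. -/
def l0G : List ℕ := (Facts.posL D).filter fun r => decide (o.pair (top D) r = 0)

/-- The climbing table. -/
def okClimbG : Bool :=
  o.long (top D) && (List.range D.nroots).all fun r => !(o.long r) || r == o.neg (top D) ||
    (List.range D.rank).any fun i =>
      decide (0 < o.car i r) && (r == D.simple i || (commG o (D.simple i) r).isEmpty)

/-- The radical table. -/
def okRadG : Bool :=
  decide (0 < D.nroots) && decide (o.pair (top D) (top D) = 2) &&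
  (Facts.posL D).all (fun r => r == top D || decide (o.pair (top D) r = 0) || decide (o.pair (top D) r = 1)) &&
  (l0G D o).all (fun r => (commG o r (o.neg (top D))).isEmpty &&
    (top D :: q1G D o).all fun s => (commG o r s).all fun c => (top D :: q1G D o).contains c.1) &&
  (q1G D o).all (fun r => (commG o r (top D)).isEmpty && (commG o (top D) r).isEmpty &&
    (q1G D o).all fun s => s == r || (commG o r s).all fun c => c.1 == top D) &&
  (l0G D o).all (fun r => (commG o (top D) r).isEmpty)

/-- The partner. -/
def oppG (b : ℕ) : ℕ := ((q1G D o).find? fun g => !(commG o b g).isEmpty).getD 0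

/-- The table of long roots of level one. -/
def okOppG : Bool :=
  ((q1G D o).filter o.long).all fun b =>
    (q1G D o).contains (oppG D o b) && o.long (oppG D o b) && oppG D o (oppG D o b) == b && oppG D o b != b &&
    oneTerm (commG o b (oppG D o b)) (top D) &&
    oneTerm (commG o b (o.neg (top D))) (o.neg (oppG D o b)) &&
    oneTerm (commG o (top D) (o.neg (oppG D o b))) b &&
    oneTerm (commG o (o.neg (top D)) b) (o.neg (oppG D o b)) &&
    (commG o (o.neg (top D)) (o.neg (oppG D o b))).isEmpty &&
    (commG o b (o.neg (oppG D o b))).isEmpty &&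
    (q1G D o).all fun s => s == b || s == oppG D o b || (commG o b s).isEmpty

/-- The table of pairs of long roots of level one. -/
def okEdgeG : Bool :=
  ((q1G D o).filter o.long).all fun b => ((q1G D o).filter o.long).any fun e =>
    e != b && e != oppG D o b && (commG o b (o.neg (oppG D o e))).isEmpty &&
      (commG o e (o.neg (oppG D o b))).isEmpty &&
      (commG o (o.neg (oppG D o b)) (o.neg (oppG D o e))).isEmpty

/-- The table for the torus. -/
def okTorusG : Bool :=
  (List.range D.nroots).all fun s => o.long s ||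
    (List.range D.nroots).any fun r => o.long r && o.long (o.neg r) && (o.pair r s).natAbs == 1

/-- The table for the simple roots. -/
def okGenG : Bool :=
  (List.range D.rank).all fun i => o.long (D.simple i) ||
    (List.range D.nroots).any fun r => o.long r && (List.range D.nroots).any fun s =>
      s != r && s != o.neg r &&
        ((commG o r s).all fun c => decide (D.nroots / 2 ≤ c.1) && decide (c.1 < D.nroots)) &&
        match (commG o r s).filter (fun c => c.1 == D.simple i) with
          | [c] => c.2.1.natAbs == 1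
          | _ => false

theorem std_eq :
    okClimbG D (stdOps D) = okClimb D ∧ okRadG D (stdOps D) = okRad D ∧ okOppG D (stdOps D) = okOpp D ∧
      okEdgeG D (stdOps D) = okEdge D ∧ okTorusG D (stdOps D) = okTorus D ∧ okGenG D (stdOps D) = okGen D :=
  ⟨rfl, rfl, rfl, rfl, rfl, rfl⟩

variable {D} in
/-- All roots are long. -/
theorem longOps_eq (hF : Facts D) {c : Cert} (h1 : c.okShape D = true) (h2 : c.okChain D = true)
    (ht : okTopG D (fastOps c D) = true) (ha : okAscentG D (fastOps c D) = true) : longOps c D = stdOps D := by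
  have hall : ∀ r, r < D.nroots → lg D r = true := by
    rw [fastOps_eq h1 h2] at ht ha
    simp only [okAscentG, List.all_eq_true, List.mem_range, Bool.or_eq_true, beq_iff_eq, List.any_eq_true,
      Bool.and_eq_true, decide_eq_true_eq] at ha
    intro r hr
    induction h : D.nroots - r using Nat.strong_induction_on generalizing r with
    | _ d ih =>
      rcases ha r hr with h' | ⟨i, hi, hlt, hlt'⟩
      · rw [h']; exact ht
      · have e : reflG D (stdOps D) i r = D.reflectRoot i r := rfl
        rw [e] at hlt hlt'
        have := lg_refl hF hi (ih (D.nroots - D.reflectRoot i r) (by omega) _ hlt' rfl)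
        rwa [hF.refl_refl i hi r hr] at this
  have e : (fun r => decide (r < D.nroots)) = lg D := by
    funext r
    by_cases hr : r < D.nroots
    · rw [hall r hr, decide_eq_true hr]
    · rw [decide_eq_false hr]
      simp [lg, hr]
  rw [longOps, fastOps_eq h1 h2, e]
  rfl

variable {D} in
/-- The tables from their evaluation with all roots long. -/
theorem ok_of_long (hF : Facts D) {c : Cert} (h1 : c.okShape D = true) (h2 : c.okChain D = true)
    (ht : okTopG D (fastOps c D) = true) (ha : okAscentG D (fastOps c D) = true) :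
    (okClimbG D (longOps c D) = true → okClimb D = true) ∧ (okRadG D (longOps c D) = true → okRad D = true) ∧
      (okOppG D (longOps c D) = true → okOpp D = true) ∧ (okEdgeG D (longOps c D) = true → okEdge D = true) ∧
      (okTorusG D (longOps c D) = true → okTorus D = true) ∧ (okGenG D (longOps c D) = true → okGen D = true) := by
  obtain ⟨e1, e2, e3, e4, e5, e6⟩ := std_eq D
  rw [longOps_eq hF h1 h2 ht ha, e1, e2, e3, e4, e5, e6]
  exact ⟨id, id, id, id, id, id⟩

variable {D} in
/-- The tables from their packed evaluation. -/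
theorem ok_of_fast {c : Cert} (h1 : c.okShape D = true) (h2 : c.okChain D = true) :
    (okClimbG D (fastOps c D) = true → okClimb D = true) ∧ (okRadG D (fastOps c D) = true → okRad D = true) ∧
      (okOppG D (fastOps c D) = true → okOpp D = true) ∧ (okEdgeG D (fastOps c D) = true → okEdge D = true) ∧
      (okTorusG D (fastOps c D) = true → okTorus D = true) ∧ (okGenG D (fastOps c D) = true → okGen D = true) := by
  obtain ⟨e1, e2, e3, e4, e5, e6⟩ := std_eq D
  rw [fastOps_eq h1 h2, e1, e2, e3, e4, e5, e6]
  exact ⟨id, id, id, id, id, id⟩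

end Cfsg.Agent.Lie.SubMax
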