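import Cfsg.Agent.Lib.Lie.SubMax.Basic

/-!
The tables for long roots of level one with respect to the highest root.
-/

set_option autoImplicit false

namespace Cfsg.Agent.Lie.SubMax

open Cfsg.Lie

/-- The level one root completing a root to the highest root. -/
def opp (D : ChevalleyDatum) (b : ℕ) : ℕ :=
  ((q1 D).find? fun g => !(D.commTerms b g).isEmpty).getD 0

/-- A single commutator term with coefficient a sign. -/
def oneTerm (L : List (ℕ × ℤ × ℕ × ℕ)) (k : ℕ) : Bool :=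
  match L with
  | [c] => c.1 == k && c.2.1.natAbs == 1 && c.2.2.1 == 1 && c.2.2.2 == 1
  | _ => false

/-- The table for long roots of level one. -/
def okOpp (D : ChevalleyDatum) : Bool :=
  ((q1 D).filter (lg D)).all fun b =>
    (q1 D).contains (opp D b) && lg D (opp D b) && opp D (opp D b) == b && opp D b != b &&
    oneTerm (D.commTerms b (opp D b)) (top D) &&
    oneTerm (D.commTerms b (D.neg (top D))) (D.neg (opp D b)) &&
    oneTerm (D.commTerms (top D) (D.neg (opp D b))) b &&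
    oneTerm (D.commTerms (D.neg (top D)) b) (D.neg (opp D b)) &&
    (D.commTerms (D.neg (top D)) (D.neg (opp D b))).isEmpty &&
    (D.commTerms b (D.neg (opp D b))).isEmpty &&
    (q1 D).all fun s => s == b || s == opp D b || (D.commTerms b s).isEmpty

theorem oneTerm_spec {L : List (ℕ × ℤ × ℕ × ℕ)} {k : ℕ} (h : oneTerm L k = true) :
    ∃ N : ℤ, N.natAbs = 1 ∧ L = [(k, N, 1, 1)] := by
  match L, h with
  | [(a, N, i, j)], h =>
    simp only [oneTerm, Bool.and_eq_true, beq_iff_eq] at h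
    obtain ⟨⟨⟨rfl, hN⟩, rfl⟩, rfl⟩ := h
    exact ⟨N, hN, rfl⟩


variable {D : ChevalleyDatum}

/-- What is used about a long root of level one and its partner. -/
structure OppData (D : ChevalleyDatum) (b : ℕ) : Prop where
  mem : opp D b ∈ q1 D
  long : lg D (opp D b) = true
  invol : opp D (opp D b) = b
  ne : opp D b ≠ b
  toTop : ∃ N : ℤ, N.natAbs = 1 ∧ D.commTerms b (opp D b) = [(top D, N, 1, 1)]
  down : ∃ N : ℤ, N.natAbs = 1 ∧ D.commTerms b (D.neg (top D)) = [(D.neg (opp D b), N, 1, 1)]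
  up : ∃ N : ℤ, N.natAbs = 1 ∧ D.commTerms (top D) (D.neg (opp D b)) = [(b, N, 1, 1)]
  down' : ∃ N : ℤ, N.natAbs = 1 ∧ D.commTerms (D.neg (top D)) b = [(D.neg (opp D b), N, 1, 1)]
  negs : D.commTerms (D.neg (top D)) (D.neg (opp D b)) = []
  abel : D.commTerms b (D.neg (opp D b)) = []
  other : ∀ s ∈ q1 D, s ≠ b → s ≠ opp D b → D.commTerms b s = []

theorem oppData (h : okOpp D = true) {b : ℕ} (hb : b ∈ q1 D) (hl : lg D b = true) : OppData D b := by
  simp only [okOpp, Bool.and_eq_true, List.all_eq_true, List.contains_iff_mem, beq_iff_eq, bne_iff_ne,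
    List.isEmpty_iff, Bool.or_eq_true] at h
  obtain ⟨⟨⟨⟨⟨⟨⟨⟨⟨⟨h1, h2⟩, h3⟩, h4⟩, h5⟩, h6⟩, h7⟩, h8⟩, h9⟩, h10⟩, h11⟩ :=
    h b (List.mem_filter.2 ⟨hb, hl⟩)
  exact ⟨h1, h2, h3, h4, oneTerm_spec h5, oneTerm_spec h6, oneTerm_spec h7, oneTerm_spec h8, h9, h10,
    fun s hs n1 n2 => by simpa [n1, n2] using h11 s hs⟩

/-- What is used about any root of level one and its partner. -/
structure Part (D : ChevalleyDatum) (b : ℕ) : Prop where
  mem : opp D b ∈ q1 D
  invol : opp D (opp D b) = b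
  ne : opp D b ≠ b
  toTop : ∃ N : ℤ, N ≠ 0 ∧ N.natAbs ≤ 3 ∧ D.commTerms b (opp D b) = [(top D, N, 1, 1)]
  other : ∀ s ∈ q1 D, s ≠ b → s ≠ opp D b → D.commTerms b s = []

theorem OppData.part {b : ℕ} (O : OppData D b) : Part D b :=
  ⟨O.mem, O.invol, O.ne, by
    obtain ⟨N, hN, h⟩ := O.toTop
    exact ⟨N, by rintro rfl; simp at hN, by omega, h⟩, O.other⟩

/-- The table for all roots of level one. -/
def okPart (D : ChevalleyDatum) : Bool :=
  (q1 D).all fun b =>
    (q1 D).contains (opp D b) && opp D (opp D b) == b && opp D b != b &&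
    (match D.commTerms b (opp D b) with
      | [c] => c.1 == top D && c.2.1 != 0 && decide (c.2.1.natAbs ≤ 3) && c.2.2.1 == 1 && c.2.2.2 == 1
      | _ => false) &&
    (q1 D).all fun s => s == b || s == opp D b || (D.commTerms b s).isEmpty

theorem partData (h : okPart D = true) {b : ℕ} (hb : b ∈ q1 D) : Part D b := by
  simp only [okPart, Bool.and_eq_true, List.all_eq_true, List.contains_iff_mem, beq_iff_eq, bne_iff_ne,
    List.isEmpty_iff, Bool.or_eq_true] at h
  obtain ⟨⟨⟨⟨h1, h2⟩, h3⟩, h4⟩, h5⟩ := h b hb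
  refine ⟨h1, h2, h3, ?_, fun s hs n1 n2 => by simpa [n1, n2] using h5 s hs⟩
  revert h4
  rcases D.commTerms b (opp D b) with _ | ⟨⟨k, N, i, j⟩, _ | _⟩ <;> simp
  rintro rfl hN hN' rfl rfl
  exact ⟨hN, hN', rfl, rfl, rfl⟩


end Cfsg.Agent.Lie.SubMax
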