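import Cfsg.Agent.Lib.Lie.SubMax.Climb
import Cfsg.Agent.Lib.Lie.SubMax.Tables
import Cfsg.Agent.Lib.Classical.SL2PlaneGen

/-!
The frame at a normal form: long coordinates that are not rational span the field over the rationals.
-/

set_option autoImplicit false

namespace Cfsg.Agent.Lie.SubMax

open Cfsg.Lie Matrix
open scoped MatrixGroups

variable {D : ChevalleyDatum} {F : Type*} [Field F] (hF : Facts D)

theorem natAbs_one_cast {N : ℤ} (h : N.natAbs = 1) (F : Type*) [Field F] : (N : F) * N = 1 := by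
  rcases Int.natAbs_eq N with e | e <;> rw [e, h] <;> simp

theorem natAbs_one_mem {N : ℤ} {F : Type*} [Field F] (K₀ : Subfield F) : (N : F) ∈ K₀ := intCast_mem K₀ N

include hF in
/-- Two roots with a single commutator term. -/
theorem swap_one {r s k : ℕ} {N : ℤ} (hr : r < D.nroots) (hs : s < D.nroots) (h1 : s ≠ r) (h2 : s ≠ D.neg r)
    (h : D.commTerms r s = [(k, N, 1, 1)]) (t u : F) :
    hF.xg s u * hF.xg r t = hF.xg r t * hF.xg s u * hF.xg k (-((N : F) * t * u)) := by
  rw [xg_swap hF hr hs h1 h2 t u, show D.commWord F r s t u = [(k, (N : F) * (-t) ^ 1 * u ^ 1)] by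
    simp [ChevalleyDatum.commWord, h], hF.wg_cons, hF.wg_nil, mul_one]
  congr 2
  ring

variable (hR : okRad D = true)

include hF hR in
theorem opp_side {b : ℕ} (hb : b ∈ q1 D) (O : OppData D b) :
    b < D.nroots ∧ D.neg (opp D b) < D.nroots ∧ b ≠ D.neg (opp D b) ∧ b ≠ top D ∧ b ≠ D.neg (top D) ∧
      D.neg (opp D b) ≠ top D ∧ D.neg (opp D b) ≠ D.neg (top D) := by
  have hb' := q1_pos hb
  have hg := q1_pos O.mem
  have ht := top_pos hF hR
  refine ⟨hb'.2, hF.neg_lt hg.2, ne_neg_of_pos hF hg hb', q1_ne_top hR hb, ne_neg_of_pos hF ht hb',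
    fun e => ne_neg_of_pos hF hg ht e.symm, fun e => q1_ne_top hR O.mem ?_⟩
  rw [← hF.neg_neg hg.2, e, hF.neg_neg ht.2]

include hF hR in
/-- Conjugating a root element of level one by a standard product. -/
theorem frame_conj {b : ℕ} (hb : b ∈ q1 D) (O : Part D b) {N : ℤ}
    (hN : D.commTerms b (opp D b) = [(top D, N, 1, 1)]) (t : ℕ → F) (z s : F) :
    qE hF t * hF.xg (top D) z * hF.xg b s * (qE hF t * hF.xg (top D) z)⁻¹ =
      hF.xg b s * hF.xg (top D) (-((N : F) * s * t (opp D b))) := by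
  have hbn := (q1_pos hb).2
  have main : ∀ L : List ℕ, L.Nodup → (∀ r ∈ L, r ∈ q1 D) →
      hF.wg (lineWord D L t) * hF.xg b s = hF.xg b s * hF.wg (lineWord D L t) *
        hF.xg (top D) (if opp D b ∈ L then -((N : F) * s * t (opp D b)) else 0) := by
    intro L
    induction L with
    | nil => intro _ _; simp [lineWord, hF.wg_nil, hF.xg_zero]
    | cons r L ih =>
      intro hnd hL
      obtain ⟨hr, hnd'⟩ := List.nodup_cons.1 hnd
      have hrq : r ∈ q1 D := hL r (by simp)
      have hLq : ∀ p ∈ lineWord D L t, p.1 ∈ qAll D := fun p hp =>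
        List.mem_cons_of_mem _ (hL _ (List.mem_cons_of_mem _ (mem_lineWord hp)))
      have ih' := ih hnd' fun x hx => hL x (by simp [hx])
      simp only [lineWord, List.map_cons, hF.wg_cons] at ih' ⊢
      rw [mul_assoc (hF.xg r (t r)), ih']
      by_cases e : r = opp D b
      · subst e
        rw [if_neg hr, if_pos List.mem_cons_self, hF.xg_zero, mul_one, ← mul_assoc,
          swap_one hF hbn (q1_pos O.mem).2 O.ne (ne_neg_of_pos hF (q1_pos hb) (q1_pos O.mem)) hN s _,
          mul_assoc _ (hF.xg (top D) _)]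
        have hz := (wg_top_central hF hR (w := lineWord D L t) hLq (-((N : F) * s * t (opp D b)))).eq
        simp only [lineWord] at hz
        rw [← hz]
        simp only [mul_assoc]
      · have hc : Commute (hF.xg b s) (hF.xg r (t r)) := by
          rcases eq_or_ne r b with rfl | hne
          · exact xg_self_commute hF _ _ _
          · exact xg_commute hF hbn (q1_pos hrq).2 (ne_neg_of_pos hF (q1_pos hb) (q1_pos hrq))
              (O.other r hrq hne e) s _
        have hmem : (opp D b ∈ r :: L) ↔ opp D b ∈ L := by simp [Ne.symm e]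
        simp only [hmem, ← mul_assoc, hc.eq]
  have h := main (q1 D) (q1_nodup hF) fun r hr => hr
  rw [if_pos O.mem] at h
  have hc := top_central hF hR (List.mem_cons_of_mem _ hb) s z
  have hw : ∀ p ∈ lineWord D (q1 D) t, p.1 ∈ qAll D := fun p hp => List.mem_cons_of_mem _ (mem_lineWord hp)
  rw [mul_assoc (qE hF t), ← hc.eq, ← mul_assoc, qE, h,
    mul_assoc (hF.xg b s) (hF.wg _) (hF.xg (top D) _), (wg_top_central hF hR hw _).eq]
  group

/-- A subgroup between the rational group and the whole group, without irrational long root elements. -/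
structure Thin (hF : Facts D) (K₀ : Subfield F) (H : Subgroup (GL D.Idx F)) : Prop where
  le : rat hF K₀ ≤ H
  long : ∀ r, lg D r = true → ∀ t, hF.xg r t ∈ H → t ∈ K₀

variable {K₀ : Subfield F} {H : Subgroup (GL D.Idx F)}

include hF hR in
/-- A product of two long root elements in H is rational. -/
theorem Thin.pair (T : Thin hF K₀ H) (hlt : lg D (top D) = true) {b : ℕ} (hb : b ∈ q1 D) (O : OppData D b)
    {s t : F} (h : hF.xg b s * hF.xg (top D) t ∈ H) : s ∈ K₀ ∧ (lg D b = true → t ∈ K₀) := by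
  obtain ⟨N, hN, hterm⟩ := O.toTop
  have hg : hF.xg (opp D b) 1 ∈ H := T.le (xg_mem_rat hF K₀ _ (one_mem _))
  have e := swap_one hF (q1_pos hb).2 (q1_pos O.mem).2 O.ne
    (ne_neg_of_pos hF (q1_pos hb) (q1_pos O.mem)) hterm s 1
  have hc : Commute (hF.xg (opp D b) (1 : F)) (hF.xg (top D) t) :=
    top_central hF hR (List.mem_cons_of_mem _ O.mem) _ t
  have hmem : hF.xg (top D) (-((N : F) * s * 1)) ∈ H := by
    have h1 : hF.xg (opp D b) 1 * (hF.xg b s * hF.xg (top D) t) * (hF.xg (opp D b) 1)⁻¹ =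
        hF.xg b s * hF.xg (top D) t * hF.xg (top D) (-((N : F) * s * 1)) := by
      rw [← mul_assoc, e]
      have h2 := top_central hF hR (List.mem_cons_of_mem _ O.mem) (1 : F) (-((N : F) * s * 1))
      have h3 := xg_self_commute hF (top D) t (-((N : F) * s * 1))
      rw [mul_assoc (hF.xg b s) (hF.xg (opp D b) 1), h2.eq]
      rw [mul_assoc (hF.xg b s) (hF.xg (top D) t), h3.eq]
      simp only [mul_assoc]
      rw [← mul_assoc (hF.xg (opp D b) 1) (hF.xg (top D) t), hc.eq, mul_assoc, mul_inv_cancel]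
      simp
    have h4 := mul_mem (inv_mem h) (mul_mem (mul_mem hg h) (inv_mem hg))
    rwa [h1, inv_mul_cancel_left] at h4
  have hk := T.long _ hlt _ hmem
  have hs : s ∈ K₀ := by
    have := mul_mem (natAbs_one_mem K₀ (N := N)) (neg_mem hk)
    rwa [neg_neg, mul_one, ← mul_assoc, natAbs_one_cast hN, one_mul] at this
  refine ⟨hs, fun _ => T.long _ hlt _ ?_⟩
  have := mul_mem (inv_mem (T.le (xg_mem_rat hF K₀ b hs))) h
  rwa [inv_mul_cancel_left] at this

/-- The subgroup seen from a frame. -/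
def seen (u : GL D.Idx F) (H : Subgroup (GL D.Idx F)) : Subgroup (GL D.Idx F) :=
  H.comap (MulAut.conj u).toMonoidHom

theorem mem_seen {u g : GL D.Idx F} : g ∈ seen u H ↔ u * g * u⁻¹ ∈ H := Iff.rfl

include hF hR in
theorem frame_top (t : ℕ → F) (z k : F) :
    qE hF t * hF.xg (top D) z * hF.xg (top D) k * (qE hF t * hF.xg (top D) z)⁻¹ = hF.xg (top D) k := by
  have hw : ∀ p ∈ lineWord D (q1 D) t, p.1 ∈ qAll D := fun p hp => List.mem_cons_of_mem _ (mem_lineWord hp)
  rw [mul_assoc (qE hF t), (xg_self_commute hF (top D) z k).eq, ← mul_assoc, qE,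
    (wg_top_central hF hR hw k).eq]
  group

end Cfsg.Agent.Lie.SubMax
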