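import Cfsg.Agent.Lib.Lie.SubMax.Main
import Cfsg.Agent.Lib.Lie.Steinberg

/-!
A linear functional on the conjugates of the highest root element inside an overgroup.
-/

set_option autoImplicit false

namespace Cfsg.Agent.Lie.SubMax.Fval

open Cfsg.Lie Matrix
open scoped MatrixGroups

variable {D : ChevalleyDatum} {F : Type*} [Field F] (hF : Facts D) {n : ℕ}

/-- The positive root elements of the presented group. -/
def posGen (D : ChevalleyDatum) (F : Type*) [Field F] : Set (D.SteinbergGroup F) :=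
  {g | ∃ r ∈ Facts.posL D, ∃ t : F, D.stGen F r t = g}

/-- The conditions on a matrix coefficient: upper elements fix a row and two columns nearly, and a long root
element has a nonzero coefficient only for the lowest root. -/
structure Coeff (φ : D.SteinbergGroup F →* GL (Fin n) F) (i₀ j₀ j₁ : Fin n) : Prop where
  ne : j₀ ≠ j₁
  row : ∀ r ∈ Facts.posL D, ∀ (t : F) (k : Fin n),
    (φ (D.stGen F r t) : Matrix (Fin n) (Fin n) F) i₀ k = if k = i₀ then 1 else 0
  col₁ : ∀ r ∈ Facts.posL D, ∀ (t : F) (k : Fin n),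
    (φ (D.stGen F r t) : Matrix (Fin n) (Fin n) F) k j₁ = if k = j₁ then 1 else 0
  col₀ : ∀ r ∈ Facts.posL D, ∀ (t : F) (k : Fin n), k ≠ j₁ →
    (φ (D.stGen F r t) : Matrix (Fin n) (Fin n) F) k j₀ = if k = j₀ then 1 else 0
  long : ∀ β, lg D β = true → ∀ d : F, (φ (D.stGen F β d) : Matrix (Fin n) (Fin n) F) i₀ j₁ = 0 ∧
    (φ (D.stGen F β d) : Matrix (Fin n) (Fin n) F) i₀ j₀ = if β = D.neg (top D) then d else 0

include hF in
theorem stGen_inv (r : ℕ) (t : F) : (D.stGen F r t)⁻¹ = D.stGen F r (-t) := by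
  refine inv_eq_of_mul_eq_one_right ?_
  rw [← Facts.stC_x hF, ← Facts.stC_x hF, ← (hF.stC F).x_add, add_neg_cancel]
  exact (hF.stC F).x_zero r

variable {φ : D.SteinbergGroup F →* GL (Fin n) F} {i₀ j₀ j₁ : Fin n}

include hF in
theorem coeff_shape (C : Coeff φ i₀ j₀ j₁) {V : D.SteinbergGroup F} (hV : V ∈ Subgroup.closure (posGen D F)) :
    (∀ k, (φ V : Matrix (Fin n) (Fin n) F) i₀ k = if k = i₀ then 1 else 0) ∧
    (∀ k, (φ V : Matrix (Fin n) (Fin n) F) k j₁ = if k = j₁ then 1 else 0) ∧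
    ∀ k, k ≠ j₁ → (φ V : Matrix (Fin n) (Fin n) F) k j₀ = if k = j₀ then 1 else 0 := by
  have step : ∀ (A B : Matrix (Fin n) (Fin n) F),
      ((∀ k, A i₀ k = if k = i₀ then 1 else 0) ∧ (∀ k, A k j₁ = if k = j₁ then 1 else 0) ∧
        ∀ k, k ≠ j₁ → A k j₀ = if k = j₀ then 1 else 0) →
      ((∀ k, B i₀ k = if k = i₀ then 1 else 0) ∧ (∀ k, B k j₁ = if k = j₁ then 1 else 0) ∧
        ∀ k, k ≠ j₁ → B k j₀ = if k = j₀ then 1 else 0) →
      (∀ k, (A * B) i₀ k = if k = i₀ then 1 else 0) ∧ (∀ k, (A * B) k j₁ = if k = j₁ then 1 else 0) ∧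
        ∀ k, k ≠ j₁ → (A * B) k j₀ = if k = j₀ then 1 else 0 := by
    rintro A B ⟨a1, a2, a3⟩ ⟨b1, b2, b3⟩
    refine ⟨fun k => ?_, fun k => ?_, fun k hk => ?_⟩
    · simp [Matrix.mul_apply, a1, b1]
    · simp [Matrix.mul_apply, a2, b2]
    · rw [Matrix.mul_apply, Finset.sum_eq_single j₀]
      · rw [b3 j₀ C.ne, a3 k hk]; simp
      · intro b _ hb
        by_cases hb1 : b = j₁
        · rw [hb1, a2 k, if_neg hk, zero_mul]
        · rw [b3 b hb1, if_neg hb, mul_zero]
      · simp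
  have base : ∀ r ∈ Facts.posL D, ∀ t : F,
      (∀ k, (φ (D.stGen F r t) : Matrix (Fin n) (Fin n) F) i₀ k = if k = i₀ then 1 else 0) ∧
      (∀ k, (φ (D.stGen F r t) : Matrix (Fin n) (Fin n) F) k j₁ = if k = j₁ then 1 else 0) ∧
      ∀ k, k ≠ j₁ → (φ (D.stGen F r t) : Matrix (Fin n) (Fin n) F) k j₀ = if k = j₀ then 1 else 0 :=
    fun r hr t => ⟨C.row r hr t, C.col₁ r hr t, C.col₀ r hr t⟩
  induction hV using Subgroup.closure_induction_left with
  | one => simp [Matrix.one_apply, eq_comm]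
  | mul_left x hx y _ ih =>
    obtain ⟨r, hr, t, rfl⟩ := hx
    rw [map_mul, Units.val_mul]
    exact step _ _ (base r hr t) ih
  | inv_mul_cancel x hx y _ ih =>
    obtain ⟨r, hr, t, rfl⟩ := hx
    rw [map_mul, Units.val_mul, stGen_inv hF]
    exact step _ _ (base r hr (-t)) ih

include hF in
/-- The coefficient of a conjugate by an upper element of a long root element. -/
theorem coeff_conj (C : Coeff φ i₀ j₀ j₁) {V : D.SteinbergGroup F} (hV : V ∈ Subgroup.closure (posGen D F))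
    {β : ℕ} (hβ : lg D β = true) (d : F) :
    (φ (V * D.stGen F β d * V⁻¹) : Matrix (Fin n) (Fin n) F) i₀ j₀ = if β = D.neg (top D) then d else 0 := by
  obtain ⟨h1, -, -⟩ := coeff_shape hF C hV
  obtain ⟨-, -, h3⟩ := coeff_shape hF C (inv_mem hV)
  obtain ⟨l1, l0⟩ := C.long β hβ d
  rw [map_mul, map_mul, Units.val_mul, Units.val_mul, Matrix.mul_assoc, Matrix.mul_apply,
    Finset.sum_eq_single i₀ (fun b _ hb => by rw [h1 b, if_neg hb, zero_mul]) (by simp), h1 i₀, if_pos rfl,
    one_mul, Matrix.mul_apply, Finset.sum_eq_single j₀]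
  · rw [h3 j₀ C.ne, if_pos rfl, mul_one, l0]
  · intro b _ hb
    by_cases hb1 : b = j₁
    · rw [hb1, l1, zero_mul]
    · rw [h3 b hb1, if_neg hb, mul_zero]
  · simp

include hF in
theorem lift_U {v : GL D.Idx F} (hv : v ∈ (hF.tsys F).U) :
    ∃ V ∈ Subgroup.closure (posGen D F), hF.proj F V = v := by
  induction hv using Subgroup.closure_induction with
  | mem g hg =>
    obtain ⟨r, hr, t, rfl⟩ := hg
    exact ⟨_, Subgroup.subset_closure ⟨r, hr, t, rfl⟩, hF.proj_x r t⟩
  | one => exact ⟨1, one_mem _, map_one _⟩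
  | mul a b _ _ ha hb =>
    obtain ⟨A, hA, rfl⟩ := ha
    obtain ⟨B, hB, rfl⟩ := hb
    exact ⟨A * B, mul_mem hA hB, map_mul _ A B⟩
  | inv a _ ha =>
    obtain ⟨A, hA, rfl⟩ := ha
    exact ⟨A⁻¹, inv_mem hA, map_inv _ A⟩

include hF in
/-- The shape of a conjugate of an element of the highest root group. -/
theorem bruhat_form (hR : okRad D = true) (hC : okClimb D = true) {g : GL D.Idx F} (hg : g ∈ D.group F) {t : F}
    (ht : t ≠ 0) : ∃ v ∈ (hF.tsys F).U, ∃ β, lg D β = true ∧ ∃ d : F, d ≠ 0 ∧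
      g * hF.xg (top D) t * g⁻¹ = v * hF.xg β d * v⁻¹ := by
  obtain ⟨b, hb, w, u, hu, rfl⟩ := hF.mem_bnu hg
  have huU : u ∈ (hF.tsys F).U :=
    CommSys.US_mono _ (fun r hr => Facts.mem_posL.2 ((TorusSys.closed_invList w).mem_pos r hr)) hu
  obtain ⟨v, hv, a, ha, rfl⟩ := (hF.tsys F).mem_B.1 hb
  obtain ⟨e, he, hconj⟩ := hF.nW_conj (F := F) w ⟨top D, top_lt hR⟩
  obtain ⟨⟨d, hd⟩, -⟩ := (hF.tsys F).H_conj_X ha (s := (w • (⟨top D, top_lt hR⟩ : Fin D.nroots)).val)
    (Fin.isLt _) (e * t)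
  simp only [hF.tsys_x] at hd
  have key : v * a * (hF.tsys F).nW w * u * hF.xg (top D) t * (v * a * (hF.tsys F).nW w * u)⁻¹ =
      v * hF.xg (w • (⟨top D, top_lt hR⟩ : Fin D.nroots)).val d * v⁻¹ := by
    have hd' : a * hF.xg (w • (⟨top D, top_lt hR⟩ : Fin D.nroots)).val (e * t) * a⁻¹ =
      hF.xg (w • (⟨top D, top_lt hR⟩ : Fin D.nroots)).val d := hd
    rw [← hd', ← hconj t, mul_assoc (v * a * _) u, (U_top hF hR huU t).eq]
    group
  have hlg : lg D (top D) = true := by
    have := hC; simp only [okClimb, Bool.and_eq_true] at this; exact this.1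
  refine ⟨v, hv, _, lg_weyl hF w (r := ⟨top D, top_lt hR⟩) hlg, d, ?_, key⟩
  rintro rfl
  rw [hF.xg_zero, mul_one, mul_inv_cancel] at key
  have h1 : hF.xg (top D) t = 1 := by
    have := congrArg (fun x => (v * a * (hF.tsys F).nW w * u)⁻¹ * x * (v * a * (hF.tsys F).nW w * u)) key
    simpa [mul_assoc] using this
  exact ht ((hF.x_eq_one (top D) (top_lt hR) t).1 (congrArg Units.val h1))

variable {K₀ : Subfield F} {H : Subgroup (GL D.Idx F)}

include hF in
/-- The coefficient is in the field with four elements on the conjugates in the overgroup. -/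
theorem coeff_four (hR : okRad D = true) (hC : okClimb D = true) (hinj : Function.Injective (hF.proj F))
    (C : Coeff φ i₀ j₀ j₁) (h4 : ∀ (t : ℕ → F) (z c : F), c ≠ 0 → low hF t z c ∈ H → c ^ 4 = c)
    {Y : D.SteinbergGroup F} (hY : hF.proj F Y ∈ H) {g : GL D.Idx F} (hg : g ∈ D.group F) {t : F} (ht : t ≠ 0)
    (e : hF.proj F Y = g * hF.xg (top D) t * g⁻¹) :
    ((φ Y : Matrix (Fin n) (Fin n) F) i₀ j₀) ^ 4 = (φ Y : Matrix (Fin n) (Fin n) F) i₀ j₀ := by
  obtain ⟨v, hv, β, hβ, d, hd, hform⟩ := bruhat_form hF hR hC hg ht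
  obtain ⟨V, hV, hVv⟩ := lift_U hF hv
  have hYeq : Y = V * D.stGen F β d * V⁻¹ := hinj (by
    rw [e, hform, map_mul, map_mul, map_inv, hF.proj_x, hVv])
  rw [hYeq, coeff_conj hF C hV hβ d]
  split_ifs with hβ'
  · obtain ⟨t', z', he⟩ := low_of_U hF hR hv d
    refine h4 t' z' d hd ?_
    rw [← he, ← hβ', ← hform, ← e]
    exact hY
  · simp

/-- A sum of weights on the matrix positions. -/
def wsum {R : Type*} [CommRing R] (ι : ZMod 2 →+* R) (Cw : Fin n → Fin n → ZMod 2)
    (X : Matrix (Fin n) (Fin n) R) : R := ∑ a, ∑ b, ι (Cw a b) * X a b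

/-- The weight of one position. -/
def dirac (i j : Fin n) : Fin n → Fin n → ZMod 2 := fun a b => if a = i ∧ b = j then 1 else 0

theorem wsum_dirac {R : Type*} [CommRing R] (ι : ZMod 2 →+* R) (i j : Fin n) (X : Matrix (Fin n) (Fin n) R) :
    wsum ι (dirac i j) X = X i j := by
  simp only [wsum, dirac]
  rw [Finset.sum_eq_single i (fun b _ hb => Finset.sum_eq_zero fun x _ => by simp [hb]) (by simp),
    Finset.sum_eq_single j (fun b _ hb => by simp [hb]) (by simp)]
  simp

theorem wsum_add {R : Type*} [CommRing R] (ι : ZMod 2 →+* R) (C₁ C₂ : Fin n → Fin n → ZMod 2)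
    (X : Matrix (Fin n) (Fin n) R) : wsum ι (C₁ + C₂) X = wsum ι C₁ X + wsum ι C₂ X := by
  simp [wsum, Finset.sum_add_distrib, add_mul]

variable (gen : ℕ → Matrix (Fin n) (Fin n) (ZMod 2))

/-- The matrix of a word and of its inverse. -/
def wmat (L : List ℕ) : Matrix (Fin n) (Fin n) (ZMod 2) := (L.map gen).prod

/-- The weights of a list of words. -/
def weights (i₀ j₀ : Fin n) (L : List (List ℕ)) (a b : Fin n) : ZMod 2 :=
  (L.map fun w => wmat gen w i₀ a * wmat gen w.reverse b j₀).sum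

theorem add_pow_four {R : Type*} [CommRing R] (h2 : (2 : R) = 0) (x y : R) : (x + y) ^ 4 = x ^ 4 + y ^ 4 := by
  linear_combination (2 * x ^ 3 * y + 3 * x ^ 2 * y ^ 2 + 2 * x * y ^ 3) * h2

variable {gen}

include hF in
/-- Sums of coefficients of conjugates give further positions in the field with four elements. -/
theorem wsum_four (hR : okRad D = true) (hC : okClimb D = true) (hinj : Function.Injective (hF.proj F))
    (C : Coeff φ i₀ j₀ j₁) (h4 : ∀ (t : ℕ → F) (z c : F), c ≠ 0 → low hF t z c ∈ H → c ^ 4 = c)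
    (hle : rat hF K₀ ≤ H) (h2 : (2 : F) = 0) (ι : ZMod 2 →+* F)
    (hgen : ∀ r, (φ (D.stGen F r 1) : Matrix (Fin n) (Fin n) F) = ι.mapMatrix (gen r))
    {X : D.SteinbergGroup F} (hX : hF.proj F X ∈ H) {g : GL D.Idx F} (hg : g ∈ D.group F) {t : F} (ht : t ≠ 0)
    (e : hF.proj F X = g * hF.xg (top D) t * g⁻¹) {Cw : Fin n → Fin n → ZMod 2} (L : List (List ℕ))
    (hL : weights gen i₀ j₀ L = Cw) :
    (wsum ι Cw (φ X : Matrix (Fin n) (Fin n) F)) ^ 4 = wsum ι Cw (φ X : Matrix (Fin n) (Fin n) F) := by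
  have hneg : (-1 : F) = 1 := by linear_combination -h2
  have hwm : ∀ w : List ℕ, (φ (w.map fun r => D.stGen F r 1).prod : Matrix (Fin n) (Fin n) F) =
      ι.mapMatrix (wmat gen w) := fun w => by
    induction w with
    | nil => simp [wmat]
    | cons r w ih =>
      simp only [wmat, List.map_cons, List.prod_cons, map_mul, Units.val_mul] at ih ⊢
      rw [hgen, ih]
  have hwinv : ∀ w : List ℕ, ((w.map fun r => D.stGen F r 1).prod)⁻¹ =
      (w.reverse.map fun r => D.stGen F r 1).prod := fun w => by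
    induction w with
    | nil => simp
    | cons r w ih =>
      rw [List.map_cons, List.prod_cons, _root_.mul_inv_rev, ih, stGen_inv hF, hneg, List.reverse_cons,
        List.map_append, List.prod_append]
      simp
  subst hL
  induction L with
  | nil => simp [weights, wsum]
  | cons w L ih =>
    have hsum : weights gen i₀ j₀ (w :: L) =
        (fun a b => wmat gen w i₀ a * wmat gen w.reverse b j₀) + weights gen i₀ j₀ L := by
      funext a b; simp [weights]
    rw [hsum, wsum_add, add_pow_four h2, ih]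
    congr 1
    set m := (w.map fun r => D.stGen F r 1).prod with hm
    have hmR : hF.proj F m ∈ rat hF K₀ := by
      rw [hm, map_list_prod]
      refine Subgroup.list_prod_mem _ fun x hx => ?_
      obtain ⟨y, hy, rfl⟩ := List.mem_map.1 hx
      obtain ⟨r, -, rfl⟩ := List.mem_map.1 hy
      rw [hF.proj_x]
      exact xg_mem_rat hF K₀ r (one_mem _)
    have hmH := hle hmR
    have hY : hF.proj F (m * X * m⁻¹) ∈ H := by
      rw [map_mul, map_mul, map_inv]; exact mul_mem (mul_mem hmH hX) (inv_mem hmH)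
    have key := coeff_four hF hR hC hinj C h4 hY (mul_mem (rat_le_group hF (K₀ := K₀) hmR) hg) ht (by
      rw [map_mul, map_mul, map_inv, e]; group)
    have hval : wsum ι (fun a b => wmat gen w i₀ a * wmat gen w.reverse b j₀) (φ X : Matrix (Fin n) (Fin n) F) =
        (φ (m * X * m⁻¹) : Matrix (Fin n) (Fin n) F) i₀ j₀ := by
      rw [map_mul, map_mul, Units.val_mul, Units.val_mul, hm, hwinv, hwm, hwm, Matrix.mul_apply, wsum]
      simp only [Matrix.mul_apply, RingHom.mapMatrix_apply, Matrix.map_apply, Finset.sum_mul, map_mul]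
      rw [Finset.sum_comm]
      exact Finset.sum_congr rfl fun b _ => Finset.sum_congr rfl fun a _ => by ring
    rw [hval]
    exact key

end Cfsg.Agent.Lie.SubMax.Fval
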