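import Cfsg.Agent.Lib.Lie.SubMax.Basic

/-!
The radical of the highest root is abelian modulo the highest root group.
-/

set_option autoImplicit false

namespace Cfsg.Agent.Lie.SubMax

open Cfsg.Lie Matrix
open scoped MatrixGroups

variable {D : ChevalleyDatum} {F : Type*} [Field F] (hF : Facts D)

include hF in
theorem word_eq_one {r s : ℕ} (t u : F) (h : D.commTerms r s = []) :
    ((D.commWord F r s t u).map fun p => hF.xg p.1 p.2).prod = 1 := by
  simp [ChevalleyDatum.commWord, h]

include hF in
/-- The commutator formula for root elements. -/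
theorem xg_swap {r s : ℕ} (hr : r < D.nroots) (hs : s < D.nroots) (h1 : s ≠ r) (h2 : s ≠ D.neg r) (t u : F) :
    hF.xg s u * hF.xg r t = hF.xg r t * hF.xg s u * hF.wg (D.commWord F r s t u) := by
  refine Units.ext ?_
  rw [Units.val_mul, Units.val_mul, Units.val_mul, hF.coe_wg, Facts.coe_xg, Facts.coe_xg]
  exact hF.x_comm r s hr hs h1 h2 t u

include hF in
theorem xg_self_commute (r : ℕ) (t u : F) : Commute (hF.xg r t) (hF.xg r u) := by
  show _ = _
  rw [← hF.xg_add, ← hF.xg_add, add_comm]

include hF in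
theorem xg_commute {r s : ℕ} (hr : r < D.nroots) (hs : s < D.nroots) (h2 : s ≠ D.neg r)
    (h : D.commTerms r s = []) (t u : F) : Commute (hF.xg r t) (hF.xg s u) := by
  rcases eq_or_ne s r with rfl | h1
  · exact xg_self_commute hF s t u
  · have e := xg_swap hF hr hs h1 h2 t u
    rw [show D.commWord F r s t u = [] by simp [ChevalleyDatum.commWord, h], hF.wg_nil, mul_one] at e
    exact e.symm

include hF in
theorem ne_neg_of_pos {r s : ℕ} (hr : D.nroots / 2 ≤ r ∧ r < D.nroots) (hs : D.nroots / 2 ≤ s ∧ s < D.nroots) :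
    s ≠ D.neg r := fun e => by
  have := (hF.neg_ge_iff hr.2).1 (e ▸ hs.1)
  omega

variable (hR : okRad D = true)

include hF hR in
theorem top_pos : D.nroots / 2 ≤ top D ∧ top D < D.nroots := by
  have h := top_lt hR
  have := hF.even
  unfold top at h ⊢
  omega

include hF hR in
theorem top_central {r : ℕ} (hr : r ∈ qAll D) (a z : F) : Commute (hF.xg r a) (hF.xg (top D) z) := by
  rcases List.mem_cons.1 hr with rfl | hr
  · exact xg_self_commute hF _ a z
  · exact xg_commute hF (q1_pos hr).2 (top_lt hR) (ne_neg_of_pos hF (q1_pos hr) (top_pos hF hR))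
      (q1_top hR hr).1 a z

include hF hR in
theorem wg_top_central {w : List (ℕ × F)} (hw : ∀ p ∈ w, p.1 ∈ qAll D) (z : F) :
    Commute (hF.wg w) (hF.xg (top D) z) := by
  induction w with
  | nil => rw [hF.wg_nil]; exact Commute.one_left _
  | cons p w ih =>
    rw [hF.wg_cons]
    exact (top_central hF hR (hw p (by simp)) p.2 z).mul_left (ih fun q hq => hw q (by simp [hq]))

include hF hR in
/-- Two elements of level one commute modulo the highest root group. -/
theorem q1_swap {r s : ℕ} (hr : r ∈ q1 D) (hs : s ∈ q1 D) (a b : F) :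
    ∃ z, hF.xg r a * hF.xg s b = hF.xg s b * hF.xg r a * hF.xg (top D) z := by
  rcases eq_or_ne r s with rfl | hne
  · exact ⟨0, by rw [hF.xg_zero, mul_one, ← hF.xg_add, ← hF.xg_add, add_comm]⟩
  · have e := xg_swap hF (q1_pos hs).2 (q1_pos hr).2 hne (ne_neg_of_pos hF (q1_pos hs) (q1_pos hr)) b a
    suffices h : ∀ w : List (ℕ × F), (∀ p ∈ w, p.1 = top D) → ∃ z, hF.wg w = hF.xg (top D) z by
      obtain ⟨z, hz⟩ := h (D.commWord F s r b a) (fun p hp => by
        obtain ⟨c, hc, rfl⟩ := List.mem_map.1 hp
        exact q1_comm hR hs hr hne hc)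
      exact ⟨z, by rw [e, hz]⟩
    intro w hw
    induction w with
    | nil => exact ⟨0, by rw [hF.wg_nil, hF.xg_zero]⟩
    | cons p w ih =>
      obtain ⟨z, hz⟩ := ih fun q hq => hw q (by simp [hq])
      exact ⟨p.2 + z, by rw [hF.wg_cons, hz, hw p (by simp), hF.xg_add]⟩

/-- The product of the level one root elements in a fixed order. -/
def lineWord (D : ChevalleyDatum) {F : Type*} [Field F] (L : List ℕ) (t : ℕ → F) : List (ℕ × F) :=
  L.map fun r => (r, t r)

/-- The standard product. -/
noncomputable def qE (hF : Facts D) (t : ℕ → F) : GL D.Idx F := hF.wg (lineWord D (q1 D) t)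

/-- The coordinate of a word at a root. -/
def coord {F : Type*} [Field F] (w : List (ℕ × F)) (r : ℕ) : F :=
  ((w.filter fun p => p.1 = r).map Prod.snd).sum

theorem coord_cons {F : Type*} [Field F] (p : ℕ × F) (w : List (ℕ × F)) (r : ℕ) :
    coord (p :: w) r = (if p.1 = r then p.2 else 0) + coord w r := by
  by_cases h : p.1 = r <;> simp [coord, List.filter_cons, h]

theorem coord_nil {F : Type*} [Field F] (r : ℕ) : coord ([] : List (ℕ × F)) r = 0 := rfl

theorem coord_append {F : Type*} [Field F] (w w' : List (ℕ × F)) (r : ℕ) :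
    coord (w ++ w') r = coord w r + coord w' r := by
  simp [coord, List.filter_append]

theorem mem_lineWord {L : List ℕ} {t : ℕ → F} {p : ℕ × F} (h : p ∈ lineWord D L t) : p.1 ∈ L := by
  obtain ⟨r, hr, rfl⟩ := List.mem_map.1 h
  exact hr

include hF hR in
theorem insert_line : ∀ (L : List ℕ), L.Nodup → (∀ r ∈ L, r ∈ q1 D) → ∀ m ∈ L, ∀ (a : F) (c : ℕ → F),
    ∃ z, hF.xg m a * hF.wg (lineWord D L c) =
      hF.wg (lineWord D L fun r => (if m = r then a else 0) + c r) * hF.xg (top D) z := by
  intro L
  induction L with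
  | nil => intro _ _ m hm; simp at hm
  | cons h L ih =>
    intro hnd hL m hm a c
    obtain ⟨hh, hnd'⟩ := List.nodup_cons.1 hnd
    simp only [lineWord, List.map_cons, hF.wg_cons]
    rcases eq_or_ne m h with rfl | hne
    · refine ⟨0, ?_⟩
      rw [hF.xg_zero, mul_one, ← mul_assoc, ← hF.xg_add, if_pos rfl]
      congr 2
      refine List.map_congr_left fun r hr => ?_
      rw [if_neg (fun e : m = r => hh (e ▸ hr)), zero_add]
    · have hmL : m ∈ L := (List.mem_cons.1 hm).resolve_left hne
      obtain ⟨z, hz⟩ := ih hnd' (fun r hr => hL r (by simp [hr])) m hmL a c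
      obtain ⟨z', hz'⟩ := q1_swap hF hR (hL m hm) (hL h (by simp)) a (c h)
      have hw : ∀ p ∈ lineWord D L c, p.1 ∈ qAll D := fun p hp =>
        List.mem_cons_of_mem _ (hL _ (List.mem_cons_of_mem _ (mem_lineWord hp)))
      refine ⟨z + z', ?_⟩
      rw [if_neg hne, zero_add, ← mul_assoc, hz', mul_assoc (_ * _) (hF.xg (top D) z'),
        ← (wg_top_central hF hR (w := L.map fun r => (r, c r)) hw z').eq, ← mul_assoc,
        mul_assoc (hF.xg h (c h))]
      simp only [lineWord] at hz
      rw [hz, hF.xg_add]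
      simp only [mul_assoc]

include hF in
theorem q1_nodup : (q1 D).Nodup := hF.closedList_posL.sorted.nodup.filter _

include hF hR in
/-- Every word in the radical is a standard product times a central element. -/
theorem wg_normal : ∀ (w : List (ℕ × F)), (∀ p ∈ w, p.1 ∈ qAll D) →
    ∃ z, hF.wg w = qE hF (coord w) * hF.xg (top D) z := by
  intro w
  induction w with
  | nil =>
    intro _
    refine ⟨0, ?_⟩
    rw [hF.xg_zero, mul_one, hF.wg_nil, qE]
    symm
    suffices h : ∀ L : List ℕ, hF.wg (lineWord D L (coord ([] : List (ℕ × F)))) = 1 from h _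
    intro L
    induction L with
    | nil => exact hF.wg_nil
    | cons r L ih =>
      simp only [lineWord, List.map_cons, hF.wg_cons, coord_nil, hF.xg_zero, one_mul] at ih ⊢
      exact ih
  | cons p w ih =>
    intro hw
    obtain ⟨z, hz⟩ := ih fun q hq => hw q (by simp [hq])
    rw [hF.wg_cons, hz, ← mul_assoc]
    rcases List.mem_cons.1 (hw p (by simp)) with hp | hp
    · refine ⟨p.2 + z, ?_⟩
      rw [hp, qE, ← (wg_top_central hF hR (fun q hq => List.mem_cons_of_mem _ (mem_lineWord hq)) p.2).eq,
        mul_assoc, ← hF.xg_add]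
      congr 2
      refine List.map_congr_left fun r hr => ?_
      rw [coord_cons, if_neg (fun e : p.1 = r => q1_ne_top hR hr (e ▸ hp)), zero_add]
    · obtain ⟨z', hz'⟩ := insert_line hF hR (q1 D) (q1_nodup hF) (fun r hr => hr) p.1 hp p.2 (coord w)
      refine ⟨z' + z, ?_⟩
      rw [qE, hz', mul_assoc, ← hF.xg_add]
      congr 2
      exact List.map_congr_left fun r _ => by rw [coord_cons]

end Cfsg.Agent.Lie.SubMax
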