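import Cfsg.Agent.Lib.Lie.SubMax.Main
import Cfsg.Agent.Lib.Lie.Simple
import Cfsg.Agent.Lib.Lie.Steinberg
import Cfsg.Agent.Lib.Lie.RootMap
import Cfsg.Prelude.Def_ChevG2
import Mathlib

/-!
Certificates for the subgroups over the field with two elements with coordinates in the field with four.
-/

set_option autoImplicit false

namespace Cfsg.Agent.Lie.SubMax

open Cfsg.Lie Matrix
open scoped MatrixGroups

namespace Small

/-- A model of the field with four elements. -/
abbrev R4 := QuadraticAlgebra (ZMod 2) 1 1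

/-- The generator. -/
def o : R4 := ⟨0, 1⟩

/-- The model is finite. -/
instance instFintypeModelFour : Fintype R4 :=
  Fintype.ofEquiv _ (QuadraticAlgebra.equivProd (1 : ZMod 2) 1).symm

/-- Its square. -/
def o2 : R4 := ⟨1, 1⟩

theorem r4_units : ∀ x : R4, x = 0 ∨ ∃ y : R4, x * y = 1 := by decide +kernel

theorem r4_cases : ∀ x : R4, x = 0 ∨ x = 1 ∨ x = o ∨ x = o2 := by decide +kernel

theorem card_r4 : Fintype.card R4 = 4 := by decide +kernel

theorem r4_inj {F : Type*} [Field F] (f : R4 →+* F) : Function.Injective f := by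
  refine (injective_iff_map_eq_zero f).2 fun x hx => ?_
  rcases r4_units x with h | ⟨y, hy⟩
  · exact h
  · have := congrArg f hy
    rw [map_mul, hx, zero_mul, map_one] at this
    exact absurd this zero_ne_one

/-- A chain of conjugations: the coordinates, the scalar, the start, the steps and the final root element. -/
structure Cert (n : ℕ) where
  /-- the coordinates -/
  ts : List R4
  /-- the scalar -/
  c : R4
  /-- the matrix of the normal form -/
  xm : Matrix (Fin n) (Fin n) R4
  /-- start at the normal form -/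
  startX : Bool
  /-- the steps -/
  steps : List (Option ℕ × Matrix (Fin n) (Fin n) R4)
  /-- the final root -/
  root : ℕ
  /-- the final parameter -/
  par : R4

variable {n : ℕ} (D : ChevalleyDatum) (gm : ℕ → R4 → Matrix (Fin n) (Fin n) R4)

/-- Checking the steps. -/
def chkSteps (xm : Matrix (Fin n) (Fin n) R4) :
    Matrix (Fin n) (Fin n) R4 → List (Option ℕ × Matrix (Fin n) (Fin n) R4) → ℕ → R4 → Bool
  | m, [], r, s => decide (m = gm r s)
  | m, (g, m') :: rest, r, s =>
    decide ((g.elim xm fun i => gm i 1) * m = m' * (g.elim xm fun i => gm i 1)) && chkSteps xm m' rest r s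

/-- The matrix of a word. -/
def wordMat (L : List (ℕ × R4)) : Matrix (Fin n) (Fin n) R4 := L.foldr (fun p A => gm p.1 p.2 * A) 1

/-- Checking a certificate. -/
def chk (C : Cert n) : Bool :=
  decide (C.xm * wordMat gm ((q1 D ++ [top D]).zip C.ts) =
      wordMat gm ((q1 D ++ [top D]).zip C.ts) * gm (D.neg (top D)) C.c) &&
    lg D C.root && decide (C.par ≠ 0) && decide (C.par ≠ 1) &&
    chkSteps gm C.xm (if C.startX then C.xm else gm (top D) 1) C.steps C.root C.par

/-- All lists of a given length with entries zero or the generator. -/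
def allTs : ℕ → List (List R4)
  | 0 => [[]]
  | m + 1 => (allTs m).flatMap fun l => [(0 : R4) :: l, o :: l]

theorem mem_allTs : ∀ {L : List R4}, (∀ x ∈ L, x = 0 ∨ x = o) → L ∈ allTs L.length
  | [], _ => by simp [allTs]
  | a :: L, h => by
    refine List.mem_flatMap.2 ⟨L, mem_allTs fun x hx => h x (List.mem_cons_of_mem _ hx), ?_⟩
    rcases h a List.mem_cons_self with rfl | rfl <;> simp

/-- The certificates cover every irrational normal form. -/
def cover (certs : List (Cert n)) : Bool :=
  (allTs ((q1 D).length + 1)).all fun ts => [1, o, o2].all fun c =>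
    (ts.all (fun x => decide (x = 0)) && decide (c = 1)) || certs.any fun C => C.ts == ts && C.c == c

variable {D gm} {F : Type*} [Field F] (hF : Facts D)

/-- Equal matrices give equal elements of the group. -/
theorem proj_eq {Q : Type*} [Group Q] (hD : StHyp D) (hdiag : StHyp D → (hF.proj F).ker ≤ Subgroup.center _)
    [IsSimpleGroup ↥(D.group F)] (φ : D.SteinbergGroup F →* Q) {a b : D.SteinbergGroup F}
    (hab : φ a * φ b ≠ φ b * φ a) {g g' : D.SteinbergGroup F} (h : φ g = φ g') :
    hF.proj F g = hF.proj F g' := by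
  have hcen := hdiag hD
  set π : D.SteinbergGroup F →* ↥(D.group F) :=
    (MulEquiv.subgroupCongr hF.proj_range).toMonoidHom.comp (hF.proj F).rangeRestrict
  have hπ : Function.Surjective π :=
    (MulEquiv.subgroupCongr hF.proj_range).surjective.comp (hF.proj F).rangeRestrict_surjective
  have hπv : ∀ x, (π x : GL D.Idx F) = hF.proj F x := fun x => rfl
  have hN : (φ.ker.map π).Normal := Subgroup.Normal.map φ.normal_ker π hπ
  rcases hN.eq_bot_or_eq_top with hb | hb
  · have : π (g * g'⁻¹) = 1 := Subgroup.mem_bot.1 (hb ▸ Subgroup.mem_map_of_mem π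
      (MonoidHom.mem_ker.2 (by rw [map_mul, map_inv, h, mul_inv_cancel])))
    have := congrArg Subtype.val this
    rw [hπv, map_mul, map_inv, Subgroup.coe_one, mul_inv_eq_one] at this
    exact this
  · exfalso
    apply hab
    have key : ∀ x, ∃ z ∈ Subgroup.center (D.SteinbergGroup F), φ x = φ z := by
      intro x
      obtain ⟨y, hy, e⟩ := Subgroup.mem_map.1 (hb ▸ Subgroup.mem_top (π x) : π x ∈ φ.ker.map π)
      have e' := congrArg Subtype.val e
      rw [hπv, hπv] at e'
      refine ⟨y⁻¹ * x, hcen (MonoidHom.mem_ker.2 (by rw [map_mul, map_inv, e', inv_mul_cancel])), ?_⟩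
      rw [map_mul, map_inv, MonoidHom.mem_ker.1 hy, inv_one, one_mul]
    obtain ⟨z, hz, ez⟩ := key a
    rw [ez, ← map_mul, ← map_mul, Subgroup.mem_center_iff.1 hz b]

/-- The data of a model. -/
structure Model (hF : Facts D) (gm : ℕ → R4 → Matrix (Fin n) (Fin n) R4) (f : R4 →+* F) where
  /-- the representation -/
  φ : D.SteinbergGroup F →* GL (Fin n) F
  gen : ∀ r s, (φ (D.stGen F r (f s)) : Matrix (Fin n) (Fin n) F) = f.mapMatrix (gm r s)
  inj : ∀ g g', φ g = φ g' → hF.proj F g = hF.proj F g'

variable {f : R4 →+* F} {K₀ : Subfield F} {H : Subgroup (GL D.Idx F)}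

/-- The element of a word. -/
noncomputable def wordEl (f : R4 →+* F) (L : List (ℕ × R4)) : D.SteinbergGroup F :=
  (L.map fun p => D.stGen F p.1 (f p.2)).prod

theorem wordEl_mat (M : Model hF gm f) (L : List (ℕ × R4)) :
    (M.φ (wordEl f L) : Matrix (Fin n) (Fin n) F) = f.mapMatrix (wordMat gm L) := by
  induction L with
  | nil => simp [wordEl, wordMat]
  | cons p L ih =>
    simp only [wordEl, List.map_cons, List.prod_cons, map_mul, Units.val_mul, wordMat, List.foldr_cons] at ih ⊢
    rw [M.gen, ih]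

theorem conj_mat {g m : GL (Fin n) F} {A B C : Matrix (Fin n) (Fin n) R4}
    (hg : (g : Matrix (Fin n) (Fin n) F) = f.mapMatrix A) (hm : (m : Matrix (Fin n) (Fin n) F) = f.mapMatrix B)
    (h : A * B = C * A) : ((g * m * g⁻¹ : GL (Fin n) F) : Matrix (Fin n) (Fin n) F) = f.mapMatrix C := by
  rw [Units.val_mul, Units.val_mul, hg, hm, ← map_mul, h, map_mul, ← hg, mul_assoc, Units.mul_inv, mul_one]

include hF in
theorem steps_mem (M : Model hF gm f) (T : Thin hF K₀ H) {x : D.SteinbergGroup F} {xm : Matrix (Fin n) (Fin n) R4}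
    (hx : hF.proj F x ∈ H) (hxm : (M.φ x : Matrix (Fin n) (Fin n) F) = f.mapMatrix xm) {r : ℕ} {s : R4} :
    ∀ (L : List (Option ℕ × Matrix (Fin n) (Fin n) R4)) (y : D.SteinbergGroup F)
      (m : Matrix (Fin n) (Fin n) R4), hF.proj F y ∈ H → (M.φ y : Matrix (Fin n) (Fin n) F) = f.mapMatrix m →
      chkSteps gm xm m L r s = true → hF.xg r (f s) ∈ H
  | [], y, m, hy, hm, hc => by
    simp only [chkSteps, decide_eq_true_eq] at hc
    rw [← hF.proj_x, M.inj (D.stGen F r (f s)) y (Units.ext (by rw [M.gen, hm, hc]))]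
    exact hy
  | (g, m') :: rest, y, m, hy, hm, hc => by
    simp only [chkSteps, Bool.and_eq_true, decide_eq_true_eq] at hc
    obtain ⟨e, hrest⟩ := hc
    let G : D.SteinbergGroup F := g.elim x fun i => D.stGen F i (f 1)
    have hG : hF.proj F G ∈ H := by
      cases g with
      | none => exact hx
      | some i => simp only [G, Option.elim, hF.proj_x, map_one]; exact T.le (xg_mem_rat hF K₀ _ (one_mem _))
    have hGm : (M.φ G : Matrix (Fin n) (Fin n) F) = f.mapMatrix (g.elim xm fun i => gm i 1) := by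
      cases g with
      | none => exact hxm
      | some i => exact M.gen i 1
    refine steps_mem M T hx hxm rest (G * y * G⁻¹) m' ?_ ?_ hrest
    · rw [map_mul, map_mul, map_inv]; exact mul_mem (mul_mem hG hy) (inv_mem hG)
    · rw [map_mul, map_mul, map_inv]; exact conj_mat hGm hm e

theorem wordEl_proj (t : ℕ → F) (s : ℕ → R4) (hts : ∀ r ∈ q1 D, f (s r) = t r) (z : R4) :
    hF.proj F (wordEl f ((q1 D ++ [top D]).zip ((q1 D).map s ++ [z]))) = qE hF t * hF.xg (top D) (f z) := by
  rw [List.zip_append (by simp)]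
  simp only [wordEl, List.map_append, List.prod_append, List.zip_cons_cons, List.zip_nil_right, List.map_cons,
    List.map_nil, List.prod_cons, List.prod_nil, mul_one, map_mul, hF.proj_x]
  congr 1
  rw [qE, lineWord]
  generalize q1 D = L at hts ⊢
  induction L with
  | nil => simp [hF.wg_nil]
  | cons a L ih =>
    rw [List.map_cons, List.zip_cons_cons, List.map_cons, List.prod_cons, map_mul, hF.proj_x,
      ih fun r hr => hts r (List.mem_cons_of_mem _ hr), hts a List.mem_cons_self, List.map_cons, hF.wg_cons]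

include hF in
theorem no_cert (M : Model hF gm f) (T : Thin hF K₀ H) (hK : ∀ x ∈ K₀, x = 0 ∨ x = 1) {C : Cert n}
    (hC : chk D gm C = true) (t : ℕ → F) (s : ℕ → R4) (hts : ∀ r ∈ q1 D, f (s r) = t r) (z : R4)
    (e : C.ts = (q1 D).map s ++ [z]) (hlow : low hF t (f z) (f C.c) ∈ H) : False := by
  simp only [chk, Bool.and_eq_true, decide_eq_true_eq] at hC
  obtain ⟨⟨⟨⟨hxm, hl⟩, h0⟩, h1⟩, hs⟩ := hC
  set W := wordEl (F := F) (D := D) f ((q1 D ++ [top D]).zip C.ts)
  set x := W * D.stGen F (D.neg (top D)) (f C.c) * W⁻¹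
  have hW := wordEl_mat hF M ((q1 D ++ [top D]).zip C.ts)
  have hx : hF.proj F x ∈ H := by
    simp only [x, W, map_mul, map_inv, hF.proj_x, e]
    rw [wordEl_proj hF t s hts z]
    exact hlow
  have hx' : (M.φ x : Matrix (Fin n) (Fin n) F) = f.mapMatrix C.xm := by
    simp only [x, W, map_mul, map_inv]
    exact conj_mat hW (M.gen _ _) hxm.symm
  have hmem : hF.xg C.root (f C.par) ∈ H := by
    by_cases hb : C.startX
    · rw [if_pos hb] at hs
      exact steps_mem hF M T hx hx' C.steps x _ hx hx' hs
    · rw [if_neg hb] at hs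
      refine steps_mem hF M T hx hx' C.steps (D.stGen F (top D) (f 1)) _ ?_ (M.gen _ _) hs
      rw [hF.proj_x, map_one]; exact T.le (xg_mem_rat hF K₀ _ (one_mem _))
  rcases hK _ (T.long _ hl _ hmem) with h | h
  · exact h0 (r4_inj f (h.trans (map_zero f).symm))
  · exact h1 (r4_inj f (h.trans (map_one f).symm))

include hF in
theorem low_top_shift (hR : okRad D = true) (hle : rat hF K₀ ≤ H) {t : ℕ → F} {z c k : F} (hk : k ∈ K₀)
    (h : low hF t z c ∈ H) : low hF t (k + z) c ∈ H := by
  have htop := hle (xg_mem_rat hF K₀ (top D) hk)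
  have h1 := mul_mem (mul_mem htop h) (inv_mem htop)
  have e : qE hF t * hF.xg (top D) z * hF.xg (top D) k = hF.xg (top D) k * (qE hF t * hF.xg (top D) z) :=
    mul_inv_eq_iff_eq_mul.1 (frame_top hF hR t z k)
  convert h1 using 1
  rw [low, low, show qE hF t * hF.xg (top D) (k + z) = hF.xg (top D) k * (qE hF t * hF.xg (top D) z) by
    rw [← e, mul_assoc, ← hF.xg_add, add_comm]]
  group

include hF in
theorem lowRational [Fintype F] (hR : okRad D = true) (M : Model hF gm f) (hK : ∀ x ∈ K₀, x = 0 ∨ x = 1)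
    (h4 : ∀ H : Subgroup (GL D.Idx F), Thin hF K₀ H → ∀ (t : ℕ → F) (z c : F), c ≠ 0 →
      low hF t z c ∈ H → (∀ r ∈ q1 D, t r ^ 4 = t r) ∧ z ^ 4 = z ∧ c ^ 4 = c)
    {certs : List (Cert n)} (hall : certs.all (chk D gm) = true)
    (hcov : cover D certs = true) : LowRational hF K₀ := by
  classical
  have hsurj : ∀ v : F, v ^ 4 = v → ∃ w, f w = v := fun v hv => by
    have ho : f o * f o = f o + 1 := by rw [← map_mul, ← map_one f, ← map_add]; exact congrArg f (by decide +kernel)
    have h2 : (2 : F) = 0 := by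
      rw [← map_ofNat f 2, show (OfNat.ofNat 2 : R4) = 0 by decide +kernel, map_zero]
    have h : v * (v - 1) * ((v - f o) * (v - f o - 1)) = 0 := by
      linear_combination hv + (v * (v - 1)) * ho + (v ^ 2 - f o * v * (v - 1) - v ^ 3 - 2 * v * f o + 3 * v ^ 2 * f o - v ^ 3 * f o) * h2
    rcases mul_eq_zero.1 h with h | h <;> rcases mul_eq_zero.1 h with h | h
    · exact ⟨0, by rw [map_zero, h]⟩
    · exact ⟨1, by rw [map_one, sub_eq_zero.1 h]⟩
    · exact ⟨o, (sub_eq_zero.1 h).symm⟩
    · exact ⟨o + 1, by rw [map_add, map_one]; linear_combination -h⟩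
  intro H T
  have key : ∀ (t : ℕ → F) (z c : F), c ≠ 0 → low hF t z c ∈ H →
      (∀ r ∈ q1 D, t r ∈ K₀) ∧ c = 1 ∧ ((∀ r ∈ q1 D, t r = 0) → z ∈ K₀) := by
    intro t z c hc hlow
    have h01 : ∀ (v : F) (w : R4), f w = v → ∃ k ∈ K₀, ∃ w' : R4, (w' = 0 ∨ w' = o) ∧ f w' = k + v := by
      intro v w hw
      rcases r4_cases w with rfl | rfl | rfl | rfl
      · exact ⟨0, zero_mem _, 0, Or.inl rfl, by rw [zero_add, hw]⟩
      · refine ⟨f 1, by rw [map_one]; exact one_mem _, 0, Or.inl rfl, ?_⟩
        rw [← hw, ← map_add]; exact congrArg f (by decide +kernel)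
      · exact ⟨0, zero_mem _, o, Or.inr rfl, by rw [zero_add, hw]⟩
      · refine ⟨f 1, by rw [map_one]; exact one_mem _, o, Or.inr rfl, ?_⟩
        rw [← hw, ← map_add]; exact congrArg f (by decide +kernel)
    have hk : ∀ v : F, ∃ k ∈ K₀, ∃ w' : R4, (w' = 0 ∨ w' = o) ∧ (v ^ 4 = v → f w' = k + v) := fun v => by
      by_cases hv : v ^ 4 = v
      · obtain ⟨w, hw⟩ := hsurj v hv
        obtain ⟨k, hk, w', hw0, hw'⟩ := h01 v w hw
        exact ⟨k, hk, w', hw0, fun _ => hw'⟩
      · exact ⟨0, zero_mem _, 0, Or.inl rfl, fun h => absurd h hv⟩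
    choose k hkK w hw0 hwv using hk
    obtain ⟨ht4, hz4, hc4⟩ := h4 H T t z c hc hlow
    obtain ⟨z', hz'⟩ := low_shift hF hR T.le hlow (k := fun r => if t r = 0 then 0 else k (t r)) (by
      intro r _
      split_ifs
      exacts [zero_mem _, hkK _])
    obtain ⟨-, hz'4, -⟩ := h4 H T _ z' c hc hz'
    set t' : ℕ → F := fun r => (if t r = 0 then 0 else k (t r)) + t r
    set s : ℕ → R4 := fun r => if t r = 0 then 0 else w (t r)
    have hts : ∀ r ∈ q1 D, f (s r) = t' r := fun r hr => by
      simp only [s, t']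
      split_ifs with h
      · rw [map_zero, zero_add, h]
      · exact hwv _ (ht4 r hr)
    have hz'' : low hF t' (k z' + z') c ∈ H := by
      exact low_top_shift hF hR T.le (hkK z') hz'
    obtain ⟨cw, rfl⟩ := hsurj c hc4
    have hw := hwv z' hz'4
    rw [← hw] at hz''
    have hts0 : ∀ r ∈ q1 D, s r = 0 → t r ∈ K₀ := fun r hr h => by
      have e := hts r hr
      rw [h, map_zero] at e
      simp only [t'] at e
      rw [show t r = -(if t r = 0 then 0 else k (t r)) by linear_combination -e]
      refine neg_mem ?_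
      split_ifs
      exacts [zero_mem _, hkK _]
    have hmem : (q1 D).map s ++ [w z'] ∈ allTs ((q1 D).length + 1) := by
      have := mem_allTs (L := (q1 D).map s ++ [w z']) (by
        intro x hx
        rcases List.mem_append.1 hx with hx | hx
        · obtain ⟨r, -, rfl⟩ := List.mem_map.1 hx
          simp only [s]
          split_ifs
          exacts [Or.inl rfl, hw0 _]
        · rw [List.mem_singleton.1 hx]; exact hw0 _)
      simpa using this
    have hcw : cw ∈ [1, o, o2] := by
      rcases r4_cases cw with rfl | rfl | rfl | rfl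
      · exact absurd (map_zero f) hc
      all_goals simp
    simp only [cover, List.all_eq_true, Bool.or_eq_true, Bool.and_eq_true, decide_eq_true_eq, List.any_eq_true,
      beq_iff_eq] at hcov
    rcases hcov _ hmem cw hcw with ⟨hz0, hc1⟩ | ⟨C, hCm, e1, e2⟩
    · refine ⟨fun r hr => hts0 r hr (hz0 _ (List.mem_append_left _ (List.mem_map_of_mem hr))), by rw [hc1, map_one], ?_⟩
      intro ht0
      have hzz : f (w z') = 0 := by rw [hz0 _ (List.mem_append_right _ (List.mem_singleton_self _)), map_zero]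
      rw [hzz] at hz''
      have hzk : z' ∈ K₀ := by
        have := hw
        rw [hzz] at this
        rw [show z' = -k z' by linear_combination -this]
        exact neg_mem (hkK _)
      by_contra hzn
      obtain ⟨k₁, hk₁, w₁, hw₁, e₁⟩ : ∃ k₁ ∈ K₀, ∃ w₁ : R4, (w₁ = 0 ∨ w₁ = o) ∧ f w₁ = k₁ + z :=
        ⟨_, hkK z, _, hw0 z, hwv z hz4⟩
      rcases hw₁ with rfl | rfl
      · rw [map_zero] at e₁
        exact hzn (by rw [show z = -k₁ by linear_combination -e₁]; exact neg_mem hk₁)
      have hlow' : low hF t (k₁ + z) (f cw) ∈ H := by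
        exact low_top_shift hF hR T.le hk₁ hlow
      have hmem' : (q1 D).map (fun _ => (0 : R4)) ++ [o] ∈ allTs ((q1 D).length + 1) := by
        have := mem_allTs (L := (q1 D).map (fun _ => (0 : R4)) ++ [o]) (by
          intro x hx
          simp only [List.mem_append, List.mem_map, List.mem_singleton] at hx
          rcases hx with ⟨_, _, rfl⟩ | rfl
          exacts [Or.inl rfl, Or.inr rfl])
        simpa using this
      rcases hcov _ hmem' cw hcw with ⟨h0', -⟩ | ⟨C, hCm, e1, e2⟩
      · exact absurd (h0' o (List.mem_append_right _ (List.mem_singleton_self _))) (by decide +kernel)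
      · exact no_cert hF M T hK (List.all_eq_true.1 hall C hCm) t (fun _ => 0)
          (fun r hr => by rw [map_zero, ht0 r hr]) o e1 (by rw [e2, e₁]; exact hlow')
    · exact (no_cert hF M T hK (List.all_eq_true.1 hall C hCm) t' s hts (w z') e1
        (by rw [e2]; exact hz'')).elim
  intro t z c hc hlow
  obtain ⟨ht, hc1, -⟩ := key t z c hc hlow
  refine ⟨ht, ?_, hc1 ▸ one_mem _⟩
  refine (key (fun _ => 0) z c hc ?_).2.2 fun r _ => rfl
  have hq := T.le (qE_mem_rat hF ht)
  have := mul_mem (mul_mem (inv_mem hq) hlow) hq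
  have e0 : qE hF (fun _ => (0 : F)) = 1 := by
    rw [qE, lineWord]
    generalize q1 D = L
    induction L with
    | nil => simp [hF.wg_nil]
    | cons a L ih => rw [List.map_cons, hF.wg_cons, ih, hF.xg_zero, mul_one]
  convert this using 1
  rw [low, low, e0]
  group

end Small

end Cfsg.Agent.Lie.SubMax
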