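import Cfsg.Agent.Lib.Lie.SubMax.SmallCase
import Cfsg.Agent.Lib.Lie.RepG2
import Cfsg.Agent.Lib.Lie.RepB2
import Cfsg.Agent.Lib.Lie.Perfect
import Cfsg.Agent.Lib.Lie.AllFacts

/-!
Models of the groups of type G2 and B2 over the field with four elements.
-/

set_option autoImplicit false

namespace Cfsg.Agent.Lie.SubMax.Small

open Cfsg.Lie Matrix
open scoped MatrixGroups

/-- The matrices of type G2. -/
def gmG2 (r : ℕ) (t : R4) : Matrix (Fin 6) (Fin 6) R4 := g2Six r t

/-- The matrices of type B2. -/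
def gmB2 (r : ℕ) (t : R4) : Matrix (Fin 5) (Fin 5) R4 :=
  1 + evL (Equiv.refl (Fin 5)) t t ((b2Rep.ent r).map fun m => ⟨m.row, m.col, m.a, 0, m.c⟩)

theorem noncomm_gmG2 : gmG2 11 1 * gmG2 0 1 ≠ gmG2 0 1 * gmG2 11 1 := by decide +kernel

theorem noncomm_gmB2 : gmB2 7 1 * gmB2 0 1 ≠ gmB2 0 1 * gmB2 7 1 := by decide +kernel

variable {F : Type*} [Field F] [Fintype F]

/-- The field model maps into a field with a primitive cube root of unity. -/
theorem exists_hom_of_root [CharP F 2] {a : F} (hw : a * a = a + 1) : Nonempty (R4 →+* F) := by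
  letI : Algebra (ZMod 2) F := ZMod.algebra F 2
  exact ⟨(QuadraticAlgebra.lift (R := ZMod 2) (a := 1) (b := 1) ⟨a, by rw [one_smul, one_smul, hw, add_comm]⟩).toRingHom⟩

/-- Without a primitive cube root of unity only zero and one are fixed by the fourth power. -/
theorem zero_one_of_pow_four {K : Type*} [Field K] (h2 : (2 : K) = 0) (hno : ∀ a : K, a * a ≠ a + 1) {v : K}
    (h : v ^ 4 = v) : v = 0 ∨ v = 1 := by
  have e : v * (v - 1) * (v * v + v + 1) = 0 := by linear_combination h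
  rcases mul_eq_zero.1 e with h | h
  · rcases mul_eq_zero.1 h with h | h
    exacts [Or.inl h, Or.inr (sub_eq_zero.1 h)]
  · exact absurd (by linear_combination h - (v + 1) * h2) (hno v)

/-- The ground field with two elements has characteristic two. -/
theorem two_eq_zero_of_small {K : Type*} [Field K] {K₀ : Subfield K} (h01 : ∀ k ∈ K₀, k = 0 ∨ k = 1) :
    (2 : K) = 0 := by
  rcases h01 ((1 : K) + 1) (add_mem (one_mem _) (one_mem _)) with e | e
  · rw [← one_add_one_eq_two]; exact e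
  · exact absurd (by linear_combination e) (one_ne_zero (α := K))

theorem exists_ne_of_hom (f : R4 →+* F) : ∃ a : F, a ≠ 0 ∧ a ≠ 1 :=
  ⟨f o, fun h => absurd (r4_inj f (h.trans (map_zero f).symm)) (by decide +kernel),
    fun h => absurd (r4_inj f (h.trans (map_one f).symm)) (by decide +kernel)⟩

theorem model_inj {D : ChevalleyDatum} (hF : Facts D) (hS : StHyp D) (hconn : okConn D) (hrank : 0 < D.rank)
    (hperf : ⁅D.group F, D.group F⁆ = D.group F) {n : ℕ} {gm : ℕ → R4 → Matrix (Fin n) (Fin n) R4}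
    (f : R4 →+* F) (φ : D.SteinbergGroup F →* GL (Fin n) F)
    (hgen : ∀ r s, (φ (D.stGen F r (f s)) : Matrix (Fin n) (Fin n) F) = f.mapMatrix (gm r s))
    {r₁ r₂ : ℕ} (hne : gm r₁ 1 * gm r₂ 1 ≠ gm r₂ 1 * gm r₁ 1) {g g' : D.SteinbergGroup F} (h : φ g = φ g') :
    hF.proj F g = hF.proj F g' := by
  haveI : IsSimpleGroup ↥(D.group F) := (hF.isSimple hconn hperf hrank).1
  refine proj_eq hF hS (fun hH => (hF.ker_eq_center hH hH.2.2).le) φ (a := D.stGen F r₁ (f 1))
    (b := D.stGen F r₂ (f 1)) ?_ h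
  intro e
  apply hne
  have e' := congrArg (fun x : GL (Fin n) F => (x : Matrix (Fin n) (Fin n) F)) e
  simp only [Units.val_mul, hgen] at e'
  rw [← map_mul, ← map_mul] at e'
  exact Matrix.map_injective (r4_inj f) e'

theorem exists_modelG2 (hF : Facts chevG2) (f : R4 →+* F) [CharP F 2] : Nonempty (Model hF gmG2 f) := by
  obtain ⟨φ, hφ⟩ := exists_g2Six (F := F)
  have hgen : ∀ r s, (φ (chevG2.stGen F r (f s)) : Matrix (Fin 6) (Fin 6) F) = f.mapMatrix (gmG2 r s) := by
    intro r s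
    rw [hφ, ← g2Six_map]
    rfl
  exact ⟨⟨φ, hgen, fun g g' h => model_inj hF (stHyp_of_mem (by simp)) okConnG2 (by decide)
    (perfect_small hF okPerfG2 (exists_ne_of_hom f)) f φ hgen noncomm_gmG2 h⟩⟩

theorem exists_modelB2 (hF : Facts chevB2) (f : R4 →+* F) : Nonempty (Model hF gmB2 f) := by
  have hout : ∀ r, chevB2.nroots ≤ r → b2Rep.ent r = [] := fun r hr => if_neg (not_lt.2 hr)
  obtain ⟨φ, hφ, -⟩ := SRep.exists_hom (e := Equiv.refl (Fin 5)) (F := F) b2Rep_ok (fun r hr => hF.neg_lt hr) hout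
  have hgen : ∀ r s, (φ (chevB2.stGen F r (f s)) : Matrix (Fin 5) (Fin 5) F) = f.mapMatrix (gmB2 r s) := by
    intro r s
    rw [hφ, RingHom.mapMatrix_apply, gmB2, Matrix.map_add f (map_add f), Matrix.map_one f (map_zero f) (map_one f),
      evL_map]
    rfl
  exact ⟨⟨φ, hgen, fun g g' h => model_inj hF (stHyp_of_mem (by simp)) okConnB2 (by decide)
    (perfect_small hF okPerfB2 (exists_ne_of_hom f)) f φ hgen noncomm_gmB2 h⟩⟩

end Cfsg.Agent.Lie.SubMax.Small
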