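import Cfsg.Agent.Lib.Lie.SubMax.AllTypes
import Cfsg.Agent.Lib.Lie.TwistTorus
import Mathlib.RingTheory.Jacobson.Ring
import Mathlib.FieldTheory.IsAlgClosed.Basic
import Mathlib.FieldTheory.Finite.GaloisField

/-!
Finite subgroups above the group over a finite field: specialisation to finite fields.
-/

set_option autoImplicit false

namespace Cfsg.Agent.Lie.SubMax

open Cfsg.Lie Matrix
open scoped MatrixGroups

/-- The elements of a finite subfield are the roots of x^q = x. -/
theorem mem_of_pow_card {F : Type*} [Field F] [Finite F] {K₀ : Subfield F} {x : F}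
    (h : x ^ Nat.card K₀ = x) : x ∈ K₀ := by
  classical
  haveI := Fintype.ofFinite K₀
  have hq : 1 < Nat.card K₀ := Finite.one_lt_card
  set P : Polynomial F := Polynomial.X ^ Nat.card K₀ - Polynomial.X
  have hP : P ≠ 0 := FiniteField.X_pow_card_sub_X_ne_zero F hq
  have hsub : (Finset.univ : Finset K₀).image Subtype.val ⊆ P.roots.toFinset := by
    intro y hy
    obtain ⟨w, -, rfl⟩ := Finset.mem_image.1 hy
    rw [Multiset.mem_toFinset, Polynomial.mem_roots hP]
    have := FiniteField.pow_card w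
    simp [P, Nat.card_eq_fintype_card, sub_eq_zero, ← SubmonoidClass.coe_pow, this]
  have hcard : P.roots.toFinset.card ≤ ((Finset.univ : Finset K₀).image Subtype.val).card := by
    rw [Finset.card_image_of_injective _ Subtype.val_injective, Finset.card_univ, ← Nat.card_eq_fintype_card]
    refine (Multiset.toFinset_card_le _).trans ((Polynomial.card_roots' P).trans ?_)
    exact le_of_eq (FiniteField.X_pow_card_sub_X_natDegree_eq F hq)
  have hx : x ∈ P.roots.toFinset := by
    rw [Multiset.mem_toFinset, Polynomial.mem_roots hP]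
    simp [P, ← Nat.card_eq_fintype_card, h]
  rw [← Finset.eq_of_subset_of_card_le hsub hcard] at hx
  obtain ⟨w, -, rfl⟩ := Finset.mem_image.1 hx
  exact w.2

/-- Fixed points of a power are fixed by its powers. -/
theorem pow_tower {B : Type*} [Monoid B] {x : B} {q r R : ℕ} (h : r ∣ R) (hx : x ^ (q ^ r) = x) :
    x ^ (q ^ R) = x := by
  obtain ⟨n, rfl⟩ := h
  rw [pow_mul q r n]
  induction n with
  | zero => simp
  | succ n ih => rw [pow_succ, pow_mul, ih, hx]

/-- The field with q elements inside an algebraically closed field. -/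
theorem pow_fixed_card {k : Type*} [Field k] [IsAlgClosed k] (p : ℕ) [Fact p.Prime] [CharP k p] {a : ℕ}
    (ha : 1 ≤ a) : Nat.card {y : k // y ^ (p ^ a) = y} = p ^ a := by
  classical
  have hq1 : 1 < p ^ a := Nat.one_lt_pow (by omega) (Fact.out : p.Prime).one_lt
  set P : Polynomial k := Polynomial.X ^ (p ^ a) - Polynomial.X with hP
  have hP0 : P ≠ 0 := FiniteField.X_pow_card_sub_X_ne_zero k hq1
  have hsep : P.Separable := galois_poly_separable p _ (dvd_pow_self p (by omega))
  rw [Nat.card_congr (Equiv.subtypeEquivRight (q := fun y => y ∈ P.roots.toFinset) fun y => by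
    simp [P, Polynomial.mem_roots hP0, sub_eq_zero]), Nat.card_eq_fintype_card, Fintype.card_coe,
    Multiset.card_toFinset, Multiset.dedup_eq_self.2 (Polynomial.nodup_roots hsep),
    ← (IsAlgClosed.splits P).natDegree_eq_card_roots, hP, FiniteField.X_pow_card_sub_X_natDegree_eq k hq1]

variable {D : ChevalleyDatum}

/-- The overgroup theorem over a finite field containing the field with q elements. -/
theorem finite_case {F : Type*} [Field F] [Fintype F] (p : ℕ) [Fact p.Prime] [CharP F p] (hF : Facts D)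
    (hD : D ∈ [chevG2, chevB2, chevD4, chevF4, chevE6, chevE7, chevE8]) {a : ℕ} (ha : 1 ≤ a)
    (hsplit : Nat.card {x : F // x ^ (p ^ a) = x} = p ^ a) {H : Subgroup (GL D.Idx F)}
    (hle : ∀ (s : ℕ) (t : F), t ^ (p ^ a) = t → hF.xg s t ∈ H) (hH : H ≤ D.group F) :
    ∃ r, 1 ≤ r ∧ r ≤ Nat.card H ∧ (∀ (s : ℕ) (t : F), t ^ ((p ^ a) ^ r) = t → hF.xg s t ∈ H) ∧
      ∀ g ∈ H, ∀ i j, ((g : Matrix D.Idx D.Idx F) i j) ^ ((p ^ a) ^ r) = (g : Matrix D.Idx D.Idx F) i j := by
  classical
  obtain ⟨hR, hC, hG, hT, hlow⟩ := ready_of_mem (F := F) hD hF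
  set σ₀ : F →+* F := iterateFrobenius F p a
  set K₀ : Subfield F := σ₀.eqLocusField (RingHom.id F)
  have hK₀ : ∀ x, x ∈ K₀ ↔ x ^ (p ^ a) = x := fun x => by
    show σ₀ x = x ↔ _
    rw [show σ₀ x = x ^ p ^ a from iterateFrobenius_def p a x]
  have hq : Nat.card K₀ = p ^ a := by
    rw [← hsplit]; exact Nat.card_congr (Equiv.subtypeEquivRight hK₀)
  have hrat : rat hF K₀ ≤ H := (Subgroup.closure_le _).2 fun _ ⟨s, t, ht, e⟩ => e ▸ hle s t ((hK₀ t).1 ht)
  obtain ⟨K₁, h₀, h₁, hfix⟩ := overgroup hF hR hC hG hT hlow hrat hH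
  letI : Algebra K₀ K₁ := (Subfield.inclusion h₀).toAlgebra
  set r := Module.finrank K₀ K₁ with hr
  have hcard : Nat.card K₁ = (p ^ a) ^ r := by rw [← hq]; exact Module.natCard_eq_pow_finrank
  have hpa : 2 ≤ p ^ a := le_trans (Fact.out : p.Prime).two_le (Nat.le_self_pow (by omega) p)
  have hpow : ∀ x, x ∈ K₁ ↔ x ^ ((p ^ a) ^ r) = x := fun x => by
    rw [← hcard]
    refine ⟨fun hx => ?_, mem_of_pow_card⟩
    haveI := Fintype.ofFinite K₁
    have := congrArg Subtype.val (FiniteField.pow_card (⟨x, hx⟩ : K₁))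
    simpa [Nat.card_eq_fintype_card] using this
  refine ⟨r, Module.finrank_pos, ?_, fun s t ht => h₁ (xg_mem_rat hF K₁ s ((hpow t).2 ht)), fun g hg i j => ?_⟩
  · refine le_trans (Nat.lt_pow_self hpa).le ?_
    rw [← hcard]
    exact Nat.card_le_card_of_injective (fun x : K₁ => (⟨hF.xg (top D) x, h₁ (xg_mem_rat hF K₁ _ x.2)⟩ : H))
      fun x y h => Subtype.ext (hF.xg_inj (top_lt hR) (congrArg Subtype.val h))
  · set σ : F →+* F := iterateFrobenius F p (a * r)
    have hσ : ∀ x, σ x = x ^ ((p ^ a) ^ r) := fun x => by rw [← pow_mul]; exact iterateFrobenius_def p (a * r) x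
    have h := congrArg (fun x : GL D.Idx F => (x : Matrix D.Idx D.Idx F) i j)
      (hfix σ (fun x => by rw [hσ]; exact hpow x) g hg)
    simp only [coe_gmap, Matrix.map_apply, hσ] at h
    exact h

/-- The matrix of a root element over a commutative ring. -/
noncomputable def xMat (D : ChevalleyDatum) {R : Type*} [CommRing R] (r : ℕ) (t : R) : Matrix D.Idx D.Idx R :=
  1 + evL (idxEquiv D) t t (ent D r)

theorem xMat_map {R : Type*} [CommRing R] {F : Type*} [Field F] (f : R →+* F) (r : ℕ) (t : R) :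
    (xMat D r t).map f = D.x F r (f t) := by
  rw [xMat, Matrix.map_add f (map_add f), Matrix.map_one f (map_zero f) (map_one f), evL_map,
    x_eq D F r (f t) (f t)]

/-- The matrix of a word over a commutative ring. -/
noncomputable def wordR (D : ChevalleyDatum) {R : Type*} [CommRing R] (w : List (ℕ × R)) :
    Matrix D.Idx D.Idx R := (w.map fun x => xMat D x.1 x.2).prod

theorem wordR_map (hF : Facts D) {R : Type*} [CommRing R] {F : Type*} [Field F] (f : R →+* F)
    (w : List (ℕ × R)) :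
    (wordR D w).map f = (hF.wg (w.map fun x => (x.1, f x.2)) : Matrix D.Idx D.Idx F) := by
  induction w with
  | nil => simp [wordR, hF.wg_nil, Matrix.map_one f (map_zero f) (map_one f)]
  | cons x w ih =>
    rw [wordR] at ih
    rw [wordR, List.map_cons, List.prod_cons, List.map_cons, hF.wg_cons, Units.val_mul, Facts.coe_xg,
      Matrix.map_mul, ih, xMat_map]

theorem exists_word (hF : Facts D) {F : Type*} [Field F] {g : GL D.Idx F} (hg : g ∈ D.group F) :
    ∃ w : List (ℕ × F), hF.wg w = g := by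
  rw [hF.group_eq] at hg
  induction hg using Subgroup.closure_induction with
  | mem g hg => obtain ⟨⟨r, t⟩, rfl⟩ := hg; exact ⟨[(r, t)], by rw [hF.wg_cons, hF.wg_nil, mul_one]⟩
  | one => exact ⟨[], hF.wg_nil⟩
  | mul a b _ _ ha hb =>
    obtain ⟨u, rfl⟩ := ha
    obtain ⟨v, rfl⟩ := hb
    exact ⟨u ++ v, hF.wg_append u v⟩
  | inv a _ ha =>
    obtain ⟨u, rfl⟩ := ha
    refine ⟨(u.map fun x => (x.1, -x.2)).reverse, ?_⟩
    rename_i hmem
    clear hmem
    induction u with
    | nil => simp [hF.wg_nil]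
    | cons x u ih =>
      rw [List.map_cons, List.reverse_cons, hF.wg_append, ih, hF.wg_cons, hF.wg_cons, hF.wg_nil, mul_one,
        hF.xg_neg, _root_.mul_inv_rev]

/-- Finite subgroups of the group over an algebraically closed field above the group over a finite field. -/
theorem finite_overgroup {k : Type*} [Field k] [IsAlgClosed k] (p : ℕ) [Fact p.Prime] [CharP k p] (hF : Facts D)
    (hD : D ∈ [chevG2, chevB2, chevD4, chevF4, chevE6, chevE7, chevE8]) {a : ℕ} (ha : 1 ≤ a)
    (M : Subgroup (GL D.Idx k)) [Finite M] (hMG : M ≤ D.group k)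
    (hLM : ∀ (s : ℕ) (t : k), t ^ (p ^ a) = t → hF.xg s t ∈ M) :
    ∃ r, 1 ≤ r ∧ (∀ (s : ℕ) (t : k), t ^ ((p ^ a) ^ r) = t → hF.xg s t ∈ M) ∧
      ∀ g ∈ M, ∀ i j, ((g : Matrix D.Idx D.Idx k) i j) ^ ((p ^ a) ^ r) = (g : Matrix D.Idx D.Idx k) i j := by
  classical
  have hp : p.Prime := Fact.out
  letI : Algebra (ZMod p) k := ZMod.algebra k p
  set q := p ^ a with hqdef
  have hq1 : 1 < q := Nat.one_lt_pow (by omega) hp.one_lt
  set R := (Nat.card M).factorial with hRdef
  have hR0 : 0 < R := Nat.factorial_pos _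
  set Q := q ^ R with hQdef
  have hQ1 : 1 < Q := Nat.one_lt_pow hR0.ne' hq1
  have hQa : Q = p ^ (a * R) := by rw [hQdef, hqdef, ← pow_mul]
  -- the fixed field with Q elements
  have hQfin : (Polynomial.X ^ Q - Polynomial.X : Polynomial k) ≠ 0 := FiniteField.X_pow_card_sub_X_ne_zero k hQ1
  set Z : Finset k := (Polynomial.X ^ Q - Polynomial.X : Polynomial k).roots.toFinset
  have hZ : ∀ u : k, u ∈ Z ↔ u ^ Q = u := fun u => by
    simp [Z, Polynomial.mem_roots hQfin, sub_eq_zero]
  choose w hw using fun g : M => exists_word hF (hMG g.2)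
  set S : Set k := (⋃ g : M, {x | x ∈ (w g).map Prod.snd}) ∪ Z
  have hS : S.Finite := (Set.finite_iUnion fun g => List.finite_toSet _).union Z.finite_toSet
  set A := Algebra.adjoin (ZMod p) S
  haveI : Algebra.FiniteType (ZMod p) A := by
    refine (Subalgebra.fg_iff_finiteType A).1 ?_
    have := Subalgebra.fg_adjoin_finset (R := ZMod p) hS.toFinset
    rwa [hS.coe_toFinset] at this
  haveI : IsJacobsonRing A := isJacobsonRing_of_finiteType (A := ZMod p)
  have hwA : ∀ g : M, ∀ x ∈ w g, x.2 ∈ A := fun g x hx =>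
    Algebra.subset_adjoin (Or.inl (Set.mem_iUnion.2 ⟨g, List.mem_map_of_mem hx⟩))
  have hZA : ∀ u : k, u ^ Q = u → u ∈ A := fun u hu => Algebra.subset_adjoin (Or.inr ((hZ u).2 hu))
  set inc : A →+* k := A.val.toRingHom with hinc
  have hinj : Function.Injective inc := Subtype.val_injective
  set wA : M → List (ℕ × A) := fun g => (w g).attach.map fun x => (x.1.1, ⟨x.1.2, hwA g x.1 x.2⟩)
  have hwA' : ∀ g : M, ((wA g).map fun x => (x.1, inc x.2)) = w g := fun g => by
    simp only [wA, List.map_map]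
    exact List.attach_map_subtype_val (w g)
  set W : M → Matrix D.Idx D.Idx A := fun g => wordR D (wA g) with hWdef
  have hW : ∀ g : M, (W g).map inc = ((g : GL D.Idx k) : Matrix D.Idx D.Idx k) := fun g => by
    rw [hWdef, wordR_map hF, hwA', hw]
  have huniq : ∀ B C : Matrix D.Idx D.Idx A, B.map inc = C.map inc → B = C :=
    fun B C h => Matrix.map_injective hinj h
  let Wh : M →* Matrix D.Idx D.Idx A :=
    { toFun := W
      map_one' := huniq _ _ (by rw [hW, Matrix.map_one inc (map_zero inc) (map_one inc)]; rfl)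
      map_mul' := fun g g' => huniq _ _ (by
        rw [Matrix.map_mul, hW, hW, hW, Subgroup.coe_mul, Units.val_mul]) }
  -- the statement in one specialisation
  have spec : ∀ m : Ideal A, m.IsMaximal → ∃ φ : A →+* (A ⧸ m), (∀ x, φ x = 0 ↔ x ∈ m) ∧
      (∀ u v : A, u ^ Q = u → v ^ Q = v → φ u = φ v → u = v) ∧
      ∃ r, 1 ≤ r ∧ r ≤ Nat.card M ∧
        (∀ (s : ℕ) (t : A), φ t ^ (q ^ r) = φ t → ∃ g : M, (W g).map φ = (xMat D s t).map φ) ∧
        ∀ (g : M) (i j : D.Idx), φ (W g i j) ^ (q ^ r) = φ (W g i j) := by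
    intro m hm
    letI : Field (A ⧸ m) := Ideal.Quotient.field m
    haveI : Algebra.FiniteType (ZMod p) (A ⧸ m) :=
      Algebra.FiniteType.of_surjective (Ideal.Quotient.mkₐ (ZMod p) m) (Ideal.Quotient.mkₐ_surjective _ m)
    haveI : Module.Finite (ZMod p) (A ⧸ m) := finite_of_finite_type_of_isJacobsonRing (ZMod p) (A ⧸ m)
    haveI : Finite (A ⧸ m) := Module.finite_of_finite (ZMod p)
    letI : Fintype (A ⧸ m) := Fintype.ofFinite _
    haveI : CharP (A ⧸ m) p := charP_of_injective_algebraMap (algebraMap (ZMod p) (A ⧸ m)).injective p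
    set φ : A →+* (A ⧸ m) := Ideal.Quotient.mk m
    have hker : ∀ x, φ x = 0 ↔ x ∈ m := fun x => Ideal.Quotient.eq_zero_iff_mem
    have hdist : ∀ u v : A, u ^ Q = u → v ^ Q = v → φ u = φ v → u = v := fun u v hu hv huv => by
      by_contra hne
      have hd : (u - v) ^ Q = u - v := by
        apply hinj
        rw [map_pow, map_sub, hQa, sub_pow_char_pow, ← hQa, ← map_pow, ← map_pow, hu, hv]
      have hone : (u - v) ^ (Q - 1) = 1 := by
        refine mul_right_cancel₀ (sub_ne_zero.2 hne) ?_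
        rw [one_mul, ← pow_succ, show Q - 1 + 1 = Q by omega, hd]
      have := congrArg φ hone
      rw [map_pow, map_sub, huv, sub_self, zero_pow (by omega), map_one] at this
      exact zero_ne_one this
    refine ⟨φ, hker, hdist, ?_⟩
    let ψ : M →* GL D.Idx (A ⧸ m) := (φ.mapMatrix.toMonoidHom.comp Wh).toHomUnits
    have hψ : ∀ g : M, (ψ g : Matrix D.Idx D.Idx (A ⧸ m)) = (W g).map φ := fun g => rfl
    have hψw : ∀ g : M, ψ g = hF.wg ((wA g).map fun x => (x.1, φ x.2)) := fun g => Units.ext (by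
      rw [hψ, ← wordR_map hF])
    -- the roots of x^q = x lift
    have hup : ∀ y : k, y ^ q = y → y ^ Q = y := fun y hy =>
      pow_tower (one_dvd R) (by rwa [pow_one])
    haveI : Finite {y : k // y ^ q = y} := Nat.finite_of_card_ne_zero (by rw [pow_fixed_card p ha]; omega)
    let f : {y : k // y ^ q = y} → {x : A ⧸ m // x ^ q = x} := fun y => ⟨φ ⟨y.1, hZA _ (hup _ y.2)⟩, by
      rw [← map_pow]; exact congrArg φ (Subtype.ext y.2)⟩
    have hAQ : ∀ (y : k) (h : y ^ q = y), (⟨y, hZA y (hup y h)⟩ : A) ^ Q = ⟨y, hZA y (hup y h)⟩ :=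
      fun y h => Subtype.ext (hup y h)
    have hfinj : Function.Injective f := fun y z h => Subtype.ext (congrArg (fun v : A => (v : k))
      (hdist _ _ (hAQ y.1 y.2) (hAQ z.1 z.2) (congrArg Subtype.val h)))
    have hfle : Nat.card {x : A ⧸ m // x ^ q = x} ≤ q := by
      set P' : Polynomial (A ⧸ m) := Polynomial.X ^ q - Polynomial.X with hP'
      have hP'0 : P' ≠ 0 := FiniteField.X_pow_card_sub_X_ne_zero _ hq1
      rw [Nat.card_congr (Equiv.subtypeEquivRight (q := fun y => y ∈ P'.roots.toFinset) fun y => by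
        simp [P', Polynomial.mem_roots hP'0, sub_eq_zero]), Nat.card_eq_fintype_card, Fintype.card_coe]
      exact ((Multiset.toFinset_card_le _).trans P'.card_roots').trans
        (le_of_eq (FiniteField.X_pow_card_sub_X_natDegree_eq _ hq1))
    have hsplit : Nat.card {x : A ⧸ m // x ^ q = x} = q :=
      le_antisymm hfle ((pow_fixed_card (k := k) p ha).ge.trans (Nat.card_le_card_of_injective f hfinj))
    have hfbij : Function.Bijective f :=
      hfinj.bijective_of_nat_card_le (by rw [hsplit, pow_fixed_card p ha])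
    have hlift : ∀ x : A ⧸ m, x ^ q = x → ∃ u : A, inc u ^ q = inc u ∧ φ u = x := fun x hx => by
      obtain ⟨y, hy⟩ := hfbij.2 ⟨x, hx⟩
      exact ⟨⟨y.1, hZA _ (hup _ y.2)⟩, y.2, congrArg Subtype.val hy⟩
    have hle : ∀ (s : ℕ) (x : A ⧸ m), x ^ q = x → hF.xg s x ∈ ψ.range := by
      intro s x hx
      obtain ⟨u, hu, rfl⟩ := hlift x hx
      refine ⟨⟨_, hLM s (inc u) hu⟩, Units.ext ?_⟩
      rw [hψ, Facts.coe_xg, ← xMat_map]
      congr 1
      refine huniq _ _ ?_
      rw [hW, xMat_map]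
      rfl
    obtain ⟨r, hr1, hrle, hrx, hrfix⟩ := finite_case p hF hD ha hsplit (H := ψ.range) hle (by
      rintro _ ⟨g, rfl⟩; rw [hψw]; exact hF.wg_mem_group _)
    refine ⟨r, hr1, hrle.trans (Nat.card_le_card_of_surjective ψ.rangeRestrict ψ.rangeRestrict_surjective),
      fun s t ht => ?_, fun g i j => hrfix (ψ g) ⟨g, rfl⟩ i j⟩
    obtain ⟨g, hg⟩ := hrx s (φ t) ht
    exact ⟨g, by rw [← hψ, hg, Facts.coe_xg, xMat_map]⟩
  -- all entries are fixed by Q
  have hfixQ : ∀ (g : M) i j, W g i j ^ Q = W g i j := fun g i j => by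
    refine sub_eq_zero.1 ?_
    have hj : W g i j ^ Q - W g i j ∈ (⊥ : Ideal A).jacobson := by
      refine Ideal.mem_sInf.2 fun m hm => ?_
      obtain ⟨φ, hker, -, r, hr1, hrle, -, hfx⟩ := spec m hm.2
      rw [← hker, map_sub, map_pow, pow_tower (Nat.dvd_factorial hr1 hrle) (hfx g i j), sub_self]
    rwa [IsJacobsonRing.out' (⊥ : Ideal A) (Ideal.isPrime_bot.isRadical)] at hj
  obtain ⟨m, hm⟩ := Ideal.exists_maximal A
  obtain ⟨φ, -, hdist, r, hr1, hrle, hx, hfx⟩ := spec m hm
  have hdvd : r ∣ R := Nat.dvd_factorial hr1 hrle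
  have hWfix : ∀ (g : M) i j, W g i j ^ (q ^ r) = W g i j := fun g i j =>
    hdist _ _ (by rw [← pow_mul, mul_comm, pow_mul, hfixQ]) (hfixQ g i j) (by rw [map_pow]; exact hfx g i j)
  refine ⟨r, hr1, fun s t ht => ?_, fun g hg i j => ?_⟩
  · have htQ : t ^ Q = t := pow_tower hdvd ht
    set tA : A := ⟨t, hZA t htQ⟩
    have htA : tA ^ (q ^ r) = tA := Subtype.ext ht
    obtain ⟨g, hg⟩ := hx s tA (by rw [← map_pow, htA])
    haveI : CharP A p := charP_of_injective_algebraMap (algebraMap (ZMod p) A).injective p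
    set σ : k →+* k := iterateFrobenius k p (a * R)
    have hσ : ∀ y, σ y = y ^ Q := fun y => by rw [hQa]; exact iterateFrobenius_def p (a * R) y
    have hent : ∀ i j, xMat D s tA i j ^ Q = xMat D s tA i j := fun i j => hinj (by
      have h : inc (xMat D s tA i j) = D.x k s t i j := congrFun (congrFun (xMat_map inc s tA) i) j
      rw [map_pow, h, ← hσ]
      exact (congrFun (congrFun (x_map (D := D) σ s t) i) j).trans (by rw [hσ, htQ]))
    have e : W g = xMat D s tA := Matrix.ext fun i j =>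
      hdist _ _ (hfixQ g i j) (hent i j) (congrFun (congrFun hg i) j)
    have : (g : GL D.Idx k) = hF.xg s t := Units.ext (by rw [← hW, e, xMat_map]; rfl)
    exact this ▸ g.2
  · rw [← hW ⟨g, hg⟩, Matrix.map_apply, ← map_pow, hWfix]

end Cfsg.Agent.Lie.SubMax
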